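import Cfsg.Agent.LFourA.LCent_mg_m3
import Cfsg.Agent.LFourB.MathieuFus_m3
import Cfsg.Agent.LFourA.KlGlue_m3
import Cfsg.Agent.LFourA.AltFunct
import Cfsg.Agent.StdAlt.Conj
import Cfsg.Agent.Lib.Refl
import Cfsg.Agent.StdAlt.Six.Main
import Mathlib
import Cfsg.Agent.GH.Q2.ModelSp4_m3
import Cfsg.Agent.StandardComponent.AltAut
import Cfsg.Agent.S0144
import Cfsg.Agent.LFourR.FixTorus_m3
import Cfsg.Agent.LFourR.QThree
import Cfsg.Agent.Lib.TwoClassEnd_m3
import Cfsg.Agent.SignalizersComponents.CoprimeGen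
import Cfsg.Agent.Dichotomy.CoreTools
import Cfsg.Agent.LargeExtra.W2.LFour.Main
import Cfsg.Agent.LargeExtra.W2.U43.Main
import Cfsg.Agent.S0205
import Cfsg.Agent.S0215
import Cfsg.Agent.S1169
import Cfsg.Agent.S1174
import Cfsg.Agent.S0222
import Cfsg.Agent.S1221
import Cfsg.Agent.ProdFusion.FunctorComplete_m3
import Cfsg.Agent.SignalizersComponents.SolFunctorTwo
import Cfsg.Agent.McLType.Final
import Cfsg.Agent.McLType.X275
import Cfsg.Agent.SporRec.TwoNine.Main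
import Cfsg.Agent.S0509
import Cfsg.Agent.S1179
import Cfsg.Agent.S0483
import Cfsg.Agent.S0484
import Cfsg.Agent.S0485
import Cfsg.Agent.FastGrp
import Cfsg.Agent.Prune
set_option linter.all false

section
prune_inst 0x7fbcfefbaff82ddfffff7e7ffedddffe39d5dfffffdffb4bffe0efffaf5f230639e5fb8d9de058ff0ef6e2b630b87813f9ffeabfef6bdc7ffffd5ff45ffbee1ff7ffbf8c11dfa8b41f7c6ffffbf17f8e7f3fffffffffffffffffffffffffffbeffffffffffff

-- part: LFour/BFive
section
set_option linter.all false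
open scoped Cfsg.Agent.FastGrp

/-!
# Statement S0510: the branch `q = 5 mod 8` (`|S| = 2 ^ 7`)

`G` simple with a Sylow 2-subgroup isomorphic to `M7`. The four fusion patterns: `M₂₂` (a1), `PSL₄`, `PSU₄` (a2),
`M₂₃` (b1), `McL` (b2). The external theorems are universal propositions, collected in `Ext`; pattern (a2) is `PatTwo`.
-/

set_option autoImplicit false
set_option linter.unusedSectionVars false

namespace Cfsg.Agent.LFour.BFive

open Subgroup Cfsg
open Cfsg.Agent.LFourB M7 MSevenFd MSevenFf StepEight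

universe u

/-- Glauberman's `Z*`-theorem (S0215) -/
def ZStar : Prop :=
  ∀ (G : Type u) [Group G] [Finite G] (P : Sylow 2 G) (u : G), orderOf u = 2 → u ∈ P →
    (∀ g : G, g * u * g⁻¹ ∈ P → g * u * g⁻¹ = u) →
    ∃ N : Subgroup G, N.Normal ∧ Odd (Nat.card N) ∧ ∀ g : G, (u * g * u⁻¹ * g⁻¹) ∈ N

/-- pattern (a2) -/
def PatTwo : Prop :=
  ∀ (G : Type u) [Group G] [Finite G] [IsSimpleGroup G] (S : Sylow 2 G) (φ : M7 →* G),
    Fus S φ → ¬ Tau φ → Q2 φ → ConclLU G

/-- patterns (a1) and (b1) -/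
def PatMathieu : Prop :=
  ∀ (G : Type u) [Group G] [Finite G] [IsSimpleGroup G] (S : Sylow 2 G) (φ : M7 →* G),
    Fus S φ → ¬ Q2 φ → Cfsg.IsM22 G ∨ Cfsg.IsM23 G

/-- pattern (b2) -/
def PatMcL : Prop :=
  ∀ (G : Type u) [Group G] [Finite G] [IsSimpleGroup G] (S : Sylow 2 G) (φ : M7 →* G),
    Fus S φ → Tau φ → Q2 φ → Cfsg.Agent.GH.Defs.HasAltCover G ∧ Cfsg.IsMcL G

section

variable {G : Type u} [Group G] [Finite G]

/-- an isomorphism `S ≃* M7` is an embedding -/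
theorem emb (S : Sylow 2 G) (e : (S : Subgroup G) ≃* M7) :
    Emb7 (S : Subgroup G) ((S : Subgroup G).subtype.comp e.symm.toMonoidHom) where
  inj := by
    intro x y hxy
    exact e.symm.injective (Subtype.ext hxy)
  range := by
    ext y
    constructor
    · rintro ⟨x, rfl⟩
      exact (e.symm x).2
    · intro hy
      exact ⟨e ⟨y, hy⟩, by
        show ((e.symm (e ⟨y, hy⟩) : (S : Subgroup G)) : G) = y
        rw [e.symm_apply_apply]⟩

/-- `z` is fused in `S` -/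
theorem exists_fused [IsSimpleGroup G] (hZ : ZStar.{u}) {S : Sylow 2 G} {φ : M7 →* G}
    (h : Emb7 (S : Subgroup G) φ) : ∃ g : G, g * φ z * g⁻¹ ∈ (S : Subgroup G) ∧ g * φ z * g⁻¹ ≠ φ z := by
  by_contra hcon
  push Not at hcon
  have hz1 : φ z ≠ 1 := by
    intro h1
    rw [← map_one φ] at h1
    exact absurd (h.inj h1) (by decide)
  have hz2 : orderOf (φ z) = 2 := by
    refine orderOf_eq_prime ?_ hz1
    rw [← map_pow]
    have : z ^ 2 = 1 := by decide
    rw [this, map_one]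
  obtain ⟨N, hN, hodd, hc⟩ := hZ G S (φ z) hz2 (h.mem z) hcon
  rcases hN.eq_bot_or_eq_top with h1 | h1
  · have hcen : φ z ∈ center G := by
      rw [mem_center_iff]
      intro g
      have h2 := hc g
      rw [h1, mem_bot] at h2
      calc g * φ z = (φ z * g * (φ z)⁻¹ * g⁻¹) * (g * φ z) := by rw [h2, one_mul]
        _ = φ z * g := by group
    rcases (inferInstance : (center G).Normal).eq_bot_or_eq_top with h2 | h2
    · rw [h2, mem_bot] at hcen
      exact hz1 hcen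
    · have h3 : φ x1 * φ y1 = φ y1 * φ x1 := by
        have h4 : φ y1 ∈ center G := by rw [h2]; exact mem_top _
        exact mem_center_iff.1 h4 (φ x1)
      rw [← map_mul, ← map_mul] at h3
      exact absurd (h.inj h3) (by decide)
  · rw [h1, card_top] at hodd
    have h2 : 2 ∣ Nat.card G := by
      rw [← hz2]; exact orderOf_dvd_natCard _
    exact (Nat.not_even_iff_odd.2 hodd) (even_iff_two_dvd.2 h2)

end

/-- **The branch `q = 5 mod 8` from its patterns.** -/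
theorem branch_of (hZ : ZStar.{u}) (hM : PatMathieu.{u}) (hA2 : PatTwo.{u}) (hB2 : PatMcL.{u}) : BranchB5R.{u} := by
  intro G _ _ _ P ⟨e⟩
  have h := emb P e
  obtain ⟨φ, F, -⟩ := exists_fus h (EightInst.index_ne_two h) (exists_fused hZ h)
  by_cases hQ : Q2 φ
  · by_cases hτ : Tau φ
    · exact Or.inr (Or.inr (Or.inr (hB2 G P φ F hτ hQ)))
    · exact Or.inl (hA2 G P φ F hτ hQ)
  · rcases hM G P φ F hQ with h1 | h1
    · exact Or.inr (Or.inl h1)
    · exact Or.inr (Or.inr (Or.inl h1))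

/-- the external theorems used in this branch (except for pattern (a2)) -/
structure Ext : Prop where
  /-- S0215 -/
  zstar : ZStar.{u}
  /-- S0205 -/
  ft : CoverCore.Functor.FT.{u}
  /-- the solvable 2-signalizer functor theorem -/
  sf : CoverCore.Functor.SFT.{u}
  /-- S1221 -/
  se : CoverCore.Main.SECore.{u}
  /-- the McLaughlin group -/
  mcl : CoverCore.AltEnd.HMcL.{u}
  nine : CoverCore.AltEnd.HNine.{u}
  /-- S0509 -/
  h509 : KTenMain.H509.{u}
  comm : MathieuFus.Comm.{u}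
  /-- S1169 -/
  gold : ∀ (L : Type u) [Group L] [Finite L] [IsSimpleGroup L], XKill.Gold L
  /-- S1174 -/
  gen : ∀ (L : Type u) [Group L] [Finite L] [IsSimpleGroup L], Gen L
  /-- S0222 -/
  ben : ∀ (L : Type u) [Group L] [Finite L] [IsSimpleGroup L], (∃ a b : L, a * b ≠ b * a) → Bender L
  /-- S1179 -/
  timm : ∀ (L : Type u) [Group L] [Finite L] [IsSimpleGroup L], ¬ IsMulCommutative L → Timm L

theorem exists_noncomm {G : Type u} [Group G] [Finite G] {S : Sylow 2 G} {φ : M7 →* G}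
    (h : Emb7 (S : Subgroup G) φ) : ∃ a b : G, a * b ≠ b * a := by
  refine ⟨φ x1, φ y1, fun e => ?_⟩
  rw [← map_mul, ← map_mul] at e
  exact absurd (h.inj e) (by decide)

theorem patMathieu (E : Ext.{u}) : PatMathieu.{u} := by
  intro G _ _ _ S φ F hQ
  have hnc := exists_noncomm F.emb
  refine MathieuFus.main E.comm E.gold F hQ (fun X => E.ft X) (E.gen G) (E.ben G hnc) (E.timm G ?_)
  intro hc
  obtain ⟨a, b, hab⟩ := hnc
  exact hab (hc.1.1 a b)

theorem patMcL (E : Ext.{u}) : PatMcL.{u} :=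
  fun _ _ _ _ _ _ F hτ hQ => McLEnd.main E.ft E.sf E.se E.mcl E.nine E.h509 F hτ hQ

/-- **The branch `q = 5 mod 8`.** -/
theorem branchB5R (E : Ext.{u}) (hA2 : PatTwo.{u}) : BranchB5R.{u} :=
  branch_of E.zstar (patMathieu E) hA2 (patMcL E)

end Cfsg.Agent.LFour.BFive
end

-- part: LFourA/AltCore
section
set_option linter.all false
open scoped Cfsg.Agent.FastGrp

/-!
# Case II: the core of `C(t)` is trivial
-/

set_option autoImplicit false

namespace Cfsg.Agent.LFourA.AltCore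

open Cfsg Subgroup
open Cfsg.Agent.LFourA.AltModel (U M pr t t' z)
open Cfsg.Agent.LFourA.AltPat (Alt)
open Cfsg.Agent.LFourA.AltInst (EE)
open Cfsg.Agent.LFourA.AltFive (CommThm)
open Cfsg.Agent.LFourA.AltZ9 (FT)

universe u

variable {G : Type u} [Group G] {S : Sylow 2 G} {F : M →* G}

/-- balance between `t_02` and `t_01` -/
def Adj (F : M →* G) : Prop :=
  centralizerPPrimeCore 2 (AltInst.tt F 0 2) ⊓ centralizer ({AltInst.tt F 0 1} : Set G) ≤
    centralizerPPrimeCore 2 (AltInst.tt F 0 1)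

/-- balance between `t_23` and `t_01` -/
def Disj (F : M →* G) : Prop :=
  centralizerPPrimeCore 2 (AltInst.tt F 2 3) ⊓ centralizer ({AltInst.tt F 0 1} : Set G) ≤
    centralizerPPrimeCore 2 (AltInst.tt F 0 1)

/-- generation of `C(t_01)` -/
def GenT (F : M →* G) : Prop :=
  ∀ L : Subgroup G, centralizerPPrimeCore 2 (AltInst.tt F 0 1) ≤ L → normalizer (EE F : Set G) ≤ L →
    (∀ g, g * AltInst.tt F 0 1 = AltInst.tt F 0 1 * g → g * AltInst.tt F 0 2 = AltInst.tt F 0 2 * g → g ∈ L) →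
    (∀ g, g * AltInst.tt F 0 1 = AltInst.tt F 0 1 * g → g * AltInst.tt F 0 4 = AltInst.tt F 0 4 * g → g ∈ L) →
    centralizer ({AltInst.tt F 0 1} : Set G) ≤ L

/-- the basis of `E` -/
def uu (F : M →* G) (i : Fin 5) : G := F (AltInst.zz i * AltInst.zz 4)

theorem tt_uu (i j : Fin 5) : AltFunct.tt (uu F) i j = AltInst.tt F i j := by
  rw [AltFunct.tt, uu, uu, ← map_mul, AltInst.tt]
  congr 1
  calc AltInst.zz i * AltInst.zz 4 * (AltInst.zz j * AltInst.zz 4) =
      AltInst.zz i * (AltInst.zz 4 * (AltInst.zz j * AltInst.zz 4)) := by group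
    _ = AltInst.zz i * (AltInst.zz 4 * (AltInst.zz 4 * AltInst.zz j)) := by rw [AltInst.zz_comm j 4]
    _ = AltInst.zz i * (AltInst.zz 4 * AltInst.zz 4) * AltInst.zz j := by group
    _ = _ := by rw [AltInst.zz_sq, mul_one]

theorem zz_uu : AltFunct.zz (uu F) = F z := by
  rw [AltFunct.zz, uu, uu, uu, uu, ← map_mul, ← map_mul, ← map_mul]
  congr 1

theorem EE_elem : IsElementaryAbelian 2 (EE F) := by
  refine ⟨⟨⟨?_⟩⟩, ?_⟩
  · rintro ⟨a, ha⟩ ⟨b, hb⟩
    exact Subtype.ext (AltInstB.EE_comm ha hb)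
  · intro a ha
    rw [pow_two]
    exact AltInstB.EE_sq ha

theorem tt_ne (P : Alt S F) {i j : Fin 5} (h : i ≠ j) : AltInst.tt F i j ≠ 1 := by
  have h1 : ∀ i j : Fin 5, i ≠ j → AltInst.zz i * AltInst.zz j ≠ 1 := by decide
  intro e
  exact h1 i j h (P.inj (e.trans (map_one F).symm))

theorem F_z_ne (P : Alt S F) : F z ≠ 1 := by
  intro e
  exact absurd (P.inj (e.trans (map_one F).symm)) (by decide)

variable [Finite G]

/-- the input of `AltFunct` -/
theorem inp (hFT : FT.{u}) (hC : CommThm.{u}) (P : Alt S F) (ha : Adj F) (hd : Disj F) (hg : GenT F) :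
    AltFunct.Inp S (EE F) (uu F) where
  elem := EE_elem
  card := AltInstB.card_EE P
  mem i := ⟨_, AltNilC.InE_mul _ _ (AltInst.zz_E _) (AltInst.zz_E _), rfl⟩
  four := by rw [uu, AltInst.zz_sq, map_one]
  ne i j hij := by rw [tt_uu]; exact tt_ne P hij
  zne := by rw [zz_uu]; exact F_z_ne P
  cover e he := by
    by_cases he1 : e = 1
    · exact Or.inl he1
    refine Or.inr ?_
    rcases AltInstB.EE_cases he he1 with ⟨i, rfl⟩ | ⟨i, j, hij, rfl⟩
    · refine Or.inr ⟨i, ?_⟩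
      have h1 : ∀ i : Fin 5, AltInst.zz i = z * (AltInst.zz i * AltInst.zz 4) := by decide
      rw [zz_uu, uu, ← map_mul, ← h1 i]
    · exact Or.inl ⟨i, j, hij.ne, (tt_uu i j).symm⟩
  perm σ := by
    obtain ⟨n, -, hn⟩ := AltInstB.exists_conj_tt P σ
    refine ⟨n, fun i j => ?_⟩
    rw [tt_uu, tt_uu]
    exact hn i j
  adj := by rw [tt_uu, tt_uu]; exact ha
  disj := by rw [tt_uu, tt_uu]; exact hd
  bz1 := by
    rw [tt_uu, zz_uu, AltInst.tt_t]
    exact AltZ8.bz hC P (AltZ1.F_mem_CZ t) (by rw [← map_mul, show t * t = 1 by decide, map_one])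
  bz2 := by
    rw [tt_uu, zz_uu, AltInst.tt]
    exact AltZ8.bz hC P (AltZ1.F_mem_CZ _) (by
      rw [← map_mul, show AltInst.zz 0 * AltInst.zz 4 * (AltInst.zz 0 * AltInst.zz 4) = 1 by decide, map_one])
  gen L h1 h2 h3 h4 := by
    rw [tt_uu] at h1 h3 h4 ⊢
    rw [tt_uu] at h3 h4
    exact hg L h1 h2 h3 h4
  cz L h1 h2 := by
    rw [zz_uu] at h1 ⊢
    exact (AltInst.cz hC P).trans (sup_le h1 h2)
  nS := by rw [zz_uu]; exact AltInstB.normalizer_S_le P
  cls L h1 h2 h3 v hv hv2 := by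
    rw [tt_uu, AltInst.tt_t] at h2 ⊢
    rw [zz_uu] at h3 ⊢
    obtain ⟨x, rfl, hx1, hx2⟩ := AltInstB.exists_of_involution P hv hv2
    exact AltInst.cls P L h1 h2 h3 hx1 hx2
  ntz := by rw [tt_uu, AltInst.tt_t, zz_uu]; exact P.tz
  solv e _ _ := by
    refine hFT _ ?_
    have : Fact (Nat.Prime 2) := ⟨Nat.prime_two⟩
    have h1 := Cfsg.Agent.Dichotomy.CoreTools.core_card 2 e
    exact Nat.odd_iff.2 (Nat.two_dvd_ne_zero.1 h1)

/-- **`O(C(t)) = 1`** -/
theorem core_tt [IsSimpleGroup G] (hFT : FT.{u}) (hC : CommThm.{u}) (P : Alt S F) (ha : Adj F) (hd : Disj F)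
    (hg : GenT F) {i j : Fin 5} (hij : i ≠ j) : centralizerPPrimeCore 2 (AltInst.tt F i j) = ⊥ := by
  rw [← tt_uu]
  exact (inp hFT hC P ha hd hg).core_eq_bot hij

/-- **`O(C(t)) = 1`** -/
theorem core_t [IsSimpleGroup G] (hFT : FT.{u}) (hC : CommThm.{u}) (P : Alt S F) (ha : Adj F) (hd : Disj F)
    (hg : GenT F) : centralizerPPrimeCore 2 (F t) = ⊥ := by
  rw [← AltInst.tt_t]
  exact core_tt hFT hC P ha hd hg (by decide)

end Cfsg.Agent.LFourA.AltCore

private theorem dce_f4cb88c87e26 : _root_.True := by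
  try have : _root_.True := by simp only [_root_.Cfsg.Agent.LFourA.AltCore.uu.eq_1]
  exact _root_.True.intro
end

-- part: LFourA/AltPlug
section
set_option linter.all false
open scoped Cfsg.Agent.FastGrp

/-!
# Case II: `O(C(t)) = 1`
-/

set_option autoImplicit false

namespace Cfsg.Agent.LFourA.AltPlug

open Cfsg Subgroup Equiv
open Cfsg.Agent.LFourA.AltModel (U M pr t t' z hom)
open Cfsg.Agent.LFourA.AltPat (Alt)
open Cfsg.Agent.LFourA.AltInst (EE)
open Cfsg.Agent.LFourA.AltFive (CommThm)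
open Cfsg.Agent.LFourA.AltZ9 (FT)
open Cfsg.Agent.LFourA.AltPsi (Psi)
open Cfsg.Agent.LFourA.AltAdj (Fct)

universe u

variable {G : Type u} [Group G] [Finite G] {S : Sylow 2 G} {F : M →* G} {n : ℕ} [NeZero n]
  {ψ : centralizer ({F t} : Set G) →* Perm (Fin n)}

omit [Finite G] in
theorem tt02 : AltInst.tt F 0 2 = F (pr U.y' U.y') * F (pr U.y U.y) * (F (pr U.y' U.y'))⁻¹ := by
  rw [AltInst.tt, ← map_inv, ← map_mul, ← map_mul]; congr 1

omit [Finite G] in
theorem tt04 : AltInst.tt F 0 4 = F (pr U.y' 1) * F (pr U.y 1) * (F (pr U.y' 1))⁻¹ := by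
  rw [AltInst.tt, ← map_inv, ← map_mul, ← map_mul]; congr 1

omit [Finite G] in
theorem conj_t (a b : U) : F (pr a b) * F t * (F (pr a b))⁻¹ = F t := by
  have h1 := mem_centralizer_singleton_iff.1 (AltPsi.pr_mem F a b)
  rw [h1, mul_inv_cancel_right]

theorem adj (P : Alt S F) (hψ : Psi F n ψ) (hF : Fct n) : AltCore.Adj F := by
  rintro x ⟨hx, hxt⟩
  rw [AltInst.tt_t] at hxt ⊢
  rw [tt02] at hx
  have hxt' := mem_centralizer_singleton_iff.1 hxt
  set g := F (pr U.y' U.y') with hg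
  have hgt := conj_t (F := F) U.y' U.y'
  rw [← hg] at hgt
  have e : g * (g⁻¹ * x * g) * g⁻¹ = x := by group
  rw [← e, AltAdj.core_transport hgt]
  have hx2 : g⁻¹ * x * g ∈ centralizerPPrimeCore 2 (F (pr U.y U.y)) := by
    rw [← AltAdj.core_transport (g := g) rfl, e]
    exact hx
  apply AltAdj.adj P hψ hF hx2
  have hgt' : g * F t = F t * g := mul_inv_eq_iff_eq_mul.1 hgt
  calc g⁻¹ * x * g * F t = g⁻¹ * (x * (g * F t)) := by group
    _ = g⁻¹ * (x * F t * g) := by rw [hgt']; group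
    _ = g⁻¹ * F t * x * g := by rw [hxt']; group
    _ = g⁻¹ * (F t * g) * g⁻¹ * x * g := by group
    _ = F t * (g⁻¹ * x * g) := by rw [← hgt']; group

theorem disj (P : Alt S F) (hψ : Psi F n ψ) (hF : Fct n) : AltCore.Disj F := by
  rintro x ⟨hx, hxt⟩
  rw [AltInst.tt_t] at hxt ⊢
  rw [AltInst.tt_t'] at hx
  exact AltAdj.disj P hψ hF hx (mem_centralizer_singleton_iff.1 hxt)

theorem genT (P : Alt S F) (hψ : Psi F n ψ) (hF : Fct n) : AltCore.GenT F := by
  intro L h1 h2 h3 h4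
  rw [AltInst.tt_t] at h1 h3 h4 ⊢
  have key : ∀ (a b : U) (v : G), (∀ g, g * F t = F t * g →
      g * (F (pr a b) * v * (F (pr a b))⁻¹) = F (pr a b) * v * (F (pr a b))⁻¹ * g → g ∈ L) →
      ∀ g, g * F t = F t * g → g * v = v * g → g ∈ L := by
    intro a b v hL g hg hgv
    have hm : F (pr a b) ∈ L := h2 (AltInst.F_mem_normalizer _)
    have hat : F (pr a b) * F t = F t * F (pr a b) := mul_inv_eq_iff_eq_mul.1 (conj_t a b)
    have h5 : F (pr a b) * g * (F (pr a b))⁻¹ ∈ L := by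
      apply hL
      · calc F (pr a b) * g * (F (pr a b))⁻¹ * F t =
            F (pr a b) * g * ((F (pr a b))⁻¹ * (F t * F (pr a b)) * (F (pr a b))⁻¹) := by group
          _ = F (pr a b) * g * ((F (pr a b))⁻¹ * (F (pr a b) * F t) * (F (pr a b))⁻¹) := by rw [hat]
          _ = F (pr a b) * (g * F t) * (F (pr a b))⁻¹ := by group
          _ = F (pr a b) * F t * g * (F (pr a b))⁻¹ := by rw [hg]; group
          _ = F t * (F (pr a b) * g * (F (pr a b))⁻¹) := by rw [hat]; group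
      · calc F (pr a b) * g * (F (pr a b))⁻¹ * (F (pr a b) * v * (F (pr a b))⁻¹) =
            F (pr a b) * (g * v) * (F (pr a b))⁻¹ := by group
          _ = _ := by rw [hgv]; group
    have h6 : g = (F (pr a b))⁻¹ * (F (pr a b) * g * (F (pr a b))⁻¹) * F (pr a b) := by group
    rw [h6]
    exact mul_mem (mul_mem (inv_mem hm) h5) hm
  apply AltAdj.gen P hψ hF L h1
  · rintro g ⟨hg, hg'⟩
    rw [tt02] at h3
    exact key _ _ _ h3 g (mem_centralizer_singleton_iff.1 hg) (mem_centralizer_singleton_iff.1 hg')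
  · rintro g ⟨hg, hg'⟩
    rw [tt04] at h4
    exact key _ _ _ h4 g (mem_centralizer_singleton_iff.1 hg) (mem_centralizer_singleton_iff.1 hg')
  · exact h2 (AltInst.F_mem_normalizer _)

/-- **`O(C(t)) = 1` from the homomorphism `ψ`** -/
theorem core_t_of_psi [IsSimpleGroup G] (hFT : FT.{u}) (hC : CommThm.{u}) (P : Alt S F) (hψ : Psi F n ψ)
    (hF : Fct n) : centralizerPPrimeCore 2 (F t) = ⊥ :=
  AltCore.core_t hFT hC P (adj P hψ hF) (disj P hψ hF) (genT P hψ hF)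

/-- **`O(C(t)) = 1` and `C(t) / V_o ≃ S₆`, `S₇`.** -/
theorem main [IsSimpleGroup G] (hFT : FT.{u}) (hC : CommThm.{u})
    (hGW : ∀ (X : Type u) [Group X] [Finite X] [Group.IsPerfect X]
      (S : Sylow 2 X) (n : ℕ), 2 ≤ n → Nonempty ((S : Subgroup X) ≃* DihedralGroup n) →
      (∃ (F : Type) (_ : Field F) (_ : Fintype F), Odd (Fintype.card F) ∧ 3 < Fintype.card F ∧
        Nonempty (X ⧸ Cfsg.oddCore X ≃* Matrix.ProjectiveSpecialLinearGroup (Fin 2) F)) ∨
      Nonempty (X ⧸ Cfsg.oddCore X ≃* alternatingGroup (Fin 7)))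
    {f : Model.D 0 → Model.D 0 → G} {ww : G} (h : Model.DWr (S : Subgroup G) 0 f ww) (hI : Defs.CaseII f ww) :
    Alt S (hom h) ∧ centralizerPPrimeCore 2 (hom h t) = ⊥ ∧
      ((∃ ψ, Psi (hom h) 6 ψ) ∨ ∃ ψ, Psi (hom h) 7 ψ) := by
  have P := Alt.of_caseII S h hI
  have hpsi := AltPsi.exists_psi h hI hGW (AltZ9.solvable hFT hC P)
  refine ⟨P, ?_, hpsi⟩
  rcases hpsi with ⟨ψ, hψ⟩ | ⟨ψ, hψ⟩
  · exact core_t_of_psi hFT hC P hψ AltAdj.fct6
  · exact core_t_of_psi hFT hC P hψ AltAdj.fct7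

end Cfsg.Agent.LFourA.AltPlug
end

-- part: LFourA/AltEnd
section
prune_inst 0x104400092200000018001220001c4282000002004b0001d100040804c69c6120002621f0600b1011108c6400380060015400094010000000000200411c0080000236c20140a00821000000e807180c00000000000000000000000000041000000000000
set_option linter.all false
open scoped Cfsg.Agent.FastGrp

/-!
# Case II: the component of `C(t)`

`V = F(V_o × 1)`, `D = C(V)`, `L = [D, D]`. If `O(C(t)) = 1` then `L ≅ A_n`, `L ∩ V = 1` and `V` is a Sylow 2-subgroup of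
`C(L)`; `L` has the properties `TE` of a standard subgroup.
-/

set_option autoImplicit false

namespace Cfsg.Agent.LFourA.AltEnd

open Equiv Equiv.Perm Subgroup
open Cfsg.Agent.LFourA.AltModel Cfsg.Agent.LFourA.AltPat Cfsg.Agent.LFourA.AltPsi Cfsg.Agent.LFourA.AltPsiStd

universe u

/-! ### permutations -/

theorem exists_notMem {n : ℕ} (s : Finset (Fin n)) (h : s.card < n) : ∃ j, j ∉ s := by
  by_contra h1
  push Not at h1
  have h2 : s = Finset.univ := Finset.eq_univ_iff_forall.2 h1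
  rw [h2, Finset.card_univ, Fintype.card_fin] at h
  exact lt_irrefl _ h

/-- the centralizer of `A_n` in `S_n` is trivial -/
theorem eq_one_of_comm {n : ℕ} (hn : 4 ≤ n) {σ : Perm (Fin n)}
    (h : ∀ τ ∈ alternatingGroup (Fin n), σ * τ = τ * σ) : σ = 1 := by
  ext i
  rw [Perm.one_apply]
  by_contra hi
  have hi' : σ i ≠ i := fun e => hi (by rw [e])
  obtain ⟨j, hj⟩ := exists_notMem {i, σ i} (lt_of_le_of_lt (Finset.card_le_two) (by omega))
  obtain ⟨k, hk⟩ := exists_notMem {i, σ i, j} (lt_of_le_of_lt (Finset.card_le_three) (by omega))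
  simp only [Finset.mem_insert, Finset.mem_singleton, not_or] at hj hk
  have hmem : swap i j * swap j k ∈ alternatingGroup (Fin n) := by
    rw [mem_alternatingGroup, map_mul, sign_swap (Ne.symm hj.1), sign_swap (Ne.symm hk.2.2)]
    rfl
  have h1 := congrArg (fun τ : Perm (Fin n) => τ i) (h _ hmem)
  simp only [Perm.mul_apply] at h1
  rw [swap_apply_of_ne_of_ne (Ne.symm hj.1) (Ne.symm hk.1), swap_apply_left,
    swap_apply_of_ne_of_ne (Ne.symm hj.2) (Ne.symm hk.2.1), swap_apply_of_ne_of_ne hi' (Ne.symm hj.2)] at h1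
  exact hj.1 (σ.injective h1)

/-! ### the model -/

/-- `V_o × 1` -/
def Vo : Subgroup M where
  carrier := {x | x.m = false ∧ x.a.p = false ∧ x.b = 1}
  one_mem' := by decide
  mul_mem' {x y} hx hy := (by decide +kernel : ∀ x : M, (x.m = false ∧ x.a.p = false ∧ x.b = 1) →
    ∀ y : M, (y.m = false ∧ y.a.p = false ∧ y.b = 1) → ((x * y).m = false ∧ (x * y).a.p = false ∧ (x * y).b = 1)) x hx y hy
  inv_mem' {x} := by revert x; decide +kernel

/-- `V_o × U` -/
def Bo : Subgroup M where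
  carrier := {x | x.m = false ∧ x.a.p = false}
  one_mem' := by decide
  mul_mem' {x y} := by revert x y; decide +kernel
  inv_mem' {x} := by revert x; decide +kernel

theorem mem_Vo {x : M} : x ∈ Vo ↔ x.m = false ∧ x.a.p = false ∧ x.b = 1 := Iff.rfl
theorem Vo_cases : ∀ x : M, x.m = false ∧ x.a.p = false ∧ x.b = 1 → x = 1 ∨ x = t ∨ x = pr U.y' 1 ∨ x = pr (U.y' * U.c) 1 := by
  decide +kernel
theorem Vo_comm : ∀ x y : M, (x.m = false ∧ x.a.p = false ∧ x.b = 1) → (y.m = false ∧ y.a.p = false) → x * y = y * x := by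
  (set_option synthInstance.maxSize 100000 in exact Cfsg.Agent.Lib.Refl.of (by decide +kernel))
theorem Vo_sq : ∀ x : M, (x.m = false ∧ x.a.p = false ∧ x.b = 1) → x * x = 1 := by decide +kernel

instance : DecidablePred (· ∈ Bo) := fun x => decidable_of_iff (x.m = false ∧ x.a.p = false) Iff.rfl

theorem card_Bo : Nat.card Bo = 32 := by
  rw [Nat.card_eq_fintype_card]
  have h : Fintype.card {x : M // x.m = false ∧ x.a.p = false} = 32 := by decide +kernel
  exact (Fintype.card_congr (Equiv.refl _)).trans h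

/-- the sign of the second coordinate -/
def sq (x : M) : ℤˣ := if x.a.q then -1 else 1
/-- the sign of the third coordinate -/
def sr (x : M) : ℤˣ := if x.a.r then -1 else 1

theorem sq_mul : ∀ x y : M, (x.m = false ∧ x.a.p = false) → (y.m = false ∧ y.a.p = false) → sq (x * y) = sq x * sq y := by
  (delta Cfsg.Agent.LFourA.AltEnd.sq; set_option synthInstance.maxSize 100000 in exact Cfsg.Agent.Lib.Refl.of (by decide +kernel))
theorem sr_mul : ∀ x y : M, (x.m = false ∧ x.a.p = false) → (y.m = false ∧ y.a.p = false) → sr (x * y) = sr x * sr y := by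
  (delta Cfsg.Agent.LFourA.AltEnd.sr; set_option synthInstance.maxSize 100000 in exact Cfsg.Agent.Lib.Refl.of (by decide +kernel))
theorem eq_one_of_signs : ∀ x : M, (x.m = false ∧ x.a.p = false ∧ x.b = 1) → sq x = 1 → sr x = 1 → x = 1 := by
  decide +kernel

/-- `sq` as a homomorphism -/
def sqHom : Bo →* ℤˣ := MonoidHom.mk' (fun x => sq x) (fun x y => sq_mul x y x.2 y.2)
/-- `sr` as a homomorphism -/
def srHom : Bo →* ℤˣ := MonoidHom.mk' (fun x => sr x) (fun x y => sr_mul x y x.2 y.2)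

/-! ### transfer of a homomorphism defined on a subgroup of odd index -/

theorem transfer_central {D : Type*} [Group D] [Finite D] {H : Subgroup D} (hodd : Odd H.index) (φ : H →* ℤˣ) {v : D}
    (hv : ∀ d : D, v * d = d * v) (hvH : v ∈ H) (hvv : v * v = 1) : MonoidHom.transfer φ v = φ ⟨v, hvH⟩ := by
  have key : ∀ (k : ℕ) (g₀ : D), g₀⁻¹ * v ^ k * g₀ ∈ H → g₀⁻¹ * v ^ k * g₀ = v ^ k := by
    intro k g₀ _
    have h1 : Commute (v ^ k) g₀ := (Commute.pow_left (hv g₀) k)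
    rw [mul_assoc, h1.eq, ← mul_assoc, inv_mul_cancel, one_mul]
  rw [MonoidHom.transfer_eq_pow φ v key]
  congr 1
  apply Subtype.ext
  obtain ⟨m, hm⟩ := hodd
  change v ^ H.index = v
  rw [hm, pow_succ, pow_mul, pow_two, hvv, one_pow, one_mul]

theorem hom_commutator {D : Type*} [Group D] (τ : D →* ℤˣ) {v : D} (hv : v ∈ commutator D) : τ v = 1 := by
  have h := Abelianization.commutator_subset_ker τ hv
  exact h

variable {G : Type u} [Group G] {S : Sylow 2 G} {F : M →* G}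

/-- `F(V_o × 1)` -/
def VO (F : M →* G) : Subgroup G := Vo.map F
/-- `C(V_o)` -/
def DD (F : M →* G) : Subgroup G := centralizer (VO F : Set G)
/-- the component of `C(t)` -/
def LL (F : M →* G) : Subgroup G := ⁅DD F, DD F⁆

theorem mem_VO {g : G} : g ∈ VO F ↔ ∃ x : M, (x.m = false ∧ x.a.p = false ∧ x.b = 1) ∧ F x = g := Iff.rfl

theorem mem_VO' {g : G} : g ∈ VO F ↔ ∃ v : U, v.p = false ∧ g = F (pr v 1) := by
  rw [mem_VO]
  constructor
  · rintro ⟨x, ⟨h1, h2, h3⟩, rfl⟩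
    refine ⟨x.a, h2, ?_⟩
    congr 1
    exact M.ext rfl h3 h1
  · rintro ⟨v, hv, rfl⟩
    exact ⟨_, ⟨rfl, hv, rfl⟩, rfl⟩

theorem VO_cases {g : G} (h : g ∈ VO F) : g = 1 ∨ g = F t ∨ g = F (pr U.y' 1) ∨ g = F (pr (U.y' * U.c) 1) := by
  obtain ⟨x, hx, rfl⟩ := h
  rcases Vo_cases x hx with rfl | rfl | rfl | rfl
  · exact Or.inl (map_one F)
  · exact Or.inr (Or.inl rfl)
  · exact Or.inr (Or.inr (Or.inl rfl))
  · exact Or.inr (Or.inr (Or.inr rfl))

theorem t_mem : F t ∈ VO F := ⟨_, mem_Vo.2 (by decide), rfl⟩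
theorem y'_mem : F (pr U.y' 1) ∈ VO F := ⟨_, mem_Vo.2 (by decide), rfl⟩
theorem y'c_mem : F (pr (U.y' * U.c) 1) ∈ VO F := ⟨_, mem_Vo.2 (by decide), rfl⟩

theorem VO_sq {g : G} (h : g ∈ VO F) : g * g = 1 := by
  obtain ⟨x, hx, rfl⟩ := h
  rw [← map_mul, Vo_sq x hx, map_one]

theorem VO_comm {a b : G} (ha : a ∈ VO F) (hb : b ∈ VO F) : a * b = b * a := by
  obtain ⟨x, hx, rfl⟩ := ha
  obtain ⟨y, hy, rfl⟩ := hb
  rw [← map_mul, Vo_comm x y hx ⟨hy.1, hy.2.1⟩, map_mul]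

theorem mem_DD {g : G} : g ∈ DD F ↔ ∀ v ∈ VO F, g * v = v * g := by
  rw [DD, mem_centralizer_iff]
  exact ⟨fun h v hv => (h v hv).symm, fun h v hv => (h v hv).symm⟩

theorem VO_le_DD : VO F ≤ DD F := fun _ hg => mem_DD.2 fun _ hv => VO_comm hg hv

theorem DD_le_CC : DD F ≤ centralizer ({F t} : Set G) := fun _ hg =>
  mem_centralizer_singleton_iff.2 (mem_DD.1 hg _ t_mem)

theorem VO_le_CC : VO F ≤ centralizer ({F t} : Set G) := VO_le_DD.trans DD_le_CC

theorem LL_le_DD : LL F ≤ DD F := commutator_le_self _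

theorem Bo_le_DD : Bo.map F ≤ DD F := by
  rintro _ ⟨x, hx, rfl⟩
  rw [mem_DD]
  rintro _ ⟨y, hy, rfl⟩
  rw [← map_mul, ← Vo_comm y x hy hx, map_mul]

theorem normalizer_le : normalizer (VO F : Set G) ≤ normalizer (LL F : Set G) := by
  intro g hg
  have h1 : g ∈ normalizer (DD F : Set G) := by
    rw [mem_normalizer_iff]
    intro x
    rw [mem_normalizer_iff] at hg
    constructor
    · intro hx
      rw [mem_DD] at hx ⊢
      intro v hv
      have h2 : g⁻¹ * v * g ∈ VO F := (hg _).2 (by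
        have e : g * (g⁻¹ * v * g) * g⁻¹ = v := by group
        rw [e]; exact hv)
      have h3 := hx _ h2
      calc g * x * g⁻¹ * v = g * (x * (g⁻¹ * v * g)) * g⁻¹ := by group
        _ = g * (g⁻¹ * v * g * x) * g⁻¹ := by rw [h3]
        _ = _ := by group
    · intro hx
      rw [mem_DD] at hx ⊢
      intro v hv
      have h3 := hx _ ((hg _).1 hv)
      calc x * v = g⁻¹ * (g * x * g⁻¹ * (g * v * g⁻¹)) * g := by group
        _ = g⁻¹ * (g * v * g⁻¹ * (g * x * g⁻¹)) * g := by rw [h3]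
        _ = _ := by group
  rw [mem_normalizer_iff_map_conj_eq] at h1 ⊢
  refine (map_commutator _ _ _).trans ?_
  rw [h1]
  rfl

section psi

variable {n : ℕ} [NeZero n] {ψ : centralizer ({F t} : Set G) →* Perm (Fin n)}

/-- the kernel of `ψ` -/
theorem psi_eq_one (hψ : Psi F n ψ) (hO : Cfsg.centralizerPPrimeCore 2 (F t) = ⊥) {x : G}
    (hx : x ∈ centralizer ({F t} : Set G)) : ψ ⟨x, hx⟩ = 1 ↔ x ∈ VO F := by
  rw [hψ.ker, mem_VO']
  constructor
  · rintro ⟨v, hv, o, ho, e⟩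
    rw [hO, mem_bot] at ho
    exact ⟨v, hv, by rw [ho, mul_one] at e; exact e⟩
  · rintro ⟨v, hv, e⟩
    exact ⟨v, hv, 1, one_mem _, by rw [mul_one]; exact e⟩

variable (hψ : Psi F n ψ) (hO : Cfsg.centralizerPPrimeCore 2 (F t) = ⊥)

include hψ hO

theorem CC_le : centralizer ({F t} : Set G) ≤ normalizer (VO F : Set G) := by
  have key : ∀ g ∈ centralizer ({F t} : Set G), ∀ v ∈ VO F, g * v * g⁻¹ ∈ VO F := by
    intro g hg v hv
    have hvC := VO_le_CC hv
    rw [← psi_eq_one hψ hO (mul_mem (mul_mem hg hvC) (inv_mem hg))]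
    have h1 := (psi_eq_one hψ hO hvC).2 hv
    have e : (⟨g * v * g⁻¹, mul_mem (mul_mem hg hvC) (inv_mem hg)⟩ : centralizer ({F t} : Set G)) =
        ⟨g, hg⟩ * ⟨v, hvC⟩ * ⟨g, hg⟩⁻¹ := rfl
    rw [e, map_mul, map_mul, h1, mul_one, map_inv, mul_inv_cancel]
  intro g hg
  rw [mem_normalizer_iff]
  intro v
  refine ⟨key g hg v, fun h => ?_⟩
  have h1 := key _ (inv_mem hg) _ h
  have e : g⁻¹ * (g * v * g⁻¹) * g⁻¹⁻¹ = v := by group
  rwa [e] at h1

theorem CC_le_LL : centralizer ({F t} : Set G) ≤ normalizer (LL F : Set G) := (CC_le hψ hO).trans normalizer_le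

/-- the value of the conjugation on `F(y', 1)` -/
theorem conj_y' (P : Alt S F) {g : G} (hg : g ∈ centralizer ({F t} : Set G)) :
    g * F (pr U.y' 1) * g⁻¹ = F (pr U.y' 1) ∨ g * F (pr U.y' 1) * g⁻¹ = F (pr (U.y' * U.c) 1) := by
  have h1 := (mem_normalizer_iff.1 (CC_le hψ hO hg) _).1 y'_mem
  have h2 : g * F t * g⁻¹ = F t := by
    rw [mem_centralizer_singleton_iff.1 hg, mul_inv_cancel_right]
  rcases VO_cases h1 with h | h | h | h
  · exfalso
    rw [conj_eq_one_iff] at h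
    exact absurd (P.inj (h.trans (map_one F).symm)) (by decide)
  · exfalso
    have h3 : F (pr U.y' 1) = F t := by
      have := h.trans h2.symm
      exact mul_left_cancel (mul_right_cancel this)
    exact absurd (P.inj h3) (by decide)
  · exact Or.inl h
  · exact Or.inr h

theorem mem_DD_iff {g : G} (hg : g ∈ centralizer ({F t} : Set G)) :
    g ∈ DD F ↔ g * F (pr U.y' 1) * g⁻¹ = F (pr U.y' 1) := by
  have h2 : g * F t * g⁻¹ = F t := by
    rw [mem_centralizer_singleton_iff.1 hg, mul_inv_cancel_right]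
  rw [mem_DD]
  constructor
  · intro h
    rw [h _ y'_mem, mul_inv_cancel_right]
  · intro h v hv
    have h3 : g * v * g⁻¹ = v := by
      rcases VO_cases hv with rfl | rfl | rfl | rfl
      · group
      · exact h2
      · exact h
      · have e : F (pr (U.y' * U.c) 1) = F (pr U.y' 1) * F t := by rw [← map_mul]; congr 1
        rw [e]
        calc g * (F (pr U.y' 1) * F t) * g⁻¹ = (g * F (pr U.y' 1) * g⁻¹) * (g * F t * g⁻¹) := by group
          _ = _ := by rw [h, h2]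
    calc g * v = g * v * g⁻¹ * g := by group
      _ = v * g := by rw [h3]

/-- `D` has index two in `C(t)` -/
theorem index_DD (P : Alt S F) : ((DD F).subgroupOf (centralizer ({F t} : Set G))).index = 2 := by
  rw [index_eq_two_iff]
  refine ⟨⟨F (pr U.y 1), pr_mem F _ _⟩, ?_⟩
  rintro ⟨b, hb⟩
  rw [mem_subgroupOf, mem_subgroupOf]
  change Xor (b * F (pr U.y 1) ∈ DD F) (b ∈ DD F)
  rw [mem_DD_iff hψ hO hb, mem_DD_iff hψ hO (mul_mem hb (pr_mem F _ _))]
  have h2 : b * F t * b⁻¹ = F t := by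
    rw [mem_centralizer_singleton_iff.1 hb, mul_inv_cancel_right]
  have h1 : b * F (pr U.y 1) * F (pr U.y' 1) * (b * F (pr U.y 1))⁻¹ = b * F (pr U.y' 1) * b⁻¹ * F t := by
    have e : F (pr U.y 1) * F (pr U.y' 1) * (F (pr U.y 1))⁻¹ = F (pr U.y' 1) * F t := by
      rw [← map_inv, ← map_mul, ← map_mul, ← map_mul]; congr 1
    calc b * F (pr U.y 1) * F (pr U.y' 1) * (b * F (pr U.y 1))⁻¹ =
        b * (F (pr U.y 1) * F (pr U.y' 1) * (F (pr U.y 1))⁻¹) * b⁻¹ := by group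
      _ = b * (F (pr U.y' 1) * F t) * b⁻¹ := by rw [e]
      _ = b * F (pr U.y' 1) * b⁻¹ * (b * F t * b⁻¹) := by group
      _ = _ := by rw [h2]
  rw [h1]
  have e1 : F (pr (U.y' * U.c) 1) * F t = F (pr U.y' 1) := by rw [← map_mul]; congr 1
  have e2 : F (pr U.y' 1) * F t = F (pr (U.y' * U.c) 1) := by rw [← map_mul]; congr 1
  have hne : F (pr (U.y' * U.c) 1) ≠ F (pr U.y' 1) := fun e => absurd (P.inj e) (by decide)
  rcases conj_y' hψ hO P hb with h | h
  · rw [h, e2]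
    exact Or.inr ⟨rfl, hne⟩
  · rw [h, e1]
    exact Or.inl ⟨rfl, hne⟩

theorem map_DD (P : Alt S F) : ((DD F).subgroupOf (centralizer ({F t} : Set G))).map ψ = alternatingGroup (Fin n) := by
  apply eq_alternatingGroup_of_index_eq_two
  rw [index_map_eq _ hψ.surj, index_DD hψ hO P]
  intro x hx
  rw [MonoidHom.mem_ker] at hx
  exact VO_le_DD ((psi_eq_one hψ hO x.2).1 hx)

theorem map_LL (P : Alt S F) (hn : 5 ≤ n) :
    ((LL F).subgroupOf (centralizer ({F t} : Set G))).map ψ = alternatingGroup (Fin n) := by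
  have h1 : (LL F).subgroupOf (centralizer ({F t} : Set G)) =
      ⁅(DD F).subgroupOf (centralizer ({F t} : Set G)), (DD F).subgroupOf (centralizer ({F t} : Set G))⁆ := by
    apply map_injective (subtype_injective (centralizer ({F t} : Set G)))
    rw [map_commutator, subgroupOf_map_subtype, subgroupOf_map_subtype, inf_of_le_left DD_le_CC,
      inf_of_le_left (LL_le_DD.trans DD_le_CC)]
    rfl
  rw [h1, map_commutator, map_DD hψ hO P]
  apply commutator_alternatingGroup_eq_self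
  rw [Nat.card_eq_fintype_card, Fintype.card_fin]
  exact hn

end psi

end Cfsg.Agent.LFourA.AltEnd

private theorem dce_0fa19623eb27 : _root_.True := by
  try have : _root_.True := by simp only [_root_.Cfsg.Agent.LFourA.AltEnd.DD.eq_1]
  exact _root_.True.intro
end

-- part: LFourA/AltEndB
section
set_option linter.all false
open scoped Cfsg.Agent.FastGrp

/-!
# Case II: `V_o` is a Sylow 2-subgroup of the centralizer of the component
-/

set_option autoImplicit false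

namespace Cfsg.Agent.LFourA.AltEndB

open Equiv Equiv.Perm Subgroup
open Cfsg.Agent.LFourA.AltModel Cfsg.Agent.LFourA.AltPat Cfsg.Agent.LFourA.AltPsi Cfsg.Agent.LFourA.AltPsiStd
  Cfsg.Agent.LFourA.AltEnd
open Cfsg.Agent.StdAlt.Conj (C N Cj TE mem_C mem_N)

universe u

variable {G : Type u} [Group G] {S : Sylow 2 G} {F : M →* G}

theorem card_VO (P : Alt S F) : Nat.card (VO F) = 4 := by
  rw [VO, card_map_of_injective P.inj]
  have h : Fintype.card {x : M // x.m = false ∧ x.a.p = false ∧ x.b = 1} = 4 := by decide +kernel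
  rw [← h, ← Nat.card_eq_fintype_card]
  rfl

section psi

variable {n : ℕ} [NeZero n] {ψ : centralizer ({F t} : Set G) →* Perm (Fin n)}
variable (hψ : Psi F n ψ) (hO : Cfsg.centralizerPPrimeCore 2 (F t) = ⊥)

include hψ hO

section

variable [Finite G]

/-- `F(V_o × U)` has odd index in `D` -/
theorem odd_index (P : Alt S F) : Odd ((Bo.map F).subgroupOf (DD F)).index := by
  have h2 : Fact (Nat.Prime 2) := ⟨Nat.prime_two⟩
  obtain ⟨Q, hQ⟩ := exists_sylow_t P
  have h1 : ¬ 2 ∣ (AltNil.Bsub.map F).relIndex (centralizer ({F t} : Set G)) := by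
    have h3 := Q.not_dvd_index
    rw [hQ] at h3
    exact h3
  have hBC : AltNil.Bsub.map F ≤ centralizer ({F t} : Set G) := by
    rintro _ ⟨x, hx, rfl⟩
    exact (AltNil.F_mem_CT hx).1
  have hBB : Bo.map F ≤ AltNil.Bsub.map F := map_mono fun x hx => hx.1
  have e1 := relIndex_mul_relIndex _ _ _ hBB hBC
  have e2 := relIndex_mul_relIndex _ _ _ (Bo_le_DD (F := F)) DD_le_CC
  have e3 : (DD F).relIndex (centralizer ({F t} : Set G)) = 2 := index_DD hψ hO P
  have e4 := relIndex_mul_relIndex _ _ _ (bot_le (a := Bo.map F)) hBB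
  rw [relIndex_bot_left, relIndex_bot_left, card_map_of_injective P.inj, card_map_of_injective P.inj, card_Bo,
    AltNil.card_Bsub] at e4
  have e5 : (Bo.map F).relIndex (AltNil.Bsub.map F) = 2 := by omega
  rw [e5] at e1
  rw [e3] at e2
  change Odd ((Bo.map F).relIndex (DD F))
  rw [Nat.odd_iff]
  omega

/-- `V_o ∩ L = 1` -/
theorem eq_one_of_mem (P : Alt S F) {g : G} (h1 : g ∈ VO F) (h2 : g ∈ LL F) : g = 1 := by
  obtain ⟨x, hx, rfl⟩ := h1
  have hodd := odd_index hψ hO P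
  have hD : F x ∈ DD F := LL_le_DD h2
  have hxB : x ∈ Bo := ⟨hx.1, hx.2.1⟩
  have hH : (⟨F x, hD⟩ : DD F) ∈ (Bo.map F).subgroupOf (DD F) := mem_subgroupOf.2 ⟨x, hxB, rfl⟩
  have hcomm : (⟨F x, hD⟩ : DD F) ∈ commutator (DD F) := by
    have h3 : F x ∈ (commutator (DD F)).map (DD F).subtype := by
      rw [map_subtype_commutator]
      exact h2
    obtain ⟨y, hy, e⟩ := h3
    have : y = ⟨F x, hD⟩ := Subtype.ext e
    rwa [← this]
  have hcen : ∀ d : DD F, (⟨F x, hD⟩ : DD F) * d = d * ⟨F x, hD⟩ := by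
    intro d
    exact Subtype.ext (mem_DD.1 d.2 _ ⟨x, hx, rfl⟩).symm
  have hsq : (⟨F x, hD⟩ : DD F) * ⟨F x, hD⟩ = 1 := Subtype.ext (VO_sq ⟨x, hx, rfl⟩)
  -- the homomorphism
  let e := Bo.equivMapOfInjective F P.inj
  let r := (subgroupOfEquivOfLe (Bo_le_DD (F := F)))
  have key : ∀ κ : Bo →* ℤˣ, κ ⟨x, hxB⟩ = 1 := by
    intro κ
    let φ : (Bo.map F).subgroupOf (DD F) →* ℤˣ := κ.comp (e.symm.toMonoidHom.comp r.toMonoidHom)
    have h3 := transfer_central hodd φ hcen hH hsq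
    rw [hom_commutator _ hcomm] at h3
    have h4 : e.symm (r ⟨⟨F x, hD⟩, hH⟩) = ⟨x, hxB⟩ := by
      rw [MulEquiv.symm_apply_eq]
      rfl
    have h5 : φ ⟨⟨F x, hD⟩, hH⟩ = κ ⟨x, hxB⟩ := by
      change κ (e.symm (r ⟨⟨F x, hD⟩, hH⟩)) = _
      rw [h4]
    rw [← h5, ← h3]
  have h3 : x = 1 := eq_one_of_signs x hx (key sqHom) (key srHom)
  rw [h3, map_one]

/-- `L ≅ A_n` -/
theorem exists_equiv (P : Alt S F) (hn : 5 ≤ n) : Nonempty (LL F ≃* alternatingGroup (Fin n)) := by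
  have hle : LL F ≤ centralizer ({F t} : Set G) := LL_le_DD.trans DD_le_CC
  let φ : LL F →* Perm (Fin n) := ψ.comp (inclusion hle)
  have hinj : Function.Injective φ := by
    rw [injective_iff_map_eq_one]
    rintro ⟨g, hg⟩ h
    exact Subtype.ext (eq_one_of_mem hψ hO P ((psi_eq_one hψ hO (hle hg)).1 h) hg)
  have hr : φ.range = alternatingGroup (Fin n) := by
    rw [← map_LL hψ hO P hn]
    ext σ
    constructor
    · rintro ⟨⟨g, hg⟩, rfl⟩
      exact ⟨⟨g, hle hg⟩, mem_subgroupOf.2 hg, rfl⟩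
    · rintro ⟨⟨g, hgC⟩, hg, rfl⟩
      exact ⟨⟨g, mem_subgroupOf.1 hg⟩, rfl⟩
  exact ⟨(MonoidHom.ofInjective hinj).trans (MulEquiv.subgroupCongr hr)⟩

/-- `C(L) ∩ C(t) = V_o` -/
theorem mem_VO_of (P : Alt S F) (hn : 5 ≤ n) {g : G} (h1 : g ∈ C (LL F)) (h2 : g ∈ centralizer ({F t} : Set G)) :
    g ∈ VO F := by
  rw [← psi_eq_one hψ hO h2]
  apply eq_one_of_comm (by omega)
  intro τ hτ
  rw [← map_LL hψ hO P hn] at hτ
  obtain ⟨l, hl, rfl⟩ := hτ
  rw [← map_mul, ← map_mul]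
  congr 1
  exact Subtype.ext (mem_C.1 h1 _ (mem_subgroupOf.1 hl))

omit hψ hO in
theorem VO_le_C : VO F ≤ C (LL F) := by
  intro v hv
  rw [mem_C]
  intro a ha
  exact (mem_DD.1 (LL_le_DD ha) v hv).symm

/-- auxiliary -/
theorem swap_aux (P : Alt S F) (hn : 5 ≤ n) {g B B' : G} (hg : g ∈ C (LL F)) (hm : ∃ m, orderOf g = 2 ^ m)
    (hB : B ∈ VO F) (hBB : B * B' = F t) (hBB' : B * F t = B') (hne : B ≠ B')
    (s1 : F (pr U.y 1) * B * (F (pr U.y 1))⁻¹ = B') (s2 : F (pr U.y 1) * B' * (F (pr U.y 1))⁻¹ = B)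
    (h1 : g * F t * g⁻¹ = B) (h2 : g * B * g⁻¹ = F t ∨ g * B * g⁻¹ = B') : g ∈ VO F := by
  obtain ⟨s, hs⟩ : ∃ s, s = F (pr U.y 1) := ⟨_, rfl⟩
  rw [← hs] at s1 s2
  have hsC : s ∈ centralizer ({F t} : Set G) := by rw [hs]; exact pr_mem F _ _
  have hsA : s * F t * s⁻¹ = F t := by
    rw [mem_centralizer_singleton_iff.1 hsC, mul_inv_cancel_right]
  rcases h2 with h2 | h2
  · exfalso
    have h3 : g * B' * g⁻¹ = B' := by
      rw [← hBB']
      calc g * (B * F t) * g⁻¹ = (g * B * g⁻¹) * (g * F t * g⁻¹) := by group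
        _ = F t * B := by rw [h1, h2]
        _ = B * F t := VO_comm t_mem hB
    obtain ⟨h, hh⟩ : ∃ h, h = g * (s * g * s⁻¹) * g := ⟨_, rfl⟩
    have hhC : h ∈ C (LL F) := by
      rw [hh]
      exact mul_mem (mul_mem hg (Cfsg.Agent.StdAlt.Conj.conj_mem_C (CC_le_LL hψ hO hsC) hg)) hg
    have e1 : h * F t * h⁻¹ = F t := by
      calc h * F t * h⁻¹ = g * (s * (g * (s⁻¹ * (g * F t * g⁻¹) * s) * g⁻¹) * s⁻¹) * g⁻¹ := by rw [hh]; group
        _ = g * (s * (g * (s⁻¹ * B * s) * g⁻¹) * s⁻¹) * g⁻¹ := by rw [h1]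
        _ = g * (s * (g * (s⁻¹ * (s * B' * s⁻¹) * s) * g⁻¹) * s⁻¹) * g⁻¹ := by rw [s2]
        _ = g * (s * (g * B' * g⁻¹) * s⁻¹) * g⁻¹ := by group
        _ = g * (s * B' * s⁻¹) * g⁻¹ := by rw [h3]
        _ = g * B * g⁻¹ := by rw [s2]
        _ = _ := h2
    have e2 : h * B * h⁻¹ = B' := by
      calc h * B * h⁻¹ = g * (s * (g * (s⁻¹ * (g * B * g⁻¹) * s) * g⁻¹) * s⁻¹) * g⁻¹ := by rw [hh]; group
        _ = g * (s * (g * (s⁻¹ * F t * s) * g⁻¹) * s⁻¹) * g⁻¹ := by rw [h2]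
        _ = g * (s * (g * (s⁻¹ * (s * F t * s⁻¹) * s) * g⁻¹) * s⁻¹) * g⁻¹ := by rw [hsA]
        _ = g * (s * (g * F t * g⁻¹) * s⁻¹) * g⁻¹ := by group
        _ = g * (s * B * s⁻¹) * g⁻¹ := by rw [h1]
        _ = g * B' * g⁻¹ := by rw [s1]
        _ = _ := h3
    have h4 : h ∈ VO F := mem_VO_of hψ hO P hn hhC (mem_centralizer_singleton_iff.2 (by
      calc h * F t = h * F t * h⁻¹ * h := by group
        _ = _ := by rw [e1]))
    rw [VO_comm h4 hB, mul_inv_cancel_right] at e2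
    exact hne e2
  · have h3 : g * B' * g⁻¹ = F t := by
      rw [← hBB']
      calc g * (B * F t) * g⁻¹ = (g * B * g⁻¹) * (g * F t * g⁻¹) := by group
        _ = B' * B := by rw [h1, h2]
        _ = F t := by
          have hB' : B' ∈ VO F := by rw [← hBB']; exact mul_mem hB t_mem
          rw [VO_comm hB' hB, hBB]
    have e1 : g ^ 3 * F t * (g ^ 3)⁻¹ = F t := by
      have e3 : g ^ 3 = g * g * g := by rw [pow_succ, pow_two]
      calc g ^ 3 * F t * (g ^ 3)⁻¹ = g * (g * (g * F t * g⁻¹) * g⁻¹) * g⁻¹ := by rw [e3]; group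
        _ = _ := by rw [h1, h2, h3]
    have h4 : g ^ 3 ∈ VO F := mem_VO_of hψ hO P hn (pow_mem hg 3) (mem_centralizer_singleton_iff.2 (by
      calc g ^ 3 * F t = g ^ 3 * F t * (g ^ 3)⁻¹ * g ^ 3 := by group
        _ = _ := by rw [e1]))
    obtain ⟨m, hm⟩ := hm
    obtain ⟨k, hk⟩ := exists_pow_eq_self_of_coprime (x := g) (n := 3) (by
      rw [hm]; exact Nat.Coprime.pow_right m (by norm_num))
    rw [← hk]
    exact pow_mem h4 k

/-- a 2-element of `C(L)` normalising `V_o` lies in `V_o` -/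
theorem no_swap (P : Alt S F) (hn : 5 ≤ n) {g : G} (hg : g ∈ C (LL F)) (hV : ∀ v ∈ VO F, g * v * g⁻¹ ∈ VO F)
    (hm : ∃ m, orderOf g = 2 ^ m) : g ∈ VO F := by
  have s1 : F (pr U.y 1) * F (pr U.y' 1) * (F (pr U.y 1))⁻¹ = F (pr (U.y' * U.c) 1) := by
    rw [← map_inv, ← map_mul, ← map_mul]; congr 1
  have s2 : F (pr U.y 1) * F (pr (U.y' * U.c) 1) * (F (pr U.y 1))⁻¹ = F (pr U.y' 1) := by
    rw [← map_inv, ← map_mul, ← map_mul]; congr 1
  have a1 : F (pr U.y' 1) * F (pr (U.y' * U.c) 1) = F t := by rw [← map_mul]; congr 1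
  have a2 : F (pr (U.y' * U.c) 1) * F (pr U.y' 1) = F t := by rw [← map_mul]; congr 1
  have b1 : F (pr U.y' 1) * F t = F (pr (U.y' * U.c) 1) := by rw [← map_mul]; congr 1
  have b2 : F (pr (U.y' * U.c) 1) * F t = F (pr U.y' 1) := by rw [← map_mul]; congr 1
  have hne : F (pr U.y' 1) ≠ F (pr (U.y' * U.c) 1) := fun e => absurd (P.inj e) (by decide)
  have ht : F t ≠ 1 := fun e => absurd (P.inj (e.trans (map_one F).symm)) (by decide)
  have hy : F (pr U.y' 1) ≠ 1 := fun e => absurd (P.inj (e.trans (map_one F).symm)) (by decide)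
  have hyc : F (pr (U.y' * U.c) 1) ≠ 1 := fun e => absurd (P.inj (e.trans (map_one F).symm)) (by decide)
  have hyt : F (pr U.y' 1) ≠ F t := fun e => absurd (P.inj e) (by decide)
  have hyct : F (pr (U.y' * U.c) 1) ≠ F t := fun e => absurd (P.inj e) (by decide)
  have inj : ∀ {a b : G}, g * a * g⁻¹ = g * b * g⁻¹ → a = b := fun e => mul_left_cancel (mul_right_cancel e)
  rcases VO_cases (hV _ t_mem) with h | h | h | h
  · exact absurd (conj_eq_one_iff.1 h) ht
  · exact mem_VO_of hψ hO P hn hg (mem_centralizer_singleton_iff.2 (by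
      calc g * F t = g * F t * g⁻¹ * g := by group
        _ = _ := by rw [h]))
  · refine swap_aux hψ hO P hn hg hm y'_mem a1 b1 hne s1 s2 h ?_
    rcases VO_cases (hV _ y'_mem) with h' | h' | h' | h'
    · exact absurd (conj_eq_one_iff.1 h') hy
    · exact Or.inl h'
    · exact absurd (inj (h'.trans h.symm)) hyt
    · exact Or.inr h'
  · refine swap_aux hψ hO P hn hg hm y'c_mem a2 b2 hne.symm s2 s1 h ?_
    rcases VO_cases (hV _ y'c_mem) with h' | h' | h' | h'
    · exact absurd (conj_eq_one_iff.1 h') hyc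
    · exact Or.inl h'
    · exact Or.inr h'
    · exact absurd (inj (h'.trans h.symm)) hyct

/-- `V_o` is a maximal 2-subgroup of `C(L)` -/
theorem eq_VO (P : Alt S F) (hn : 5 ≤ n) {T : Subgroup G} (hT : IsPGroup 2 T) (hTC : T ≤ C (LL F)) (hVT : VO F ≤ T) :
    T = VO F := by
  have h2 : Fact (Nat.Prime 2) := ⟨Nat.prime_two⟩
  have : Group.IsNilpotent T := hT.isNilpotent
  have hnc := Group.normalizerCondition_of_isNilpotent (G := T)
  by_contra hne
  have hlt : (VO F).subgroupOf T < ⊤ := by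
    rw [lt_top_iff_ne_top]
    intro h
    exact hne (le_antisymm (subgroupOf_eq_top.1 h) hVT)
  obtain ⟨g, hgN, hgH⟩ := Set.exists_of_ssubset (hnc _ hlt)
  apply hgH
  rw [SetLike.mem_coe, mem_subgroupOf]
  refine no_swap hψ hO P hn (hTC g.2) ?_ ?_
  · intro v hv
    have h3 := (mem_normalizer_iff.1 hgN ⟨v, hVT hv⟩).1 (mem_subgroupOf.2 hv)
    exact mem_subgroupOf.1 h3
  · obtain ⟨m, hm⟩ := (IsPGroup.iff_orderOf.1 hT) g
    exact ⟨m, by rw [orderOf_coe]; exact hm⟩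

/-- `V_o` is a Sylow 2-subgroup of `C(L)` -/
theorem exists_sylow (P : Alt S F) (hn : 5 ≤ n) : ∃ Q : Sylow 2 (C (LL F)), (Q : Subgroup (C (LL F))) =
    (VO F).subgroupOf (C (LL F)) := by
  have h2 : Fact (Nat.Prime 2) := ⟨Nat.prime_two⟩
  have hV : IsPGroup 2 (VO F) := IsPGroup.of_card (n := 2) (by rw [card_VO P]; norm_num)
  obtain ⟨Q, hQ⟩ := (hV.comap_subtype (K := C (LL F))).exists_le_sylow
  change (VO F).subgroupOf (C (LL F)) ≤ Q at hQ
  refine ⟨Q, ?_⟩
  have h3 : (Q : Subgroup (C (LL F))).map (C (LL F)).subtype = VO F := by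
    refine eq_VO hψ hO P hn (Q.isPGroup'.map _) (map_subtype_le _) ?_
    intro v hv
    exact ⟨⟨v, VO_le_C hv⟩, hQ (mem_subgroupOf.2 hv), rfl⟩
  apply map_injective (subtype_injective _)
  rw [h3, subgroupOf_map_subtype, inf_of_le_left VO_le_C]

/-- an involution of `C(L)` is conjugate to `F t` in `N(L)` -/
theorem exists_conj_t (P : Alt S F) (hn : 5 ≤ n) {k : G} (hk : k ∈ C (LL F)) (hk1 : k ≠ 1) (hkk : k * k = 1) :
    ∃ g ∈ N (LL F), g * k * g⁻¹ = F t := by
  have h2 : Fact (Nat.Prime 2) := ⟨Nat.prime_two⟩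
  obtain ⟨Q, hQ⟩ := exists_sylow hψ hO P hn
  have h3 : IsPGroup 2 (zpowers (⟨k, hk⟩ : C (LL F))) := by
    rw [IsPGroup.iff_card, Nat.card_zpowers]
    obtain ⟨m, -, hm⟩ := (Nat.dvd_prime_pow Nat.prime_two).1 (orderOf_dvd_of_pow_eq_one (x := (⟨k, hk⟩ : C (LL F)))
      (n := 2 ^ 1) (by rw [pow_one, pow_two]; exact Subtype.ext hkk))
    exact ⟨m, hm⟩
  obtain ⟨R, hR⟩ := h3.exists_le_sylow
  obtain ⟨g, hg⟩ := MulAction.exists_smul_eq (C (LL F)) R Q
  have h4 : g * ⟨k, hk⟩ * g⁻¹ ∈ (Q : Subgroup (C (LL F))) := by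
    rw [← hg]
    exact Subgroup.smul_mem_pointwise_smul _ (MulAut.conj g) (R : Subgroup (C (LL F))) (hR (mem_zpowers _))
  rw [hQ, mem_subgroupOf] at h4
  change (g : G) * k * (g : G)⁻¹ ∈ VO F at h4
  have hgN : (g : G) ∈ N (LL F) := Cfsg.Agent.StdAlt.Conj.C_le_N g.2
  obtain ⟨ρ, hρ⟩ := P.rhoO
  have hρN : ρ ∈ N (LL F) := by
    apply normalizer_le
    rw [mem_normalizer_iff_map_conj_eq]
    refine eq_of_le_of_card_ge ?_ (by rw [card_map_of_injective (MulAut.conj ρ).injective])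
    rintro _ ⟨v, hv, rfl⟩
    change ρ * v * ρ⁻¹ ∈ VO F
    rcases VO_cases hv with rfl | rfl | rfl | rfl
    · rw [mul_one, mul_inv_cancel]; exact one_mem _
    · rw [hρ.cyc1]; exact y'_mem
    · rw [hρ.cyc2]; exact y'c_mem
    · rw [hρ.cyc3]; exact t_mem
  rcases VO_cases h4 with h | h | h | h
  · exact absurd (conj_eq_one_iff.1 h) hk1
  · exact ⟨g, hgN, h⟩
  · refine ⟨ρ * ρ * g, mul_mem (mul_mem hρN hρN) hgN, ?_⟩
    calc ρ * ρ * g * k * (ρ * ρ * g)⁻¹ = ρ * (ρ * (g * k * (g : G)⁻¹) * ρ⁻¹) * ρ⁻¹ := by group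
      _ = _ := by rw [h, hρ.cyc2, hρ.cyc3]
  · refine ⟨ρ * g, mul_mem hρN hgN, ?_⟩
    calc ρ * g * k * (ρ * g)⁻¹ = ρ * (g * k * (g : G)⁻¹) * ρ⁻¹ := by group
      _ = _ := by rw [h, hρ.cyc3]

/-- `|C(L)|_2 = 4` -/
theorem not_eight_dvd (P : Alt S F) (hn : 5 ≤ n) : ¬ 8 ∣ Nat.card (C (LL F)) := by
  have h2 : Fact (Nat.Prime 2) := ⟨Nat.prime_two⟩
  obtain ⟨Q, hQ⟩ := exists_sylow hψ hO P hn
  have h3 := Q.not_dvd_index
  have h4 := (Q : Subgroup (C (LL F))).card_mul_index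
  have h5 : Nat.card (Q : Subgroup (C (LL F))) = 4 := by
    rw [hQ, Nat.card_congr (subgroupOfEquivOfLe VO_le_C).toEquiv, card_VO P]
  rw [h5] at h4
  omega

/-- **`L` has the properties of a standard subgroup.** -/
theorem te (P : Alt S F) (hn : 6 ≤ n) : TE (LL F) := by
  have hn5 : 5 ≤ n := by omega
  obtain ⟨e⟩ := exists_equiv hψ hO P hn5
  have h8 : 8 ∣ Nat.card (LL F) := by
    rw [Nat.card_congr e.toEquiv]
    have h1 : 2 * Nat.card (alternatingGroup (Fin n)) = n.factorial := by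
      have : NeZero n := ⟨by omega⟩
      have : Nontrivial (Fin n) := Fin.nontrivial_iff_two_le.2 (by omega)
      rw [two_mul_nat_card_alternatingGroup, Nat.card_perm, Nat.card_eq_fintype_card, Fintype.card_fin]
    have h3 : Nat.factorial 6 ∣ n.factorial := Nat.factorial_dvd_factorial hn
    have h4 : Nat.factorial 6 = 720 := rfl
    rw [h4, ← h1] at h3
    omega
  refine ⟨?_, ?_, ?_⟩
  · intro k g hk hk1 hkk hg
    obtain ⟨a, ha, e1⟩ := exists_conj_t hψ hO P hn5 hk hk1 hkk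
    obtain ⟨b, hb, e2⟩ := exists_conj_t hψ hO P hn5 hg (fun e => hk1 (conj_eq_one_iff.1 e)) (by
      calc g * k * g⁻¹ * (g * k * g⁻¹) = g * (k * k) * g⁻¹ := by group
        _ = 1 := by rw [hkk]; group)
    have h3 : b * g * a⁻¹ ∈ centralizer ({F t} : Set G) := by
      rw [mem_centralizer_singleton_iff]
      calc b * g * a⁻¹ * F t = b * g * a⁻¹ * (a * k * a⁻¹) := by rw [e1]
        _ = b * (g * k * g⁻¹) * b⁻¹ * (b * g * a⁻¹) := by group
        _ = _ := by rw [e2]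
    have h4 := CC_le_LL hψ hO h3
    have h5 := mul_mem (mul_mem (inv_mem hb) h4) ha
    have e : b⁻¹ * (b * g * a⁻¹) * a = g := by group
    rwa [e] at h5
  · intro a ha hac
    have h1 : a ∈ VO F := mem_VO_of hψ hO P hn5 hac ((LL_le_DD.trans DD_le_CC) ha)
    exact eq_one_of_mem hψ hO P h1 ha
  · intro B hB hle
    apply not_eight_dvd hψ hO P hn5
    rw [hB.card_C]
    exact h8.trans (card_dvd_of_le hle)

end

end psi

end Cfsg.Agent.LFourA.AltEndB

private theorem dce_280826cca8a0 : _root_.True := by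
  try have : _root_.True := by simp only [_root_.Cfsg.Agent.LFourA.AltEnd.VO.eq_1]
  exact _root_.True.intro
end

-- part: LFourA/AltFinal
section
set_option linter.all false
open scoped Cfsg.Agent.FastGrp

/-!
# Case II: `G` is `A₁₀` or `A₁₁`
-/

set_option autoImplicit false

namespace Cfsg.Agent.LFourA.AltFinal

open Equiv Equiv.Perm Subgroup
open Cfsg.Agent.LFourA.AltModel Cfsg.Agent.LFourA.AltPat Cfsg.Agent.LFourA.AltPsi Cfsg.Agent.LFourA.AltEnd
  Cfsg.Agent.LFourA.AltEndB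
open Cfsg.Agent.LFourA.AltFive (CommThm)
open Cfsg.Agent.LFourA.AltZ9 (FT)
open Cfsg.Agent.StdAlt.Conj (TE C)

universe u

/-- The Gorenstein-Walter theorem for perfect groups -/
def GWPerf : Prop :=
  ∀ (X : Type u) [Group X] [Finite X] [Group.IsPerfect X]
    (S : Sylow 2 X) (n : ℕ), 2 ≤ n → Nonempty ((S : Subgroup X) ≃* DihedralGroup n) →
    (∃ (F : Type) (_ : Field F) (_ : Fintype F), Odd (Fintype.card F) ∧ 3 < Fintype.card F ∧
      Nonempty (X ⧸ Cfsg.oddCore X ≃* Matrix.ProjectiveSpecialLinearGroup (Fin 2) F)) ∨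
    Nonempty (X ⧸ Cfsg.oddCore X ≃* alternatingGroup (Fin 7))

theorem commHalf {G : Type u} [Group G] [Finite G] [IsSimpleGroup G] (hC : CommThm.{u}) (h : 2 ∣ Nat.card G) :
    Cfsg.Agent.StdAlt.First.CommHalf G := by
  intro P S₁ S₂ _ hd h1 h2
  have h3 := hC G P S₁ S₂ hd h1 h2
  have h4 : (Nat.card (Cfsg.oddCore G)).Coprime 2 := Cfsg.Agent.Lib.Cores.pPrimeCore_coprime 2
  have h5 : (Cfsg.oddCore G).Normal := inferInstance
  rcases h5.eq_bot_or_eq_top with h6 | h6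
  · rw [h6] at h3
    exact le_bot_iff.1 h3
  · exfalso
    rw [h6, card_top] at h4
    have h7 := Nat.dvd_gcd h dvd_rfl
    rw [h4.gcd_eq_one] at h7
    norm_num at h7

variable {G : Type u} [Group G] [Finite G] [IsSimpleGroup G] {S : Sylow 2 G} {F : M →* G}

theorem orderOf_t (P : Alt S F) : orderOf (F t) = 2 :=
  orderOf_eq_prime (by rw [pow_two]; exact VO_sq t_mem) (fun e => absurd (P.inj (e.trans (map_one F).symm)) (by decide))

theorem two_dvd (P : Alt S F) : 2 ∣ Nat.card G := by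
  rw [← orderOf_t P]
  exact orderOf_dvd_natCard _

theorem hasFour (P : Alt S F) : Cfsg.Agent.StdAlt.Two.HasFour (LL F) := by
  refine ⟨F t, VO_le_C t_mem, F (pr U.y' 1), VO_le_C y'_mem, ?_, ?_, ?_, VO_sq t_mem, VO_sq y'_mem,
    VO_comm y'_mem t_mem⟩
  · exact fun e => absurd (P.inj (e.trans (map_one F).symm)) (by decide)
  · exact fun e => absurd (P.inj (e.trans (map_one F).symm)) (by decide)
  · exact fun e => absurd (P.inj e) (by decide)

theorem nontrivial {n : ℕ} (hn : 6 ≤ n) (e : LL F ≃* alternatingGroup (Fin n)) : LL F ≠ ⊥ := by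
  intro h
  have h1 : Nat.card (LL F) = 1 := by rw [h, card_bot]
  rw [Nat.card_congr e.toEquiv] at h1
  have : Nontrivial (Fin n) := Fin.nontrivial_iff_two_le.2 (by omega)
  have h2 := two_mul_nat_card_alternatingGroup (α := Fin n)
  rw [h1, Nat.card_perm, Nat.card_eq_fintype_card, Fintype.card_fin] at h2
  have h3 : Nat.factorial 6 ≤ n.factorial := Nat.factorial_le hn
  rw [show Nat.factorial 6 = 720 from rfl] at h3
  omega

/-- the end: a normal subgroup above `L` is everything -/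
theorem exists_equiv_top {n m : ℕ} (P : Alt S F) (hn : 6 ≤ n) (e : LL F ≃* alternatingGroup (Fin n)) (hTE : TE (LL F))
    (h : (LL F).Normal ∨ ∃ L₀ : Subgroup G, L₀.Normal ∧ LL F ≤ L₀ ∧
      Nonempty (L₀ ≃* alternatingGroup (Fin m))) : Nonempty (G ≃* alternatingGroup (Fin m)) := by
  rcases h with h | ⟨L₀, h, hle, ⟨e'⟩⟩
  · exfalso
    rcases h.eq_bot_or_eq_top with h1 | h1
    · exact nontrivial hn e h1
    · have h2 : F t = 1 := hTE.disj (F t) (by rw [h1]; trivial) (VO_le_C t_mem)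
      exact absurd (P.inj (h2.trans (map_one F).symm)) (by decide)
  · rcases h.eq_bot_or_eq_top with h1 | h1
    · exact absurd (le_bot_iff.1 (hle.trans h1.le)) (nontrivial hn e)
    · subst h1
      exact ⟨topEquiv.symm.trans e'⟩

/-- **the end of case II** -/
theorem alt_of_psi (hC : CommThm.{u}) (P : Alt S F) (hO : Cfsg.centralizerPPrimeCore 2 (F t) = ⊥)
    (h : (∃ ψ, Psi F 6 ψ) ∨ ∃ ψ, Psi F 7 ψ) :
    Nonempty (G ≃* alternatingGroup (Fin 10)) ∨ Nonempty (G ≃* alternatingGroup (Fin 11)) := by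
  have hcomm := commHalf (G := G) hC (two_dvd P)
  rcases h with ⟨ψ, hψ⟩ | ⟨ψ, hψ⟩
  · have hTE := te hψ hO P (by norm_num)
    obtain ⟨e⟩ := exists_equiv hψ hO P (by norm_num)
    exact Or.inl (exists_equiv_top P (by norm_num) e hTE
      (Cfsg.Agent.StdAlt.Six.normal_or_six hTE e (hasFour P) hcomm))
  · have hTE := te hψ hO P (by norm_num)
    obtain ⟨e⟩ := exists_equiv hψ hO P (by norm_num)
    exact Or.inr (exists_equiv_top P (by norm_num) e hTE
      (Cfsg.Agent.StdAlt.Main.normal_or hTE (by norm_num) e (hasFour P) hcomm))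

/-- **Case II of statement S0510** -/
theorem main (hFT : FT.{u}) (hC : CommThm.{u}) (hGW : GWPerf.{u}) {k : ℕ} {f : Model.D k → Model.D k → G} {ww : G}
    (h : Model.DWr (S : Subgroup G) k f ww) (hI : Defs.CaseII f ww) :
    Nonempty (G ≃* alternatingGroup (Fin 10)) ∨ Nonempty (G ≃* alternatingGroup (Fin 11)) := by
  obtain rfl := hI.k0
  obtain ⟨P, hO, hpsi⟩ := AltPlug.main hFT hC hGW h hI
  exact alt_of_psi hC P hO hpsi

end Cfsg.Agent.LFourA.AltFinal
end

-- part: LFourA/AltBranch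
section
set_option linter.all false

/-!
# The branch A2 of statement S0510
-/

set_option autoImplicit false

namespace Cfsg.Agent.LFourA.AltBranch

universe u

/-- **Branch A2**: a simple group with Sylow 2-subgroup `D wr 2` and the fusion pattern of `A₁₀` is `A₁₀` or `A₁₁`. -/
theorem branchA2A (hFT : AltZ9.FT.{u}) (hC : AltFive.CommThm.{u}) (hGW : AltFinal.GWPerf.{u}) :
    LFour.BranchA2A.{u} := by
  intro G _ _ _ P k f w h hI
  exact AltFinal.main hFT hC hGW h hI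

end Cfsg.Agent.LFourA.AltBranch
end

-- part: LFour/BFive_mg
section

end

-- part: LFour/ExtMain
section
prune_inst 0x4000000000000000000000000000000000000000000000000000000000000000000020000080000000000000000040000000000000000000000000000000000000000020000400000000000000000000000000000000000000000000000000000000000000
set_option linter.all false
open scoped Cfsg.Agent.FastGrp

-- part: LFourA/KlL
section
/-!
# The components of `C(z)` in case I, `|F| > 3`
-/

set_option autoImplicit false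

namespace Cfsg.Agent.LFourA.KlL

open Subgroup DihedralGroup Cfsg Cfsg.Agent.LFourA.Model Cfsg.Agent.LFourA.Base Cfsg.Agent.LFourA.Defs
  Cfsg.Agent.LFourA.CzCt Cfsg.Agent.LFourA.Facts Cfsg.Agent.LFourA.KlQuot Cfsg.Agent.LFourR.LiftSL
  Cfsg.Agent.LFourA.KlOSolv Cfsg.Agent.LFourA.KlPos

open Cfsg.Agent.StandardComponent.CentCore (core_conj_mem core_comm)

section abs

variable {G X : Type*} [Group G] [Group X] {z : G} {p : ↥(centralizer ({z} : Set G)) →* X}

/-- An element moving `K` into `K'` moves the lift of `K` into the lift of `K'`. -/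
theorem lof_conj {K K' : Subgroup X} {g : G} (hg : g ∈ centralizer ({z} : Set G))
    (h : ∀ x ∈ K, p ⟨g, hg⟩ * x * (p ⟨g, hg⟩)⁻¹ ∈ K') : ∀ x ∈ lof p K, g * x * g⁻¹ ∈ lof p K' := by
  have hup : (up p K).map (MulAut.conj g).toMonoidHom ≤ up p K' := by
    rintro _ ⟨y, hy, rfl⟩
    obtain ⟨hy1, hy2⟩ := mem_up.1 hy
    refine mem_up.2 ⟨mul_mem (mul_mem hg hy1) (inv_mem hg), ?_⟩
    have h1 := h _ hy2
    rw [← map_inv, ← map_mul, ← map_mul] at h1
    exact h1
  intro x hx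
  have h1 : g * x * g⁻¹ ∈ (lof p K).map (MulAut.conj g).toMonoidHom := ⟨x, hx, rfl⟩
  rw [lof, map_commutator] at h1
  exact commutator_mono hup hup h1

/-- Commuting modulo a central subgroup. -/
theorem comm_of_perfect {L O : Subgroup G} (hL : ⁅L, L⁆ = L) (hO : ∀ o ∈ O, ∀ o' ∈ O, o * o' = o' * o)
    (hc : ∀ o ∈ O, ∀ l ∈ L, o * l = l * o) {y : G}
    (hy : ∀ l ∈ L, l * y * l⁻¹ * y⁻¹ ∈ O) : ∀ l ∈ L, l * y = y * l := by
  have key : L ≤ centralizer ({y} : Set G) := by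
    conv_lhs => rw [← hL]
    rw [commutator_le]
    intro a ha b hb
    rw [mem_centralizer_singleton_iff, commutatorElement_def]
    -- `a y = o y a`
    have conjL : ∀ l ∈ L, ∃ o ∈ O, l * y = o * y * l := by
      intro l hl
      exact ⟨_, hy l hl, by group⟩
    obtain ⟨o, ho, h1⟩ := conjL a ha
    obtain ⟨o', ho', h2⟩ := conjL b hb
    have h3 : a⁻¹ * y = o⁻¹ * y * a⁻¹ := by
      have h4 : y = a⁻¹ * (o * y * a) := by rw [← h1]; group
      have h5 : a⁻¹ * o = o * a⁻¹ := (hc o ho _ (inv_mem ha)).symm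
      calc a⁻¹ * y = o⁻¹ * (o * a⁻¹) * y := by group
        _ = o⁻¹ * (a⁻¹ * (o * y * a)) * a⁻¹ := by rw [← h5]; group
        _ = o⁻¹ * y * a⁻¹ := by rw [← h4]
    have h4 : b⁻¹ * y = o'⁻¹ * y * b⁻¹ := by
      have h4 : y = b⁻¹ * (o' * y * b) := by rw [← h2]; group
      have h5 : b⁻¹ * o' = o' * b⁻¹ := (hc o' ho' _ (inv_mem hb)).symm
      calc b⁻¹ * y = o'⁻¹ * (o' * b⁻¹) * y := by group
        _ = o'⁻¹ * (b⁻¹ * (o' * y * b)) * b⁻¹ := by rw [← h5]; group
        _ = o'⁻¹ * y * b⁻¹ := by rw [← h4]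
    have hcc : ∀ u ∈ O, ∀ l ∈ L, l * u = u * l := fun u hu l hl => (hc u hu l hl).symm
    calc a * b * a⁻¹ * b⁻¹ * y = a * b * a⁻¹ * (b⁻¹ * y) := by group
      _ = a * b * (a⁻¹ * o'⁻¹) * y * b⁻¹ := by rw [h4]; group
      _ = a * (b * o'⁻¹) * (a⁻¹ * y) * b⁻¹ := by rw [hcc _ (inv_mem ho') _ (inv_mem ha)]; group
      _ = (a * o'⁻¹) * (b * o⁻¹) * y * a⁻¹ * b⁻¹ := by rw [hcc _ (inv_mem ho') _ hb, h3]; group
      _ = o'⁻¹ * (a * o⁻¹) * (b * y) * a⁻¹ * b⁻¹ := by
          rw [hcc _ (inv_mem ho') _ ha, hcc _ (inv_mem ho) _ hb]; group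
      _ = o'⁻¹ * o⁻¹ * (a * o') * y * b * a⁻¹ * b⁻¹ := by rw [hcc _ (inv_mem ho) _ ha, h2]; group
      _ = o'⁻¹ * o⁻¹ * o' * (a * y) * b * a⁻¹ * b⁻¹ := by rw [hcc _ ho' _ ha]; group
      _ = (o'⁻¹ * (o⁻¹ * o')) * o * y * a * b * a⁻¹ * b⁻¹ := by rw [h1]; group
      _ = (o'⁻¹ * (o' * o⁻¹)) * o * y * a * b * a⁻¹ * b⁻¹ := by rw [hO _ (inv_mem ho) _ ho']
      _ = y * (a * b * a⁻¹ * b⁻¹) := by group
  intro l hl
  exact mem_centralizer_singleton_iff.1 (key hl)

end abs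

variable {G X : Type*} [Group G] [Finite G] [Group X] {P : Sylow 2 G} {k : ℕ} {f : D k → D k → G} {w : G}
  {F : Type*} [Field F] [Fintype F]
variable (h : DWr (P : Subgroup G) k f w) {p : ↥(centralizer ({f (c k) (c k)} : Set G)) →* X} {K₁ K₂ : Subgroup X}

include h

theorem dat (Z : CZL (f (c k) (c k)) F p K₁ K₂) (zp : ZPos f w p K₁ K₂) (hodd : Odd (Fintype.card F))
    (h3 : 3 < Fintype.card F) (h9 : Fintype.card F = 9 → ¬ 3 ∣ Nat.card (centralizerPPrimeCore 2 (f (c k) (c k))))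
    (hinv : ∀ o ∈ centralizerPPrimeCore 2 (f (c k) (c k)), f 1 (sr 0) * o * (f 1 (sr 0))⁻¹ = o⁻¹) :
    Dat F p K₁ (f 1 (sr 0)) ∧ Dat F p K₂ (f 1 (sr 0)) := by
  have hzz : f (c k) (c k) * f (c k) (c k) = 1 := by rw [h.f_mul, c_mul_c, f_one h]
  have hbz : f 1 (sr 0) * f (c k) (c k) = f (c k) (c k) * f 1 (sr 0) := (z_comm h (f_mem h _ _)).symm
  have hsw := swp_right h Z.toCZ zp 0 (Or.inl rfl)
  have key : ∀ K K' : Subgroup X, (∀ x ∈ K, ∀ y ∈ K', x * y = y * x) →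
      (∀ x ∈ K, p ⟨f 1 (sr 0), mem_cz h (f_mem h _ _)⟩ * x * (p ⟨f 1 (sr 0), mem_cz h (f_mem h _ _)⟩)⁻¹ ∈ K') →
      ∀ x ∈ up p K, ∀ y ∈ up p K, x * (f 1 (sr 0) * y * (f 1 (sr 0))⁻¹) * x⁻¹ * (f 1 (sr 0) * y * (f 1 (sr 0))⁻¹)⁻¹ ∈
        centralizerPPrimeCore 2 (f (c k) (c k)) := by
    intro K K' hc hs x hx y hy
    obtain ⟨hx1, hx2⟩ := mem_up.1 hx
    obtain ⟨hy1, hy2⟩ := mem_up.1 hy
    have h1 := hs _ hy2
    have hb := mem_cz h (f_mem h 1 (sr 0))
    have h2 : p (⟨x, hx1⟩ * (⟨f 1 (sr 0), hb⟩ * ⟨y, hy1⟩ * (⟨f 1 (sr 0), hb⟩)⁻¹) * ⟨x, hx1⟩⁻¹ *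
        (⟨f 1 (sr 0), hb⟩ * ⟨y, hy1⟩ * (⟨f 1 (sr 0), hb⟩)⁻¹)⁻¹) = 1 := by
      simp only [map_mul, map_inv]
      rw [hc _ hx2 _ h1]
      group
    exact (Z.ker _).1 h2
  constructor
  · exact { z_ne := z_ne_one h, zz := hzz, surj := Z.surj, ker := Z.ker, z₁ := Z.z₁, iso := Z.e₁, odd := hodd, three := h3,
            nine := h9, bz := hbz, inv := hinv, swap := key K₁ K₂ Z.comm hsw.1 }
  · exact { z_ne := z_ne_one h, zz := hzz, surj := Z.surj, ker := Z.ker, z₁ := Z.z₂, iso := Z.e₂, odd := hodd, three := h3,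
            nine := h9, bz := hbz, inv := hinv, swap := key K₂ K₁ (fun x hx y hy => (Z.comm y hy x hx).symm) hsw.2 }

/-- **The components of `C(z)`.** -/
theorem lcent (Z : CZL (f (c k) (c k)) F p K₁ K₂) (zp : ZPos f w p K₁ K₂) (hodd : Odd (Fintype.card F))
    (h3 : 3 < Fintype.card F) (h9 : Fintype.card F = 9 → ¬ 3 ∣ Nat.card (centralizerPPrimeCore 2 (f (c k) (c k))))
    (inv₁ : ∀ (i : ZMod (4 * 2 ^ k)) (e : D k), e = 1 ∨ e = c k → ∀ o ∈ centralizerPPrimeCore 2 (f (c k) (c k)),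
      f (sr i) e * o * (f (sr i) e)⁻¹ = o⁻¹)
    (inv₂ : ∀ (i : ZMod (4 * 2 ^ k)) (e : D k), e = 1 ∨ e = c k → ∀ o ∈ centralizerPPrimeCore 2 (f (c k) (c k)),
      f e (sr i) * o * (f e (sr i))⁻¹ = o⁻¹) : LCent.LCent f w F (lof p K₁) (lof p K₂) := by
  obtain ⟨D₁, D₂⟩ := dat h Z zp hodd h3 h9 (inv₂ 0 1 (Or.inl rfl))
  have hq := Z.toCZ.quo
  have hpow : ∀ x ∈ (P : Subgroup G), ∃ m : ℕ, x ^ 2 ^ m = 1 := by
    intro x hx
    obtain ⟨m, hm⟩ := P.isPGroup' ⟨x, hx⟩
    exact ⟨m, congrArg Subtype.val hm⟩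
  have mem₁ : ∀ x ∈ (P : Subgroup G), x ∈ up p K₁ → x ∈ lof p K₁ := by
    intro x hx hxu
    obtain ⟨m, hm⟩ := hpow x hx
    exact D₁.mem_of_pow hxu hm
  have mem₂ : ∀ x ∈ (P : Subgroup G), x ∈ up p K₂ → x ∈ lof p K₂ := by
    intro x hx hxu
    obtain ⟨m, hm⟩ := hpow x hx
    exact D₂.mem_of_pow hxu hm
  have hcomm : ∀ x ∈ lof p K₁, ∀ y ∈ lof p K₂, x * y = y * x := by
    intro x hx y hy
    refine comm_of_perfect D₁.perfect (O := centralizerPPrimeCore 2 (f (c k) (c k)))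
      (fun o ho o' ho' => D₁.core_comm ho ho') (fun o ho l hl => D₁.comm_core hl ho) ?_ x hx
    intro l hl
    obtain ⟨h1, h2⟩ := mem_up.1 (lof_le_up p K₁ hl)
    obtain ⟨h4, h5⟩ := mem_up.1 (lof_le_up p K₂ hy)
    have h6 : p (⟨l, h1⟩ * ⟨y, h4⟩ * ⟨l, h1⟩⁻¹ * ⟨y, h4⟩⁻¹) = 1 := by
      simp only [map_mul, map_inv]
      rw [Z.comm _ h2 _ h5]
      group
    exact (Z.ker _).1 h6
  have hnorm : ∀ (K K' : Subgroup X) (g : G) (hg : g ∈ centralizer ({f (c k) (c k)} : Set G)),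
      (∀ x ∈ K, p ⟨g, hg⟩ * x * (p ⟨g, hg⟩)⁻¹ ∈ K') → ∀ x ∈ lof p K, g * x * g⁻¹ ∈ lof p K' :=
    fun K K' g hg hx => lof_conj hg hx
  refine ⟨D₁.iso_lof, D₂.iso_lof, hcomm, ?_, fun i => mem₁ _ (f_mem h _ _) (zp.q₁x i),
    mem₁ _ (fw_mem h _ _) zp.q₁w, fun i => mem₂ _ (f_mem h _ _) (zp.q₂x i), mem₂ _ (fw_mem h _ _) zp.q₂w,
    ?_, ?_, ?_, ?_, fun o ho x hx => D₁.comm_core hx ho, fun o ho x hx => D₂.comm_core hx ho, inv₁, inv₂⟩
  · intro x hx1 hx2
    obtain ⟨h1, h2⟩ := mem_up.1 (lof_le_up p K₁ hx1)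
    obtain ⟨_, h4⟩ := mem_up.1 (lof_le_up p K₂ hx2)
    rcases Z.inf _ h2 h4 with h5 | h5
    · left
      exact D₁.inf_core hx1 ((Z.ker _).1 h5)
    · right
      have h6 : p (⟨x, h1⟩ * self (f (c k) (c k))) = 1 := by
        rw [map_mul, h5, ← map_mul]
        have : self (f (c k) (c k)) * self (f (c k) (c k)) = 1 := Subtype.ext D₁.zz
        rw [this, map_one]
      have h7 : x * f (c k) (c k) ∈ centralizerPPrimeCore 2 (f (c k) (c k)) := (Z.ker _).1 h6
      have h8 := D₁.inf_core (mul_mem hx1 D₁.z_mem) h7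
      calc x = x * f (c k) (c k) * f (c k) (c k) := by rw [mul_assoc, D₁.zz, mul_one]
        _ = f (c k) (c k) := by rw [h8, one_mul]
  · intro g hg
    have hgz : g ∈ centralizer ({f (c k) (c k)} : Set G) := mem_centralizer_singleton_iff.2 hg
    rcases Z.norm (p ⟨g, hgz⟩) with h1 | h1
    · exact Or.inl ⟨hnorm _ _ g hgz h1.1, hnorm _ _ g hgz h1.2⟩
    · exact Or.inr ⟨hnorm _ _ g hgz h1.1, hnorm _ _ g hgz h1.2⟩
  · intro i e he
    have h1 := swp_left h Z.toCZ zp i he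
    exact ⟨hnorm _ _ _ _ h1.1, hnorm _ _ _ _ h1.2⟩
  · intro i e he
    have h1 := swp_right h Z.toCZ zp i he
    exact ⟨hnorm _ _ _ _ h1.1, hnorm _ _ _ _ h1.2⟩
  · intro g hg1 hg2
    have hgz : g ∈ centralizer ({f (c k) (c k)} : Set G) := mem_centralizer_singleton_iff.2 (hg1 _ D₁.z_mem)
    have hpg : ∀ (K : Subgroup X), (∀ x ∈ lof p K, g * x = x * g) →
        (∀ x ∈ K, ∃ l : G, ∃ hl : l ∈ centralizer ({f (c k) (c k)} : Set G), l ∈ lof p K ∧ p ⟨l, hl⟩ = x) →
        ∀ x ∈ K, p ⟨g, hgz⟩ * x = x * p ⟨g, hgz⟩ := by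
      intro K hK hex x hx
      obtain ⟨l, hl, hlK, rfl⟩ := hex x hx
      rw [← map_mul, ← map_mul]
      congr 1
      exact Subtype.ext (hK l hlK)
    rcases Z.cent _ (hpg K₁ hg1 (fun x hx => D₁.exists_lof hx)) (hpg K₂ hg2 (fun x hx => D₂.exists_lof hx)) with h1 | h1
    · left
      exact (Z.ker _).1 h1
    · right
      have h6 : p (⟨g, hgz⟩ * self (f (c k) (c k))) = 1 := by
        rw [map_mul, h1, ← map_mul]
        have : self (f (c k) (c k)) * self (f (c k) (c k)) = 1 := Subtype.ext D₁.zz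
        rw [this, map_one]
      exact (Z.ker _).1 h6

/-- If `|F| = 9`, the order of the odd core of `C(z)` is prime to 3. -/
theorem not_three_dvd {Y : Type*} [Group Y] {F₂ : Type*} [Field F₂] [Fintype F₂] {p' : ↥(centralizer ({f (c k) 1} : Set G)) →* Y}
    {K : Subgroup Y} (h81 : Fintype.card F₂ = 81) (T : CTL (f (c k) 1) F₂ p' K) (tp : TPos f p' K)
    (htO : ∀ o ∈ centralizerPPrimeCore 2 (f (c k) (c k)), o * f (c k) 1 = f (c k) 1 * o)
    (hinv : ∀ o ∈ centralizerPPrimeCore 2 (f (c k) (c k)), f 1 (sr 0) * o * (f 1 (sr 0))⁻¹ = o⁻¹)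
    (hinf : ∀ o ∈ centralizerPPrimeCore 2 (f (c k) (c k)), o ∈ centralizerPPrimeCore 2 (f (c k) 1) → o = 1) :
    ¬ 3 ∣ Nat.card (centralizerPPrimeCore 2 (f (c k) (c k))) := by
  intro hd
  have : Fact (Nat.Prime 3) := ⟨Nat.prime_three⟩
  obtain ⟨⟨o, ho⟩, ho3⟩ := exists_prime_orderOf_dvd_card' 3 hd
  rw [Subgroup.orderOf_mk] at ho3
  have h2 : (2 : F₂) ≠ 0 := by
    intro h2
    have h3 := Nat.cast_card_eq_zero F₂
    rw [h81] at h3
    have h4 : (1 : F₂) = 0 := by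
      have h5 : ((81 : ℕ) : F₂) = 40 * 2 + 1 := by norm_num
      rw [h5, h2, mul_zero, zero_add] at h3
      exact h3
    exact one_ne_zero h4
  have hot := htO o ho
  have hotc : o ∈ centralizer ({f (c k) 1} : Set G) := mem_cent.2 hot
  -- `o ∈ up K`
  obtain ⟨hb1, hb2⟩ := mem_up.1 (tp.d₂ (sr 0))
  have hoi := hinv o ho
  have hoo : o * o * o = 1 := by
    have := pow_orderOf_eq_one o
    rwa [ho3, pow_succ, pow_two] at this
  have hoK : p' ⟨o, hotc⟩ ∈ K := by
    -- `o = b o b⁻¹ o⁻¹` as `o⁻¹ o⁻¹ = o`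
    have e1 : o = f 1 (sr 0) * (o * (f 1 (sr 0))⁻¹ * o⁻¹) := by
      calc o = o⁻¹ * o⁻¹ := by
            have h4 : o = (o * o)⁻¹ := eq_inv_of_mul_eq_one_right hoo
            rw [mul_inv_rev] at h4
            exact h4
        _ = (f 1 (sr 0) * o * (f 1 (sr 0))⁻¹) * o⁻¹ := by rw [hoi]
        _ = _ := by group
    have e2 : (⟨o, hotc⟩ : ↥(centralizer ({f (c k) 1} : Set G))) =
        ⟨f 1 (sr 0), hb1⟩ * (⟨o, hotc⟩ * (⟨f 1 (sr 0), hb1⟩)⁻¹ * ⟨o, hotc⟩⁻¹) := Subtype.ext e1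
    rw [e2, map_mul, map_mul, map_mul, map_inv, map_inv]
    exact K.mul_mem hb2 (T.normal.conj_mem _ (K.inv_mem hb2) _)
  obtain ⟨e⟩ := T.e
  obtain ⟨hc1, hc2⟩ := mem_up.1 (tp.d₂ (c k))
  have hcc : f 1 (c k) * f 1 (c k) = 1 := by rw [h.f_mul, c_mul_c, one_mul, f_one h]
  have hq := T.toCT.quo
  have hne := ne_one_of_inv hq hc1 hcc (t'_ne_one h)
  have hsq := Cfsg.Agent.LFourA.KlT.p_sq hc1 hcc (p := p')
  obtain ⟨S, m, hS, hm⟩ := Cfsg.Agent.Lib.PSL2Torus.exists_torus h2 e (t := ⟨_, hc2⟩)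
    (fun h1 => hne (congrArg Subtype.val h1)) (Subtype.ext hsq)
  have hcomm : o * f 1 (c k) = f 1 (c k) * o := by
    have h4 : f 1 (c k) = f (c k) 1 * f (c k) (c k) := by rw [h.f_mul, c_mul_c, one_mul]
    rw [h4, ← mul_assoc, hot, mul_assoc, core_comm ho, mul_assoc]
  have hpc := Cfsg.Agent.LFourA.KlT.p_comm (p := p') hotc hc1 hcomm
  have hoK3 : (⟨p' ⟨o, hotc⟩, hoK⟩ : K) * ⟨p' ⟨o, hotc⟩, hoK⟩ * ⟨p' ⟨o, hotc⟩, hoK⟩ = 1 := by
    apply Subtype.ext
    change p' ⟨o, hotc⟩ * p' ⟨o, hotc⟩ * p' ⟨o, hotc⟩ = 1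
    rw [← map_mul, ← map_mul, ← map_one p']
    congr 1
    exact Subtype.ext hoo
  have hoS : (⟨p' ⟨o, hotc⟩, hoK⟩ : K) ∈ S := by
    by_contra hn
    obtain ⟨h5, h6, -⟩ := hS.out _ (Subtype.ext hpc) hn
    rw [h6, one_mul] at hoK3
    exact h5 hoK3
  have h81' : Nat.card F₂ = 81 := by rw [Nat.card_eq_fintype_card, h81]
  have hm40 : m = 40 := by
    rw [h81'] at hm
    omega
  have hd2 : orderOf (⟨p' ⟨o, hotc⟩, hoK⟩ : K) ∣ 40 := by
    have h5 := _root_.orderOf_dvd_natCard (⟨_, hoS⟩ : S)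
    rw [Subgroup.orderOf_mk, hS.card, hm40] at h5
    exact h5
  have hd3 : orderOf (⟨p' ⟨o, hotc⟩, hoK⟩ : K) ∣ 3 := by
    apply orderOf_dvd_of_pow_eq_one
    rw [pow_succ, pow_two]
    exact hoK3
  have h1 : orderOf (⟨p' ⟨o, hotc⟩, hoK⟩ : K) = 1 := by
    have h6 := Nat.dvd_gcd hd2 hd3
    exact Nat.dvd_one.1 h6
  have h7 : p' ⟨o, hotc⟩ = 1 := congrArg Subtype.val (orderOf_eq_one_iff.1 h1)
  have h8 := hinf o ho ((T.ker _).1 h7)
  rw [h8, orderOf_one] at ho3
  exact absurd ho3 (by norm_num)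

end Cfsg.Agent.LFourA.KlL
end

-- part: LFourA/Kl7Perm
section
/-!
# Permutations of seven points

`x1 = (0 2 1 3)(4 5)`, `t0 = x1 ^ 2 = (0 1)(2 3)`.
* `exists_conj_x1` : every even permutation of order 4 is conjugate to `x1`;
* `comm_x1` : an involution commuting with `x1` is `1`, `t0`, `(4 5)` or `t0 (4 5)`;
* `exists_perfect` : `(4 5)` is centralised by an `A₅`;
* `solvable_centralizer` : the centraliser of `t0 (4 5)` is solvable.
-/

set_option autoImplicit false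

namespace Cfsg.Agent.LFourA.Kl7Perm

open Equiv Equiv.Perm Subgroup

/-- `(0 1)(2 3)` -/
def t0 : Perm (Fin 7) := swap 0 1 * swap 2 3

/-- `(0 2 1 3)(4 5)` -/
def x1 : Perm (Fin 7) := swap 0 2 * swap 2 1 * swap 1 3 * swap 4 5

/-- `(4 5)` -/
def s0 : Perm (Fin 7) := swap 4 5

theorem x1_sq : x1 * x1 = t0 := by decide +kernel

theorem cycleType_x1 : x1.cycleType = {4, 2} := by decide +kernel

theorem cycleType_ts : (t0 * s0).cycleType = {2, 2, 2} := by decide +kernel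

theorem exists_conj_x1 {x : Perm (Fin 7)} (hs : Perm.sign x = 1) (h1 : x * x ≠ 1) (h2 : x * x * (x * x) = 1) :
    ∃ σ : Perm (Fin 7), σ * x * σ⁻¹ = x1 := by
  suffices h : IsConj x x1 from isConj_iff.1 h
  rw [Perm.isConj_iff_cycleType_eq, cycleType_x1]
  have hparts : ∀ n ∈ x.cycleType, n = 4 ∨ n = 2 := by
    intro n hn
    have h4 : n ∣ orderOf x := Perm.dvd_of_mem_cycleType hn
    have h5 : n ∣ 4 := by
      refine dvd_trans h4 (orderOf_dvd_of_pow_eq_one ?_)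
      rw [show (4 : ℕ) = 2 + 2 from rfl, pow_add, sq]
      exact h2
    have h6 := Perm.two_le_of_mem_cycleType hn
    have h7 : n ≤ 4 := Nat.le_of_dvd (by norm_num) h5
    interval_cases n
    · right; rfl
    · exact absurd h5 (by decide)
    · left; rfl
  have hsum : x.cycleType.sum ≤ 7 := by
    rw [Perm.sum_cycleType]
    exact (Finset.card_le_univ _).trans (by simp)
  obtain ⟨a, ha⟩ : ∃ a, (x.cycleType.filter (fun n => n = 4)) = Multiset.replicate a 4 :=
    ⟨_, Multiset.eq_replicate_of_mem (fun n hn => (Multiset.mem_filter.1 hn).2)⟩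
  obtain ⟨b, hb⟩ : ∃ b, (x.cycleType.filter (fun n => ¬ n = 4)) = Multiset.replicate b 2 :=
    ⟨_, Multiset.eq_replicate_of_mem (fun n hn => by
      obtain ⟨h3, h4⟩ := Multiset.mem_filter.1 hn
      exact (hparts n h3).resolve_left h4)⟩
  have hdec : x.cycleType = Multiset.replicate a 4 + Multiset.replicate b 2 := by
    rw [← ha, ← hb, Multiset.filter_add_not]
  have hsign := hs
  rw [Perm.sign_of_cycleType, hdec] at hsign
  rw [hdec] at hsum
  rw [Multiset.sum_add, Multiset.sum_replicate, Multiset.sum_replicate, smul_eq_mul, smul_eq_mul] at hsum hsign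
  rw [Multiset.card_add, Multiset.card_replicate, Multiset.card_replicate] at hsign
  have ha0 : a ≠ 0 := by
    rintro rfl
    apply h1
    have h3 : ∀ n ∈ x.cycleType, n ∣ 2 := by
      intro n hn
      rw [hdec, Multiset.replicate_zero, zero_add] at hn
      rw [Multiset.eq_of_mem_replicate hn]
    have h4 : orderOf x ∣ 2 := by
      rw [← Perm.lcm_cycleType]
      exact Multiset.lcm_dvd.2 h3
    have h5 := orderOf_dvd_iff_pow_eq_one.1 h4
    rwa [sq] at h5
  have ha1 : a = 1 := by omega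
  subst ha1
  have hb1 : b ≤ 1 := by omega
  rw [hdec]
  interval_cases b
  · exact absurd hsign (by decide)
  · rfl

theorem x1_zero : x1 0 = 2 := by decide +kernel
theorem x1_two : x1 2 = 1 := by decide +kernel
theorem x1_one : x1 1 = 3 := by decide +kernel
theorem x1_three : x1 3 = 0 := by decide +kernel
theorem x1_four : x1 4 = 5 := by decide +kernel
theorem x1_five : x1 5 = 4 := by decide +kernel
theorem x1_six : x1 6 = 6 := by decide +kernel

theorem x1_fix : ∀ a : Fin 7, x1 a = a → a = 6 := by decide +kernel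
theorem x1_fix2 : ∀ a : Fin 7, x1 (x1 a) = a → a = 4 ∨ a = 5 ∨ a = 6 := by decide +kernel

theorem comm_x1 {τ : Perm (Fin 7)} (hc : τ * x1 = x1 * τ) (hτ : τ * τ = 1) :
    τ = 1 ∨ τ = t0 ∨ τ = s0 ∨ τ = t0 * s0 := by
  have hc' : ∀ a, τ (x1 a) = x1 (τ a) := fun a => DFunLike.congr_fun hc a
  have hτ' : ∀ a, τ (τ a) = a := fun a => DFunLike.congr_fun hτ a
  have h6 : τ 6 = 6 := by
    apply x1_fix
    rw [← hc', x1_six]
  have h4 : τ 4 = 4 ∨ τ 4 = 5 := by
    have h1 : x1 (x1 (τ 4)) = τ 4 := by rw [← hc', ← hc', x1_four, x1_five]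
    rcases x1_fix2 _ h1 with h | h | h
    · exact Or.inl h
    · exact Or.inr h
    · exfalso
      have h2 := τ.injective (h.trans h6.symm)
      exact absurd h2 (by decide)
  have h5 : τ 5 = x1 (τ 4) := by rw [← hc', x1_four]
  have h2 : τ 2 = x1 (τ 0) := by rw [← hc', x1_zero]
  have h1 : τ 1 = x1 (x1 (τ 0)) := by rw [← h2, ← hc', x1_two]
  have h3 : τ 3 = x1 (x1 (x1 (τ 0))) := by rw [← h1, ← hc', x1_one]
  have h0 : τ 0 = 0 ∨ τ 0 = 1 := by
    obtain ⟨a, ha⟩ : ∃ a, τ 0 = a := ⟨_, rfl⟩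
    have h7 := hτ' 0
    rw [ha] at h1 h2 h3 h7 ⊢
    have h8 : a = 0 ∨ a = 1 ∨ a = 2 ∨ a = 3 ∨ a = 4 ∨ a = 5 ∨ a = 6 := by
      have : ∀ a : Fin 7, a = 0 ∨ a = 1 ∨ a = 2 ∨ a = 3 ∨ a = 4 ∨ a = 5 ∨ a = 6 := by decide
      exact this a
    rcases h8 with rfl | rfl | rfl | rfl | rfl | rfl | rfl
    · left; rfl
    · right; rfl
    · rw [h7, x1_two] at h2
      exact absurd h2 (by decide)
    · rw [h7, x1_three, x1_zero, x1_two] at h3
      exact absurd h3 (by decide)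
    · rcases h4 with h4 | h4 <;> rw [h4] at h7 <;> exact absurd h7 (by decide)
    · rcases h4 with h4 | h4 <;> rw [h5, h4] at h7
      · rw [x1_four] at h7; exact absurd h7 (by decide)
      · rw [x1_five] at h7; exact absurd h7 (by decide)
    · rw [h6] at h7
      exact absurd h7 (by decide)
  have key : ∀ ν : Perm (Fin 7), τ 0 = ν 0 → τ 1 = ν 1 → τ 2 = ν 2 → τ 3 = ν 3 → τ 4 = ν 4 → τ 5 = ν 5 →
      τ 6 = ν 6 → τ = ν := by
    intro ν g0 g1 g2 g3 g4 g5 g6
    apply Equiv.ext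
    intro a
    fin_cases a <;> assumption
  rcases h0 with h0 | h0
  · rw [h0, x1_zero] at h1 h2 h3
    rw [x1_two] at h1 h3
    rw [x1_one] at h3
    rcases h4 with h4 | h4
    · rw [h4, x1_four] at h5
      left
      exact key 1 h0 h1 h2 h3 h4 h5 h6
    · rw [h4, x1_five] at h5
      right; right; left
      refine key s0 ?_ ?_ ?_ ?_ ?_ ?_ ?_
      · rw [h0]; decide +kernel
      · rw [h1]; decide +kernel
      · rw [h2]; decide +kernel
      · rw [h3]; decide +kernel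
      · rw [h4]; decide +kernel
      · rw [h5]; decide +kernel
      · rw [h6]; decide +kernel
  · rw [h0, x1_one] at h1 h2 h3
    rw [x1_three] at h1 h3
    rw [x1_zero] at h3
    rcases h4 with h4 | h4
    · rw [h4, x1_four] at h5
      right; left
      refine key t0 ?_ ?_ ?_ ?_ ?_ ?_ ?_
      · rw [h0]; decide +kernel
      · rw [h1]; decide +kernel
      · rw [h2]; decide +kernel
      · rw [h3]; decide +kernel
      · rw [h4]; decide +kernel
      · rw [h5]; decide +kernel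
      · rw [h6]; decide +kernel
    · rw [h4, x1_five] at h5
      right; right; right
      refine key (t0 * s0) ?_ ?_ ?_ ?_ ?_ ?_ ?_
      · rw [h0]; decide +kernel
      · rw [h1]; decide +kernel
      · rw [h2]; decide +kernel
      · rw [h3]; decide +kernel
      · rw [h4]; decide +kernel
      · rw [h5]; decide +kernel
      · rw [h6]; decide +kernel

theorem solvable_centralizer : Group.IsSolvable (centralizer ({t0 * s0} : Set (Perm (Fin 7)))) := by
  apply Cfsg.Agent.S0144.result 2 3 4 1 Nat.prime_two Nat.prime_three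
  rw [Perm.nat_card_centralizer, cycleType_ts]
  decide +kernel

/-- the embedding of `S₅` on the points `0 1 2 3 6` -/
def iota : Fin 5 ↪ Fin 7 := ⟨![0, 1, 2, 3, 6], by decide +kernel⟩

theorem viaEmbedding_comm (g : Perm (Fin 5)) : viaEmbeddingHom iota g * s0 = s0 * viaEmbeddingHom iota g := by
  have h4 : (4 : Fin 7) ∉ Set.range iota := by
    rintro ⟨a, ha⟩
    revert ha
    revert a
    decide +kernel
  have h5 : (5 : Fin 7) ∉ Set.range iota := by
    rintro ⟨a, ha⟩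
    revert ha
    revert a
    decide +kernel
  have e4 : viaEmbeddingHom iota g 4 = 4 := viaEmbedding_apply_of_notMem g iota 4 h4
  have e5 : viaEmbeddingHom iota g 5 = 5 := viaEmbedding_apply_of_notMem g iota 5 h5
  have hs : ∀ a, s0 (iota a) = iota a := by decide +kernel
  have hr : ∀ a : Fin 7, a = 4 ∨ a = 5 ∨ ∃ b, a = iota b := by decide +kernel
  have s4 : s0 4 = 5 := by decide +kernel
  have s5 : s0 5 = 4 := by decide +kernel
  apply Equiv.ext
  intro a
  rw [Perm.mul_apply, Perm.mul_apply]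
  rcases hr a with rfl | rfl | ⟨b, rfl⟩
  · rw [s4, e5, e4, s4]
  · rw [s5, e4, e5, s5]
  · rw [hs, viaEmbeddingHom_apply, viaEmbedding_apply, hs]

theorem exists_perfect : ∃ B : Subgroup (alternatingGroup (Fin 7)), ⁅B, B⁆ = B ∧ Even (Nat.card B) ∧
    ∀ x ∈ B, (x : Perm (Fin 7)) * s0 = s0 * x := by
  have h5 : 5 ≤ Nat.card (Fin 5) := by simp
  let j : alternatingGroup (Fin 5) →* Perm (Fin 7) :=
    (viaEmbeddingHom iota).comp (alternatingGroup (Fin 5)).subtype
  have hj : Function.Injective j := (viaEmbeddingHom_injective iota).comp Subtype.val_injective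
  have hmem : ∀ g, j g ∈ alternatingGroup (Fin 7) := by
    intro g
    have h1 : g ∈ _root_.commutator (alternatingGroup (Fin 5)) := by
      rw [commutator_alternatingGroup_eq_top h5]; trivial
    have h2 : j g ∈ (commutator (alternatingGroup (Fin 5))).map j := mem_map_of_mem _ h1
    rw [commutator_def, map_commutator] at h2
    exact alternatingGroup.commutator_perm_le (commutator_mono le_top le_top h2)
  let φ : alternatingGroup (Fin 5) →* alternatingGroup (Fin 7) := j.codRestrict _ hmem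
  have hφ : Function.Injective φ := by
    intro a b hab
    exact hj (congrArg Subtype.val hab)
  refine ⟨φ.range, ?_, ?_, ?_⟩
  · rw [MonoidHom.range_eq_map, ← map_commutator, ← commutator_def, commutator_alternatingGroup_eq_top h5]
  · have h1 : Nat.card φ.range = Nat.card (alternatingGroup (Fin 5)) :=
      (Nat.card_congr (MonoidHom.ofInjective hφ).toEquiv).symm
    rw [h1, nat_card_alternatingGroup, Nat.card_eq_fintype_card, Fintype.card_fin]
    decide
  · rintro _ ⟨g, rfl⟩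
    exact viaEmbedding_comm g

end Cfsg.Agent.LFourA.Kl7Perm
end

-- part: LFourA/Kl7Hom
section
/-!
# Groups with a normal subgroup `K ≃ A₇`

* `exists_hom'` : the homomorphism `Ψ : X → S₇`, `Ψ = e'` on `K`, kernel `C_X(K)`, normalised by `Ψ x = x1`;
* `exists_perfect` : `Ψ v = (4 5)` ⟹ `C_K(v)` contains an `A₅`;
* `solvable` : `Ψ v = t0 (4 5)` ⟹ `C_X(v)` is solvable.
-/

set_option autoImplicit false

namespace Cfsg.Agent.LFourA.Kl7Hom

open Equiv Equiv.Perm Subgroup Cfsg.Agent.LFourA.Kl7Perm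

variable {X : Type*} [Group X] {K : Subgroup X}

theorem exists_hom (hK : K.Normal) (e : K ≃* alternatingGroup (Fin 7)) :
    ∃ Ψ : X →* Perm (Fin 7), (∀ x : K, Ψ x = (e x : Perm (Fin 7))) ∧ ∀ x, Ψ x = 1 ↔ ∀ y ∈ K, x * y = y * x := by
  obtain ⟨ψ, hψ⟩ := Cfsg.Agent.StandardComponent.AltAut.exists_autHom 7 (le_refl _)
  have key : ∀ (x : X) (y : K), ((MulAut.congr e (MulAut.conjNormal x) (e y) : alternatingGroup (Fin 7)) :
      Perm (Fin 7)) = e ⟨x * y * x⁻¹, hK.conj_mem y y.2 x⟩ := by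
    intro x y
    have h1 : MulAut.congr e (MulAut.conjNormal x) (e y) = e (MulAut.conjNormal x (e.symm (e y))) := rfl
    rw [h1, e.symm_apply_apply]
    congr 2
  refine ⟨ψ.comp ((MulAut.congr e).toMonoidHom.comp MulAut.conjNormal), ?_, ?_⟩
  · intro x
    change ψ (MulAut.congr e (MulAut.conjNormal (x : X))) = _
    apply Cfsg.Agent.StandardComponent.AltAut.conj_unique (m := 5) (by norm_num)
    intro y
    have h1 := hψ (MulAut.congr e (MulAut.conjNormal (x : X))) y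
    refine h1.symm.trans ?_
    obtain ⟨y, rfl⟩ := e.surjective y
    rw [key]
    have h2 : (⟨(x : X) * y * (x : X)⁻¹, hK.conj_mem y y.2 x⟩ : K) = x * y * x⁻¹ := rfl
    rw [h2, map_mul, map_mul, map_inv]
    rfl
  · intro x
    change ψ (MulAut.congr e (MulAut.conjNormal (x : X))) = 1 ↔ _
    constructor
    · intro h y hy
      have h1 := hψ (MulAut.congr e (MulAut.conjNormal (x : X))) (e ⟨y, hy⟩)
      rw [h, key, one_mul, inv_one, mul_one] at h1
      have h2 : (⟨x * y * x⁻¹, hK.conj_mem y hy x⟩ : K) = ⟨y, hy⟩ := e.injective (Subtype.ext h1)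
      have h3 : x * y * x⁻¹ = y := congrArg Subtype.val h2
      exact mul_inv_eq_iff_eq_mul.1 h3
    · intro h
      apply Cfsg.Agent.StandardComponent.AltAut.eq_one_of_centralizes (m := 5) (by norm_num)
      intro y
      have h1 := hψ (MulAut.congr e (MulAut.conjNormal (x : X))) y
      refine h1.symm.trans ?_
      obtain ⟨y, rfl⟩ := e.surjective y
      rw [key]
      congr 2
      apply Subtype.ext
      change x * y * x⁻¹ = y
      rw [h y y.2, mul_inv_cancel_right]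

/-- normalised form -/
theorem exists_hom' (hK : K.Normal) (e : K ≃* alternatingGroup (Fin 7)) {x : X} (hx : x ∈ K) (h1 : x * x ≠ 1)
    (h2 : x * x * (x * x) = 1) :
    ∃ (e' : K ≃* alternatingGroup (Fin 7)) (Ψ : X →* Perm (Fin 7)), (∀ x : K, Ψ x = (e' x : Perm (Fin 7))) ∧
      (∀ x, Ψ x = 1 ↔ ∀ y ∈ K, x * y = y * x) ∧ Ψ x = x1 := by
  obtain ⟨Ψ, hΨ, hΨ1⟩ := exists_hom hK e
  have hx1 : Ψ x = (e ⟨x, hx⟩ : Perm (Fin 7)) := hΨ ⟨x, hx⟩
  obtain ⟨σ, hσ⟩ := exists_conj_x1 (x := (e ⟨x, hx⟩ : Perm (Fin 7))) (mem_alternatingGroup.1 (e ⟨x, hx⟩).2)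
    (by
      intro h
      apply h1
      have h3 : e (⟨x, hx⟩ * ⟨x, hx⟩) = 1 := by
        rw [map_mul]
        exact Subtype.ext h
      have h4 := (MulEquiv.map_eq_one_iff e).1 h3
      exact congrArg Subtype.val h4)
    (by
      have h3 : (⟨x, hx⟩ * ⟨x, hx⟩ * (⟨x, hx⟩ * ⟨x, hx⟩) : K) = 1 := Subtype.ext h2
      have h4 := congrArg e h3
      rw [map_mul, map_mul, map_one] at h4
      exact congrArg Subtype.val h4)
  refine ⟨e.trans (MulAut.conjNormal σ), (MulAut.conj σ).toMonoidHom.comp Ψ, ?_, ?_, ?_⟩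
  · intro y
    change σ * Ψ y * σ⁻¹ = _
    rw [hΨ]
    rfl
  · intro y
    rw [← hΨ1]
    change σ * Ψ y * σ⁻¹ = 1 ↔ _
    rw [conj_eq_one_iff]
  · change σ * Ψ x * σ⁻¹ = x1
    rw [hx1]
    exact hσ

variable {e' : K ≃* alternatingGroup (Fin 7)} {Ψ : X →* Perm (Fin 7)}

theorem exists_perfect (hK : K.Normal) (hΨ : ∀ x : K, Ψ x = (e' x : Perm (Fin 7))) {v : X} (hv : Ψ v = s0) :
    ∃ B : Subgroup X, ⁅B, B⁆ = B ∧ Even (Nat.card B) ∧ ∀ x ∈ B, x * v = v * x := by
  obtain ⟨B, hB, hE, hc⟩ := Kl7Perm.exists_perfect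
  refine ⟨(B.map e'.symm.toMonoidHom).map K.subtype, ?_, ?_, ?_⟩
  · rw [← map_commutator, ← map_commutator, hB]
  · rw [card_map_of_injective K.subtype_injective, card_map_of_injective e'.symm.injective]
    exact hE
  · rintro _ ⟨_, ⟨b, hb, rfl⟩, rfl⟩
    set y : K := e'.symm b with hy
    have hyb : e' y = b := e'.apply_symm_apply b
    change (y : X) * v = v * y
    have h1 : (⟨v * y * v⁻¹, hK.conj_mem y y.2 v⟩ : K) = y := by
      apply e'.injective
      apply Subtype.ext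
      rw [← hΨ, hyb]
      change Ψ (v * y * v⁻¹) = b
      rw [map_mul, map_mul, map_inv, hv, hΨ, hyb, ← hc b hb, mul_inv_cancel_right]
    have h2 : v * y * v⁻¹ = y := congrArg Subtype.val h1
    exact (mul_inv_eq_iff_eq_mul.1 h2).symm

theorem solvable (hΨ1 : ∀ x, Ψ x = 1 ↔ ∀ y ∈ K, x * y = y * x) {d : X}
    (hC : ∀ x, (∀ y ∈ K, x * y = y * x) → x ∈ zpowers d) {v : X} (hv : Ψ v = t0 * s0) :
    Group.IsSolvable (centralizer ({v} : Set X)) := by
  have hm : ∀ x : centralizer ({v} : Set X), Ψ x ∈ centralizer ({t0 * s0} : Set (Perm (Fin 7))) := by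
    intro x
    rw [mem_centralizer_singleton_iff, ← hv, ← map_mul, ← map_mul, mem_centralizer_singleton_iff.1 x.2]
  let φ : centralizer ({v} : Set X) →* centralizer ({t0 * s0} : Set (Perm (Fin 7))) :=
    (Ψ.comp (centralizer ({v} : Set X)).subtype).codRestrict _ hm
  have := solvable_centralizer
  have h1 : Group.IsSolvable φ.ker := by
    have hmem : ∀ x : φ.ker, ((x : centralizer ({v} : Set X)) : X) ∈ zpowers d := by
      intro x
      apply hC
      apply (hΨ1 _).1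
      exact congrArg Subtype.val x.2
    let ι : φ.ker →* zpowers d :=
      ((centralizer ({v} : Set X)).subtype.comp φ.ker.subtype).codRestrict _ hmem
    have hι : Function.Injective ι := by
      intro a b hab
      have h2 : (((a : centralizer ({v} : Set X)) : X)) = ((b : centralizer ({v} : Set X)) : X) :=
        congrArg (fun u : zpowers d => (u : X)) hab
      exact Subtype.ext (Subtype.ext h2)
    have hz : Group.IsSolvable (zpowers d) := by
      apply Group.isSolvable_of_comm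
      rintro ⟨_, m, rfl⟩ ⟨_, n, rfl⟩
      apply Subtype.ext
      change d ^ m * d ^ n = d ^ n * d ^ m
      rw [← zpow_add, ← zpow_add, add_comm]
    exact Group.isSolvable_of_isSolvable_injective hι
  exact Group.isSolvable_of_ker_le_range φ.ker.subtype φ (by rw [range_subtype])

end Cfsg.Agent.LFourA.Kl7Hom
end

-- part: LFourA/Kl7
section
/-!
# Case I: `K = L(t)` is not `A₇`

`f (sr i) c`, `i = 0, 1`, are conjugate to `z`, `t` acting on `C(z) / O` as a swap of the two factors; on `A₇` they act as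
`(4 5)` and `(0 1)(2 3)(4 5)` (in some order). The first one is centralised by an `A₅`, the centraliser of the second
one is solvable: both would be equivalent to `|F| = 3`.
-/

set_option autoImplicit false

namespace Cfsg.Agent.LFourA.Kl7

open Subgroup DihedralGroup Cfsg.Agent.LFourA.Model Cfsg.Agent.LFourA.Base Cfsg.Agent.LFourA.Defs
  Cfsg.Agent.LFourA.CzCt Cfsg.Agent.LFourA.Facts Cfsg.Agent.LFourA.KlOSolv Cfsg.Agent.LFourA.KlO
  Cfsg.Agent.LFourA.KlOAbs Cfsg.Agent.LFourA.KlOSide Cfsg.Agent.LFourA.KlPos Cfsg.Agent.LFourA.CtFinal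

local notation "SL2" => Matrix.SpecialLinearGroup (Fin 2)

section abs

variable {G : Type*} [Group G] [Finite G]

/-- The residual of `C(v', t')`, where `(v', t')` is conjugate to `(v, t)`, seen from `C(v)`. -/
theorem res_of_swap {v t : G} (hv1 : v ≠ 1) (hvv : v * v = 1) (htt : t * t = 1) (tv : t * v = v * t)
    {F : Type*} [Field F] [Finite F] (h2 : (2 : F) ≠ 0)
    {X : Type*} [Group X] {p : centralizer ({v} : Set G) →* X} (hp : Function.Surjective p)
    (hk : Odd (Nat.card p.ker)) {K₁ K₂ : Subgroup X} (e₁ : K₁ ≃* SL2 F)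
    (comm : ∀ x ∈ K₁, ∀ y ∈ K₂, x * y = y * x) (vK₁ : p ⟨v, mem_cent⟩ ∈ K₁) (vK₂ : p ⟨v, mem_cent⟩ ∈ K₂)
    (inf : ∀ x, x ∈ K₁ → x ∈ K₂ → x = 1 ∨ x = p ⟨v, mem_cent⟩)
    (sw : ∀ x ∈ K₁, p ⟨t, mem_cent_of tv⟩ * x * (p ⟨t, mem_cent_of tv⟩)⁻¹ ∈ K₂)
    (sw' : ∀ x ∈ K₂, p ⟨t, mem_cent_of tv⟩ * x * (p ⟨t, mem_cent_of tv⟩)⁻¹ ∈ K₁)
    (solv : ∃ m, derivedSeries X m ≤ K₁ ⊔ K₂)
    {v' t' g : G} (hgv : g * v' * g⁻¹ = v) (hgt : g * t' * g⁻¹ = t) :
    ∃ q : ↥(centralizer ({v'} : Set G) ⊓ centralizer {t'}) →* X, Odd (Nat.card q.ker) ∧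
      ∃ A : Subgroup X, Res q A ∧ NoOdd A ∧ ((3 < Nat.card F ∧ 2 * Nat.card A = Nat.card F * (Nat.card F ^ 2 - 1)) ∨
        (Nat.card F = 3 ∧ Nat.card A = 1)) := by
  obtain ⟨m, hm⟩ := solv
  have vv' : (⟨v, mem_cent⟩ : centralizer ({v} : Set G)) * ⟨v, mem_cent⟩ = 1 := Subtype.ext hvv
  have tt' : (⟨t, mem_cent_of tv⟩ : centralizer ({v} : Set G)) * ⟨t, mem_cent_of tv⟩ = 1 := Subtype.ext htt
  obtain ⟨φ, hφ, hφm, hφc⟩ := swap_side (v := p ⟨v, mem_cent⟩) (t := p ⟨t, mem_cent_of tv⟩) e₁ comm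
    (ne_one_of_odd_ker hk (fun h => hv1 (congrArg Subtype.val h)) vv')
    (by rw [← map_mul, vv', map_one]) vK₁ vK₂ inf (by rw [← map_mul, tt', map_one])
    (by rw [← map_mul, ← map_mul]; congr 1; exact Subtype.ext tv) sw sw'
  have hmv : ∀ y, y * v' = v' * y → (g * y * g⁻¹) * v = v * (g * y * g⁻¹) := by
    intro y hy
    rw [← hgv]
    calc g * y * g⁻¹ * (g * v' * g⁻¹) = g * (y * v') * g⁻¹ := by group
      _ = g * v' * g⁻¹ * (g * y * g⁻¹) := by rw [hy]; group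
  have hmt : ∀ y, y * t' = t' * y → (g * y * g⁻¹) * t = t * (g * y * g⁻¹) := by
    intro y hy
    rw [← hgt]
    calc g * y * g⁻¹ * (g * t' * g⁻¹) = g * (y * t') * g⁻¹ := by group
      _ = g * t' * g⁻¹ * (g * y * g⁻¹) := by rw [hy]; group
  let j : ↥(centralizer ({v'} : Set G) ⊓ centralizer {t'}) →* ↥(centralizer ({v} : Set G)) :=
    { toFun := fun y => ⟨g * y * g⁻¹, mem_centralizer_singleton_iff.2 (hmv y (mem_centralizer_singleton_iff.1 y.2.1))⟩
      map_one' := by apply Subtype.ext; change g * 1 * g⁻¹ = 1; group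
      map_mul' := fun x y => by
        apply Subtype.ext
        change g * (x * y) * g⁻¹ = g * x * g⁻¹ * (g * y * g⁻¹)
        group }
  have hj : Function.Injective j := by
    intro x y hxy
    have h1 : g * (x : G) * g⁻¹ = g * y * g⁻¹ := congrArg Subtype.val hxy
    exact Subtype.ext (mul_left_cancel (mul_right_cancel h1))
  refine ⟨p.comp j, ?_, ?_⟩
  · have h1 : (p.comp j).ker.map j ≤ p.ker := by
      rintro _ ⟨y, hy, rfl⟩
      exact hy
    have h3 := card_dvd_of_le h1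
    rw [card_map_of_injective hj] at h3
    exact odd_of_dvd h3 hk
  · refine exists_res h2 (p.comp j) φ hφ (P := (K₁ ⊔ K₂) ⊓ centralizer {p ⟨t, mem_cent_of tv⟩}) (m := m) ?_ ?_ hφc
    · rintro _ ⟨x, rfl⟩
      obtain ⟨c, hc1, hc2⟩ := exists_comm_lift hp hk tt' (hφm x).2.symm
      have hc3 : (c : G) * t = t * c := congrArg Subtype.val hc1
      have hc4 : (c : G) * v = v * c := mem_centralizer_singleton_iff.1 c.2
      refine ⟨⟨g⁻¹ * c * g, mem_centralizer_singleton_iff.2 ?_, mem_centralizer_singleton_iff.2 ?_⟩, ?_⟩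
      · have e : v' = g⁻¹ * v * g := by rw [← hgv]; group
        rw [e]
        calc g⁻¹ * c * g * (g⁻¹ * v * g) = g⁻¹ * (c * v) * g := by group
          _ = g⁻¹ * v * g * (g⁻¹ * c * g) := by rw [hc4]; group
      · have e : t' = g⁻¹ * t * g := by rw [← hgt]; group
        rw [e]
        calc g⁻¹ * c * g * (g⁻¹ * t * g) = g⁻¹ * (c * t) * g := by group
          _ = g⁻¹ * t * g * (g⁻¹ * c * g) := by rw [hc3]; group
      · rw [← hc2]
        change p _ = p c
        congr 1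
        apply Subtype.ext
        change g * (g⁻¹ * c * g) * g⁻¹ = c
        group
    · rintro _ ⟨y, hy, rfl⟩
      refine ⟨hm (map_derivedSeries_le_derivedSeries (p.comp j) m (mem_map_of_mem _ hy)), ?_⟩
      refine mem_centralizer_singleton_iff.2 ?_
      change p (j y) * p ⟨t, mem_cent_of tv⟩ = p ⟨t, mem_cent_of tv⟩ * p (j y)
      rw [← map_mul, ← map_mul]
      congr 1
      exact Subtype.ext (hmt y (mem_centralizer_singleton_iff.1 y.2.2))

end abs

variable {G X : Type*} [Group G] [Finite G] [Group X] {P : Sylow 2 G} {k : ℕ} {f : D k → D k → G} {w : G}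

/-- The residual of `C(f (sr i) c, t)`, seen from `C(z)`. -/
theorem z_res (h : DWr (P : Subgroup G) k f w) (hI : CaseI f w)
    {F : Type*} [Field F] [Finite F] (h2 : (2 : F) ≠ 0)
    {p : ↥(centralizer ({f (c k) (c k)} : Set G)) →* X} {K₁ K₂ : Subgroup X}
    (Z : CZL (f (c k) (c k)) F p K₁ K₂) (zp : ZPos f w p K₁ K₂) (i : ZMod (4 * 2 ^ k)) :
    ∃ q : ↥(centralizer ({f (sr i) (c k)} : Set G) ⊓ centralizer {f (c k) 1}) →* X, Odd (Nat.card q.ker) ∧
      ∃ A : Subgroup X, Res q A ∧ NoOdd A ∧ ((3 < Nat.card F ∧ 2 * Nat.card A = Nat.card F * (Nat.card F ^ 2 - 1)) ∨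
        (Nat.card F = 3 ∧ Nat.card A = 1)) := by
  obtain ⟨g₀, hg₀⟩ := isConj_iff.1 (hI.typ_z i)
  have hPz : (P : Subgroup G) ≤ centralizer ({f (c k) (c k)} : Set G) := fun x hx => mem_cz h hx
  have htv : f (c k) 1 * f (sr i) (c k) = f (sr i) (c k) * f (c k) 1 := by
    rw [f_comm_iff h]
    exact ⟨c_comm _, by rw [one_mul, mul_one]⟩
  have hu₀ : (g₀ * f (c k) 1 * g₀⁻¹) ∈ centralizer ({f (c k) (c k)} : Set G) := by
    rw [mem_centralizer_singleton_iff, ← hg₀]
    calc g₀ * f (c k) 1 * g₀⁻¹ * (g₀ * f (sr i) (c k) * g₀⁻¹) = g₀ * (f (c k) 1 * f (sr i) (c k)) * g₀⁻¹ := by group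
      _ = g₀ * f (sr i) (c k) * g₀⁻¹ * (g₀ * f (c k) 1 * g₀⁻¹) := by rw [htv]; group
  have htt : f (c k) 1 * f (c k) 1 = 1 := by rw [h.f_mul, c_mul_c, mul_one, f_one h]
  -- Sylow in `C(z)`
  obtain ⟨c₁, hc₁, hcu⟩ : ∃ c₁ ∈ centralizer ({f (c k) (c k)} : Set G),
      c₁ * (g₀ * f (c k) 1 * g₀⁻¹) * c₁⁻¹ ∈ (P : Subgroup G) := by
    have hpg : IsPGroup 2 (zpowers (⟨_, hu₀⟩ : ↥(centralizer ({f (c k) (c k)} : Set G)))) := by
      rw [IsPGroup.iff_card, Nat.card_zpowers]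
      refine ⟨1, ?_⟩
      rw [pow_one]
      refine orderOf_eq_prime ?_ ?_
      · apply Subtype.ext
        rw [sq]
        change g₀ * f (c k) 1 * g₀⁻¹ * (g₀ * f (c k) 1 * g₀⁻¹) = 1
        calc g₀ * f (c k) 1 * g₀⁻¹ * (g₀ * f (c k) 1 * g₀⁻¹) = g₀ * (f (c k) 1 * f (c k) 1) * g₀⁻¹ := by group
          _ = 1 := by rw [htt]; group
      · intro e
        exact t_ne_one h (conj_eq_one_iff.1 (congrArg Subtype.val e))
    obtain ⟨Q, hQ⟩ := hpg.exists_le_sylow
    obtain ⟨c₁, hc₁⟩ := MulAction.exists_smul_eq (↥(centralizer ({f (c k) (c k)} : Set G))) Q (P.subtype hPz)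
    refine ⟨c₁, c₁.2, ?_⟩
    have h1 : c₁ * ⟨_, hu₀⟩ * c₁⁻¹ ∈ (P.subtype hPz : Subgroup ↥(centralizer ({f (c k) (c k)} : Set G))) := by
      rw [← hc₁, Sylow.coe_subgroup_smul]
      exact ⟨⟨_, hu₀⟩, hQ (mem_zpowers _), rfl⟩
    exact h1
  set g := c₁ * g₀ with hg
  have hgv : g * f (sr i) (c k) * g⁻¹ = f (c k) (c k) := by
    calc g * f (sr i) (c k) * g⁻¹ = c₁ * (g₀ * f (sr i) (c k) * g₀⁻¹) * c₁⁻¹ := by rw [hg]; group
      _ = c₁ * f (c k) (c k) * c₁⁻¹ := by rw [hg₀]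
      _ = _ := by rw [mem_centralizer_singleton_iff.1 hc₁, mul_inv_cancel_right]
  set u := g * f (c k) 1 * g⁻¹ with hu
  have huP : u ∈ P := by
    have e : u = c₁ * (g₀ * f (c k) 1 * g₀⁻¹) * c₁⁻¹ := by rw [hu, hg]; group
    rw [e]; exact hcu
  have huu : u * u = 1 := by
    calc u * u = g * (f (c k) 1 * f (c k) 1) * g⁻¹ := by rw [hu]; group
      _ = 1 := by rw [htt]; group
  have hut : IsConj u (f (c k) 1) := (isConj_iff.2 ⟨g, rfl⟩).symm
  have huz : IsConj (u * f (c k) (c k)) (f (c k) (c k)) := by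
    obtain ⟨j, hj, -⟩ := FThree.pa_src (k := k) i
    have e : u * f (c k) (c k) = g * f (sr j) (c k) * g⁻¹ := by
      rw [← hgv, hu, ← hj, ← c_comm]
      calc g * f (c k) 1 * g⁻¹ * (g * f (sr i) (c k) * g⁻¹) = g * (f (c k) 1 * f (sr i) (c k)) * g⁻¹ := by group
        _ = _ := by rw [h.f_mul, one_mul]
    rw [e]
    exact (isConj_iff.2 ⟨g, rfl⟩).symm.trans (hI.typ_z j)
  -- `u` swaps
  have hsw : Swp K₁ K₂ (p ⟨u, mem_cz h huP⟩) := by
    obtain ⟨i, hi | hi⟩ := types h hI huP huu hut huz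
    · have := swp_left h Z.toCZ zp i (e := 1) (Or.inl rfl)
      convert this using 3
    · have := swp_right h Z.toCZ zp i (e := 1) (Or.inl rfl)
      convert this using 3
  have hzu : u * f (c k) (c k) = f (c k) (c k) * u := mem_centralizer_singleton_iff.1 (mem_cz h huP)
  obtain ⟨e₁⟩ := Z.e₁
  have hzz : f (c k) (c k) * f (c k) (c k) = 1 := by rw [h.f_mul, c_mul_c, f_one h]
  exact res_of_swap (v := f (c k) (c k)) (t := u) (z_ne_one h) hzz huu hzu h2 (p := p) Z.surj (odd_ker Z.ker) e₁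
    Z.comm Z.z₁ Z.z₂ (fun x h1 h3 => Z.inf x h1 h3) hsw.1 hsw.2 ⟨2, derived_le h2 Z⟩ hgv rfl

open Cfsg.Agent.LFourA.Kl7Perm in
/-- **`K` is not `A₇` in case I.** -/
theorem not_alt {X' : Type*} [Group X'] [Finite X'] (h : DWr (P : Subgroup G) k f w) (hI : CaseI f w)
    {F : Type*} [Field F] [Finite F] (h2 : (2 : F) ≠ 0)
    {p : ↥(centralizer ({f (c k) (c k)} : Set G)) →* X} {K₁ K₂ : Subgroup X}
    (Z : CZL (f (c k) (c k)) F p K₁ K₂) (zp : ZPos f w p K₁ K₂)
    {p' : ↥(centralizer ({f (c k) 1} : Set G)) →* X'} {K : Subgroup X'}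
    (T : CT (f (c k) 1) p' K) (tp : TPos f p' K) (ext : CtExt f p' K (fun i => chi (1 + pa i) (pa i)))
    {d : X'} (hC : ∀ x, (∀ y ∈ K, x * y = y * x) → x ∈ zpowers d) (e : K ≃* alternatingGroup (Fin 7)) : False := by
  have hinj : ∀ {a b : D k}, p' ⟨f a b, mem_ct h a b⟩ = 1 → a = 1 ∧ b = 1 := by
    intro a b hab
    exact (f_eq_one_iff h).1 (eq_one_of_mem (P := P) T.ker _ (f_mem h _ _) hab)
  have hmul : ∀ a b a' b' : D k, p' ⟨f a b, mem_ct h a b⟩ * p' ⟨f a' b', mem_ct h a' b'⟩ =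
      p' ⟨f (a * a') (b * b'), mem_ct h _ _⟩ := by
    intro a b a' b'
    rw [← map_mul]
    congr 1
    exact Subtype.ext (h.f_mul a b a' b')
  have hone : p' ⟨f 1 1, mem_ct h 1 1⟩ = 1 := by
    rw [← map_one p']
    congr 1
    exact Subtype.ext (f_one h)
  obtain ⟨e', Ψ, hΨ, hΨ1, hx1⟩ := Kl7Hom.exists_hom' T.normal e (x := p' ⟨f 1 (x0 k), mem_ct h 1 _⟩) (mem_of_up h tp)
    (by
      rw [hmul, x0_mul_x0]
      intro h1
      exact c_ne_one (hinj h1).2)
    (by rw [hmul, x0_mul_x0, hmul, c_mul_c, one_mul, one_mul, hone])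
  have ht0 : Ψ (p' ⟨f 1 (c k), mem_ct h 1 _⟩) = t0 := by
    rw [← x1_sq, ← hx1, ← map_mul Ψ, hmul, x0_mul_x0, one_mul]
  -- the action of `f (sr i) c`
  have hτ : ∀ i : ZMod (4 * 2 ^ k), Ψ (p' ⟨f (sr i) (c k), mem_ct h _ _⟩) = s0 ∨
      Ψ (p' ⟨f (sr i) (c k), mem_ct h _ _⟩) = t0 * s0 := by
    intro i
    have h1 : Ψ (p' ⟨f (sr i) (c k), mem_ct h _ _⟩) * x1 = x1 * Ψ (p' ⟨f (sr i) (c k), mem_ct h _ _⟩) := by
      rw [← hx1, ← map_mul Ψ, ← map_mul Ψ, hmul, hmul, mul_one, one_mul, c_comm]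
    have h3 : Ψ (p' ⟨f (sr i) (c k), mem_ct h _ _⟩) * Ψ (p' ⟨f (sr i) (c k), mem_ct h _ _⟩) = 1 := by
      rw [← map_mul Ψ, hmul, sr_mul_self, c_mul_c, hone, map_one]
    rcases comm_x1 h1 h3 with h4 | h4 | h4 | h4
    · exact absurd ((hΨ1 _).1 h4) (not_cent h hI T tp i (e := c k) (Or.inr rfl))
    · exfalso
      refine not_cent h hI T tp i (e := 1) (Or.inl rfl) ((hΨ1 _).1 ?_)
      have h5 : p' ⟨f (sr i) 1, mem_ct h _ _⟩ = p' ⟨f (sr i) (c k), mem_ct h _ _⟩ * p' ⟨f 1 (c k), mem_ct h _ _⟩ := by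
        rw [hmul, mul_one, c_mul_c]
      rw [h5, map_mul, h4, ht0, ← ht0, ← map_mul Ψ, hmul, c_mul_c, one_mul, hone, map_one]
    · exact Or.inl h4
    · exact Or.inr h4
  have hne : Ψ (p' ⟨f (sr 0) (c k), mem_ct h _ _⟩) ≠ Ψ (p' ⟨f (sr 1) (c k), mem_ct h _ _⟩) := by
    intro h1
    have h3 : Ψ (p' ⟨f (r 1) 1, mem_ct h _ _⟩) = 1 := by
      have h4 : p' ⟨f (r 1) 1, mem_ct h _ _⟩ = p' ⟨f (sr 0) (c k), mem_ct h _ _⟩ * p' ⟨f (sr 1) (c k), mem_ct h _ _⟩ := by
        rw [hmul, c_mul_c, sr_mul_sr, sub_zero]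
      rw [h4, map_mul, h1, ← map_mul Ψ, hmul, sr_mul_self, c_mul_c, hone, map_one]
    have h4 := ext.cent (r 1) 1 (mem_ct h _ _) ((hΨ1 _).1 h3) 0
    rw [chi_r, map_zero, map_one, add_zero, add_zero, mul_one, cc_one] at h4
    exact c_ne_one h4.symm
  obtain ⟨i, i', hi, hi'⟩ : ∃ i i' : ZMod (4 * 2 ^ k), Ψ (p' ⟨f (sr i) (c k), mem_ct h _ _⟩) = s0 ∧
      Ψ (p' ⟨f (sr i') (c k), mem_ct h _ _⟩) = t0 * s0 := by
    rcases hτ 0 with h0 | h0 <;> rcases hτ 1 with h1 | h1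
    · exact absurd (h0.trans h1.symm) hne
    · exact ⟨0, 1, h0, h1⟩
    · exact ⟨1, 0, h1, h0⟩
    · exact absurd (h0.trans h1.symm) hne
  have hYt : ∀ i : ZMod (4 * 2 ^ k), centralizer ({f (sr i) (c k)} : Set G) ⊓ centralizer {f (c k) 1} ≤
      centralizer {f (c k) 1} := fun i => inf_le_right
  -- `|F| = 3` from `i'`
  have hF : Nat.card F = 3 := by
    obtain ⟨q, hq, A, hA, hoA, hcA⟩ := z_res h hI h2 Z zp i'
    have hsol := Kl7Hom.solvable hΨ1 hC hi'
    obtain ⟨n, hn⟩ := hsol.solvable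
    have hres : Res (p'.comp (inclusion (hYt i'))) (⊥ : Subgroup X') := by
      have hle : ∀ m, (derivedSeries _ m).map (p'.comp (inclusion (hYt i'))) ≤
          (derivedSeries (centralizer ({p' ⟨f (sr i') (c k), mem_ct h _ _⟩} : Set X')) m).map (Subgroup.subtype _) := by
        intro m
        induction m with
        | zero =>
          rw [derivedSeries_zero, derivedSeries_zero, ← MonoidHom.range_eq_map, ← MonoidHom.range_eq_map, range_subtype]
          rintro _ ⟨y, rfl⟩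
          rw [mem_centralizer_singleton_iff]
          change p' (inclusion (hYt i') y) * p' _ = p' _ * p' (inclusion (hYt i') y)
          rw [← map_mul, ← map_mul]
          congr 1
          exact Subtype.ext (mem_centralizer_singleton_iff.1 y.2.1)
        | succ m ih =>
          rw [derivedSeries_succ, derivedSeries_succ, map_commutator, map_commutator]
          exact commutator_mono ih ih
      refine ⟨n, fun m hm => ?_⟩
      rw [eq_bot_iff]
      refine (anti _ hm).trans ((hle n).trans ?_)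
      rw [hn, Subgroup.map_bot]
    have h1 := card_eq_of_res hq (odd_ker_inclusion (hYt i') (odd_ker T.ker)) hA hres hoA noOdd_bot
    rw [Subgroup.card_bot] at h1
    rcases hcA with ⟨h3, h4⟩ | ⟨h3, -⟩
    · exfalso
      rw [h1, mul_one] at h4
      have h5 : 4 ^ 2 ≤ Nat.card F ^ 2 := Nat.pow_le_pow_left h3 2
      have h6 : 1 ≤ Nat.card F ^ 2 - 1 := by omega
      have h7 : Nat.card F * 1 ≤ Nat.card F * (Nat.card F ^ 2 - 1) := Nat.mul_le_mul_left _ h6
      omega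
    · exact h3
  -- contradiction from `i`
  obtain ⟨q, hq, A, ⟨N, hN⟩, hoA, hcA⟩ := z_res h hI h2 Z zp i
  obtain ⟨B, hB, hE, hBc⟩ := Kl7Hom.exists_perfect T.normal hΨ hi
  have hA1 : A = ⊥ := by
    rcases hcA with ⟨h3, -⟩ | ⟨-, h3⟩
    · omega
    · exact Subgroup.card_eq_one.1 h3
  have h1 := hN N le_rfl
  rw [hA1, Subgroup.map_eq_bot_iff] at h1
  have h3 : Odd (Nat.card (derivedSeries ↥(centralizer ({f (sr i) (c k)} : Set G) ⊓ centralizer {f (c k) 1}) N)) :=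
    odd_of_dvd (card_dvd_of_le h1) hq
  have hBr : B ≤ (p'.comp (inclusion (hYt i))).range := by
    intro x hx
    have hvv : (⟨f (sr i) (c k), mem_ct h _ _⟩ : centralizer ({f (c k) 1} : Set G)) * ⟨f (sr i) (c k), mem_ct h _ _⟩ =
        1 := by
      apply Subtype.ext
      change f (sr i) (c k) * f (sr i) (c k) = 1
      rw [h.f_mul, sr_mul_self, c_mul_c, f_one h]
    obtain ⟨g, hg1, hg2⟩ := exists_comm_lift T.surj (odd_ker T.ker) hvv (hBc x hx)
    exact ⟨⟨g, mem_centralizer_singleton_iff.2 (congrArg Subtype.val hg1), g.2⟩, hg2⟩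
  have h4 := card_dvd_of_le (le_map_derived _ hB hBr N)
  have h5 := odd_of_dvd (h4.trans (card_map_dvd _ _)) h3
  exact (Nat.not_even_iff_odd.2 h5) hE

end Cfsg.Agent.LFourA.Kl7
end

-- part: LFourA/KlFinal
section
/-!
# Case I: `C(z)` and `C(t)` modulo their odd cores

`ct_final` : `K = L(t) ≃ PSL(2,F₂)` with `|F₂| = |F|²`; `final` : both centralisers together.
-/

set_option autoImplicit false

namespace Cfsg.Agent.LFourA.KlFinal

open Subgroup DihedralGroup Cfsg.Agent.LFourA.Model Cfsg.Agent.LFourA.Base Cfsg.Agent.LFourA.Defs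
  Cfsg.Agent.LFourA.CzCt Cfsg.Agent.LFourA.CtFinal Cfsg.Agent.LFourA.CtData

universe u

theorem two_ne {F : Type*} [Field F] [Fintype F] (h : Odd (Fintype.card F)) : (2 : F) ≠ 0 := by
  intro h2
  have h1 : ringChar F ∣ 2 := by
    rw [← ringChar.spec]
    exact_mod_cast h2
  have h3 : ringChar F = 2 := by
    rcases (Nat.dvd_prime Nat.prime_two).1 h1 with h4 | h4
    · exact absurd h4 CharP.ringChar_ne_one
    · exact h4
  have h5 := FiniteField.even_card_of_char_two h3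
  rw [Nat.odd_iff] at h
  omega

variable {G : Type u} [Group G] [Finite G] {P : Sylow 2 G} {k : ℕ} {f : D k → D k → G} {w : G}

/-- **`C(t)` in case I**: `K ≃ PSL(2,F₂)`, `|F₂| = |F|²`. -/
theorem ct_final
    (hGW : ∀ (X : Type u) [Group X] [Finite X] [Group.IsPerfect X]
      (S : Sylow 2 X) (n : ℕ), 2 ≤ n → Nonempty ((S : Subgroup X) ≃* DihedralGroup n) →
      (∃ (F : Type) (_ : Field F) (_ : Fintype F), Odd (Fintype.card F) ∧ 3 < Fintype.card F ∧
        Nonempty (X ⧸ Cfsg.oddCore X ≃* Matrix.ProjectiveSpecialLinearGroup (Fin 2) F)) ∨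
      Nonempty (X ⧸ Cfsg.oddCore X ≃* alternatingGroup (Fin 7)))
    (h : DWr (P : Subgroup G) k f w) (hI : CaseI f w)
    {X : Type*} [Group X] {F : Type*} [Field F] [Finite F] (h2 : (2 : F) ≠ 0)
    {p : centralizer ({f (c k) (c k)} : Set G) →* X} {K₁ K₂ : Subgroup X}
    (Z : CZL (f (c k) (c k)) F p K₁ K₂) (zp : ZPos f w p K₁ K₂) :
    ∃ (X' : Type u) (_ : Group X') (_ : Finite X') (p' : centralizer ({f (c k) 1} : Set G) →* X')
      (K : Subgroup X') (F₂ : Type) (_ : Field F₂) (_ : Fintype F₂), Odd (Fintype.card F₂) ∧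
        CTL (f (c k) 1) F₂ p' K ∧ TPos f p' K ∧ CtExt f p' K (fun i => chi (1 + pa i) (pa i)) ∧
        (∀ x, (∀ y ∈ K, x * y = y * x) → x ∈ zpowers (p' ⟨f (r 1) (c k), f_mem_cent h _ _⟩)) ∧
        Nat.card F₂ = Nat.card F ^ 2 := by
  obtain ⟨X', i1, i2, p', K, T, tp, ext, hC, hiso⟩ := main_one h hGW hI
  rcases hiso with ⟨F₂, i3, i4, hodd, -, hiso⟩ | ⟨⟨e⟩⟩
  · have T' : CTL (f (c k) 1) F₂ p' K := ⟨T, hiso⟩
    exact ⟨X', i1, i2, p', K, F₂, i3, i4, hodd, T', tp, ext, hC,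
      KlPos.card_sq_caseI h hI h2 (two_ne hodd) Z zp T' tp⟩
  · exact (Kl7.not_alt h hI h2 Z zp T tp ext hC e).elim

/-- **`C(z)` and `C(t)` in case I.** -/
theorem final
    (hC1 : ∀ (G : Type u) [Group G] [Finite G] (P : Sylow 2 G) (A B : Subgroup G), A ⊓ B = ⊥ →
      Cfsg.IsStronglyClosed A (P : Subgroup G) → Cfsg.IsStronglyClosed B (P : Subgroup G) →
      ⁅Subgroup.normalClosure (A : Set G), Subgroup.normalClosure (B : Set G)⁆ ≤ Cfsg.oddCore G)
    (hGW : ∀ (X : Type u) [Group X] [Finite X] [Group.IsPerfect X]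
      (S : Sylow 2 X) (n : ℕ), 2 ≤ n → Nonempty ((S : Subgroup X) ≃* DihedralGroup n) →
      (∃ (F : Type) (_ : Field F) (_ : Fintype F), Odd (Fintype.card F) ∧ 3 < Fintype.card F ∧
        Nonempty (X ⧸ Cfsg.oddCore X ≃* Matrix.ProjectiveSpecialLinearGroup (Fin 2) F)) ∨
      Nonempty (X ⧸ Cfsg.oddCore X ≃* alternatingGroup (Fin 7)))
    (h : DWr (P : Subgroup G) k f w) (hI : CaseI f w) :
    ∃ (X : Type u) (_ : Group X) (_ : Finite X) (p : centralizer ({f (c k) (c k)} : Set G) →* X) (K₁ K₂ : Subgroup X)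
      (F : Type) (_ : Field F) (_ : Fintype F) (X' : Type u) (_ : Group X') (_ : Finite X')
      (p' : centralizer ({f (c k) 1} : Set G) →* X') (K : Subgroup X') (F₂ : Type) (_ : Field F₂) (_ : Fintype F₂),
        Odd (Fintype.card F) ∧ CZL (f (c k) (c k)) F p K₁ K₂ ∧ ZPos f w p K₁ K₂ ∧ Odd (Fintype.card F₂) ∧
        CTL (f (c k) 1) F₂ p' K ∧ TPos f p' K ∧ CtExt f p' K (fun i => chi (1 + pa i) (pa i)) ∧
        (∀ x, (∀ y ∈ K, x * y = y * x) → x ∈ zpowers (p' ⟨f (r 1) (c k), f_mem_cent h _ _⟩)) ∧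
        Nat.card F₂ = Nat.card F ^ 2 := by
  obtain ⟨X, i1, i2, p, K₁, K₂, F, i3, i4, hodd, Z, zp⟩ := CzFinal.main hC1 hGW h hI
  obtain ⟨X', i5, i6, p', K, F₂, i7, i8, h1, h3, h4, h5, h6, h7⟩ := ct_final hGW h hI (two_ne hodd) Z zp
  exact ⟨X, i1, i2, p, K₁, K₂, F, i3, i4, X', i5, i6, p', K, F₂, i7, i8, hodd, Z, zp, h1, h3, h4, h5, h6, h7⟩

end Cfsg.Agent.LFourA.KlFinal
end

-- part: LFourR/CloseA
section
/-!
# Closing argument in case I

`G` has a Sylow 2-subgroup of type `D wr 2` with the fusion pattern `CaseI`, `t = f c 1`, `z = f c c`.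
A subgroup `M` containing `C_G(z)` and an element `a * (w * b * w⁻¹)` with `Rho f i a`, `Rho f j b`, `i`, `j` of different
parity, is `G`.
-/

set_option autoImplicit false

namespace Cfsg.Agent.LFourR.CloseA

open Subgroup Cfsg DihedralGroup Cfsg.Agent.LFourA.Model Cfsg.Agent.LFourA.Base Cfsg.Agent.LFourA.Defs
open Cfsg.Agent.LFourA.Facts Cfsg.Agent.LFourA.CzCt

variable {G : Type*} [Group G] {S : Subgroup G} {k : ℕ} {f : D k → D k → G} {w : G}

section fusion

variable (h : DWr S k f w)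

include h

/-- the standard `Rho` -/
abbrev RhoS (f : D k → D k → G) (i : ZMod (4 * 2 ^ k)) (a : G) : Prop := Rho f i a (chi (1 + pa i) (pa i))

omit h in
theorem chi_ne {i j : ZMod (4 * 2 ^ k)} (hij : pa i ≠ pa j) : chi (1 + pa i) (pa i) (sr j : D k) = 1 := by
  rw [chi_sr]
  have h1 : 1 + pa i + (1 + pa i + pa i) * pa j = 0 := by
    generalize pa i = x at hij ⊢
    generalize pa j = y at hij ⊢
    revert x y; decide
  rw [h1, cc_zero]

omit h in
theorem chi_eq {i j : ZMod (4 * 2 ^ k)} (hij : pa i = pa j) : chi (1 + pa i) (pa i) (sr j : D k) = c k := by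
  rw [chi_sr]
  have h1 : 1 + pa i + (1 + pa i + pa i) * pa j = 1 := by
    generalize pa i = x at hij ⊢
    generalize pa j = y at hij ⊢
    revert x y; decide
  rw [h1, cc_one]

omit h in
/-- conjugation -/
theorem cj_mul (g x y : G) : g * (x * y) * g⁻¹ = (g * x * g⁻¹) * (g * y * g⁻¹) := by group

theorem f_split (a b : D k) : f a b = f a 1 * f 1 b := by rw [h.f_mul, mul_one, one_mul]

omit h in
theorem rho_fix_ne {i j : ZMod (4 * 2 ^ k)} {a : G} (ha : RhoS f i a) (hij : pa i ≠ pa j) :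
    a * f 1 (sr j) * a⁻¹ = f 1 (sr j) := by
  have h1 := ha.fix (sr j)
  rw [chi_ne hij] at h1
  rw [h1, mul_inv_cancel_right]

omit h in
theorem rho_fix_c {i : ZMod (4 * 2 ^ k)} {a : G} (ha : RhoS f i a) : a * f 1 (c k) * a⁻¹ = f 1 (c k) := by
  rw [ha.comm, mul_inv_cancel_right]

theorem rho_fix_eq {i j : ZMod (4 * 2 ^ k)} {a : G} (ha : RhoS f i a) (hij : pa i = pa j) :
    a * f 1 (sr j) * a⁻¹ = f (sr i * c k) (sr j) := by
  have h1 := ha.fix (sr j)
  rw [chi_eq hij] at h1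
  have h2 : a * f (c k) (sr j) * a⁻¹ = f (c k) (sr j) := by rw [h1, mul_inv_cancel_right]
  have h3 : f 1 (sr j) = f (c k) 1 * f (c k) (sr j) := by
    rw [h.f_mul, c_mul_c, one_mul]
  rw [h3, cj_mul, h2, ha.t_s, h.f_mul, one_mul]

/-- images under `ρ = a b'` of the elements `f p q`. -/
theorem rho_mem [Finite G] {i j : ZMod (4 * 2 ^ k)} {a b : G} (ha : RhoS f i a) (hb : RhoS f j b)
    (hij : pa i ≠ pa j) {M : Subgroup G} (hz : centralizer ({f (c k) (c k)} : Set G) ≤ M)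
    (hS : S ≤ M) (hM : a * (w * b * w⁻¹) ∈ M) : a ∈ M ∧ b ∈ M := by
  set b' := w * b * w⁻¹ with hb'
  -- action of `a`
  have A1 : a * f 1 (c k) * a⁻¹ = f 1 (c k) := rho_fix_c ha
  have A2 : a * f 1 (sr j) * a⁻¹ = f 1 (sr j) := rho_fix_ne ha hij
  have A3 : a * f 1 (sr j * c k) * a⁻¹ = f 1 (sr j * c k) := by
    have e : f 1 (sr j * c k) = f 1 (sr j) * f 1 (c k) := by rw [h.f_mul, one_mul]
    rw [e, cj_mul, A1, A2]
  -- action of `b'`
  have cw : ∀ x : G, b' * x * b'⁻¹ = w * (b * (w⁻¹ * x * w) * b⁻¹) * w⁻¹ := by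
    intro x; rw [hb']; group
  have B1 : b' * f (c k) 1 * b'⁻¹ = f (c k) 1 := by
    rw [cw, w_conj' h, rho_fix_c hb, w_conj h]
  have B2 : b' * f (sr i) 1 * b'⁻¹ = f (sr i) 1 := by
    rw [cw, w_conj' h, rho_fix_ne hb hij.symm, w_conj h]
  have B3 : b' * f (sr i * c k) 1 * b'⁻¹ = f (sr i * c k) 1 := by
    have e : f (sr i * c k) 1 = f (sr i) 1 * f (c k) 1 := by rw [h.f_mul, one_mul]
    rw [e, cj_mul, B1, B2]
  have B4 : b' * f 1 (c k) * b'⁻¹ = f 1 (sr j) := by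
    rw [cw, w_conj' h, hb.t_s, w_conj h]
  have B5 : b' * f 1 (sr j) * b'⁻¹ = f 1 (sr j * c k) := by
    rw [cw, w_conj' h, hb.s_sc, w_conj h]
  have B6 : b' * f 1 (sr j * c k) * b'⁻¹ = f 1 (c k) := by
    rw [cw, w_conj' h, hb.sc_t, w_conj h]
  -- action of `ρ = a b'`
  have R : ∀ x : G, (a * b') * x * (a * b')⁻¹ = a * (b' * x * b'⁻¹) * a⁻¹ := by intro x; group
  have R1 : (a * b') * f (sr i * c k) (sr j * c k) * (a * b')⁻¹ = f (c k) (c k) := by
    rw [R, f_split h (sr i * c k), cj_mul b', B3, B6, cj_mul, ha.sc_t, A1, ← f_split h]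
  have R2 : (a * b') * f (sr i) (sr j * c k) * (a * b')⁻¹ = f (sr i * c k) (c k) := by
    rw [R, f_split h (sr i), cj_mul b', B2, B6, cj_mul, ha.s_sc, A1, ← f_split h]
  -- `σ = f x₀ 1`
  set s := f (x0 k) 1 with hs
  have hsM : s ∈ M := hS (f_mem h _ _)
  have S1 : s * f (sr i) (sr j * c k) * s⁻¹ = f (sr i * c k) (sr j * c k) := by
    rw [hs, f_conj h, x0_sr, one_mul, inv_one, mul_one]
  have S2 : s * f (sr i * c k) (c k) * s⁻¹ = f (sr i) (c k) := by
    rw [hs, f_conj h]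
    have e : x0 k * (sr i * c k) * (x0 k)⁻¹ = sr i := by
      have e1 : x0 k * (sr i * c k) * (x0 k)⁻¹ = (x0 k * sr i * (x0 k)⁻¹) * (x0 k * c k * (x0 k)⁻¹) := by group
      rw [e1, x0_sr, ← c_comm (x0 k), mul_inv_cancel_right, mul_assoc, c_mul_c, mul_one]
    rw [e, one_mul, inv_one, mul_one]
  -- `m = [σ, ρ]`
  set m := s * (a * b') * s⁻¹ * (a * b')⁻¹ with hm
  have hmM : m ∈ M := mul_mem (mul_mem (mul_mem hsM hM) (inv_mem hsM)) (inv_mem hM)
  have hmz : m * f (c k) (c k) * m⁻¹ = f (sr i) (c k) := by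
    have e1 : m * f (c k) (c k) * m⁻¹ =
        s * ((a * b') * (s⁻¹ * ((a * b')⁻¹ * f (c k) (c k) * (a * b')) * s) * (a * b')⁻¹) * s⁻¹ := by
      rw [hm]; group
    have e2 : (a * b')⁻¹ * f (c k) (c k) * (a * b') = f (sr i * c k) (sr j * c k) := by
      rw [← R1]; group
    have e3 : s⁻¹ * f (sr i * c k) (sr j * c k) * s = f (sr i) (sr j * c k) := by
      rw [← S1]; group
    rw [e1, e2, e3, R2, S2]
  have haz : a * f (c k) (c k) * a⁻¹ = f (sr i) (c k) := by
    rw [f_split h, cj_mul, ha.t_s, A1, ← f_split h]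
  have ham : a⁻¹ * m ∈ M := by
    apply hz
    rw [mem_centralizer_singleton_iff]
    have e : (a⁻¹ * m) * f (c k) (c k) * (a⁻¹ * m)⁻¹ = f (c k) (c k) := by
      have e1 : (a⁻¹ * m) * f (c k) (c k) * (a⁻¹ * m)⁻¹ = a⁻¹ * (m * f (c k) (c k) * m⁻¹) * a := by group
      rw [e1, hmz, ← haz]; group
    calc a⁻¹ * m * f (c k) (c k) = ((a⁻¹ * m) * f (c k) (c k) * (a⁻¹ * m)⁻¹) * (a⁻¹ * m) := by group
      _ = f (c k) (c k) * (a⁻¹ * m) := by rw [e]
  have haM : a ∈ M := by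
    have e : a = m * (a⁻¹ * m)⁻¹ := by group
    rw [e]; exact mul_mem hmM (inv_mem ham)
  refine ⟨haM, ?_⟩
  have hbM : b' ∈ M := by
    have e : b' = a⁻¹ * (a * b') := by group
    rw [e]; exact mul_mem (inv_mem haM) hM
  have hwM : w ∈ M := hS (w_mem h)
  have e : b = w⁻¹ * b' * w := by rw [hb']; group
  rw [e]; exact mul_mem (mul_mem (inv_mem hwM) hbM) hwM

/-- transport of `Rho` by a rotation -/
theorem rho_conj {i i' : ZMod (4 * 2 ^ k)} {a : G} (ha : RhoS f i a) (hii : pa i = pa i') :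
    ∃ g : D k, RhoS f i' (f g 1 * a * (f g 1)⁻¹) := by
  obtain ⟨l, hl⟩ := LFourA.FThree.exists_conj_sr hii
  set g : D k := r l with hg
  refine ⟨g, ?_⟩
  have C1 : ∀ x y : G, (f g 1 * x * (f g 1)⁻¹) * (f g 1 * y * (f g 1)⁻¹) * (f g 1 * x * (f g 1)⁻¹)⁻¹ =
      f g 1 * (x * y * x⁻¹) * (f g 1)⁻¹ := by intro x y; group
  have e0 : ∀ p q : D k, f g 1 * f p q * (f g 1)⁻¹ = f (g * p * g⁻¹) q := by
    intro p q
    rw [f_conj h, one_mul, inv_one, mul_one]
  have ec : g * c k * g⁻¹ = c k := by rw [← c_comm, mul_inv_cancel_right]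
  have es : g * sr i * g⁻¹ = sr i' := hl
  have esc : g * (sr i * c k) * g⁻¹ = sr i' * c k := by
    have : g * (sr i * c k) * g⁻¹ = (g * sr i * g⁻¹) * (g * c k * g⁻¹) := by group
    rw [this, es, ec]
  have E1 : f g 1 * f (c k) 1 * (f g 1)⁻¹ = f (c k) 1 := by rw [e0, ec]
  have E2 : f g 1 * f (sr i) 1 * (f g 1)⁻¹ = f (sr i') 1 := by rw [e0, es]
  have E3 : f g 1 * f (sr i * c k) 1 * (f g 1)⁻¹ = f (sr i' * c k) 1 := by rw [e0, esc]
  have E4 : ∀ p, (p = 1 ∨ p = c k) → ∀ q, f g 1 * f p q * (f g 1)⁻¹ = f p q := by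
    rintro p (rfl | rfl) q
    · rw [e0, mul_one, mul_inv_cancel]
    · rw [e0, ec]
  have comm_of : ∀ x y : G, a * y = y * a → f g 1 * y * (f g 1)⁻¹ = y →
      (f g 1 * a * (f g 1)⁻¹) * y = y * (f g 1 * a * (f g 1)⁻¹) := by
    intro _ y h1 h2
    have h3 : (f g 1)⁻¹ * y * f g 1 = y := by
      conv_lhs => rw [← h2]
      group
    calc (f g 1 * a * (f g 1)⁻¹) * y = f g 1 * (a * ((f g 1)⁻¹ * y * f g 1)) * (f g 1)⁻¹ := by group
      _ = f g 1 * (y * a) * (f g 1)⁻¹ := by rw [h3, h1]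
      _ = (f g 1 * y * (f g 1)⁻¹) * (f g 1 * a * (f g 1)⁻¹) := by group
      _ = _ := by rw [h2]
  refine ⟨?_, ?_, ?_, ?_, ?_, ?_, ?_⟩
  · exact comm_of 1 _ ha.comm (E4 1 (Or.inl rfl) _)
  · have := C1 a (f (c k) 1)
    rw [E1, ha.t_s, E2] at this
    exact this
  · have := C1 a (f (sr i) 1)
    rw [E2, ha.s_sc, E3] at this
    exact this
  · have := C1 a (f (sr i * c k) 1)
    rw [E3, ha.sc_t, E1] at this
    exact this
  · obtain ⟨m, hm⟩ := ha.ord
    exact ⟨m, by rw [conj_pow, hm, mul_one, mul_inv_cancel]⟩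
  · exact chi_cases _ _
  · intro b
    have h1 := ha.fix b
    rw [hii] at h1
    exact comm_of 1 _ h1 (E4 _ (chi_cases _ _ _) _)

/-- `M`-conjugacy -/
def CM (M : Subgroup G) (x y : G) : Prop := ∃ m ∈ M, m * x * m⁻¹ = y

omit h in
theorem CM.refl {M : Subgroup G} (x : G) : CM M x x := ⟨1, one_mem _, by group⟩

omit h in
theorem CM.symm {M : Subgroup G} {x y : G} (hxy : CM M x y) : CM M y x := by
  obtain ⟨m, hm, rfl⟩ := hxy
  exact ⟨m⁻¹, inv_mem hm, by group⟩

omit h in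
theorem CM.trans {M : Subgroup G} {x y z : G} (h1 : CM M x y) (h2 : CM M y z) : CM M x z := by
  obtain ⟨m, hm, rfl⟩ := h1
  obtain ⟨n, hn, rfl⟩ := h2
  exact ⟨n * m, mul_mem hn hm, by group⟩

/-- every involution of `S` is `M`-conjugate to `z` or to `t` -/
theorem fus (hc : CaseI f w) {M : Subgroup G} (hz : centralizer ({f (c k) (c k)} : Set G) ≤ M) (hS : S ≤ M)
    (hρ : ∀ i : ZMod (4 * 2 ^ k), ∃ a ∈ M, RhoS f i a) {v : G} (hv : v ∈ S) (hv2 : v * v = 1) (hv1 : v ≠ 1) :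
    CM M (f (c k) (c k)) v ∨ CM M (f (c k) 1) v := by
  have hwM : w ∈ M := hS (w_mem h)
  have sw : ∀ p q : D k, CM M (f p q) (f q p) := fun p q => ⟨w, hwM, w_conj h p q⟩
  -- basic fusion
  have t1 : ∀ i : ZMod (4 * 2 ^ k), CM M (f (c k) 1) (f (sr i) 1) := by
    intro i
    obtain ⟨a, haM, ha⟩ := hρ i
    exact ⟨a, haM, ha.t_s⟩
  have t2 : ∀ i : ZMod (4 * 2 ^ k), CM M (f (c k) 1) (f 1 (sr i)) := fun i => (t1 i).trans (sw _ _)
  have z1 : ∀ i : ZMod (4 * 2 ^ k), CM M (f (c k) (c k)) (f (sr i) (c k)) := by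
    intro i
    obtain ⟨a, haM, ha⟩ := hρ i
    exact ⟨a, haM, by rw [f_split h, cj_mul, ha.t_s, rho_fix_c ha, ← f_split h]⟩
  have z2 : ∀ i : ZMod (4 * 2 ^ k), CM M (f (c k) (c k)) (f (c k) (sr i)) := fun i => (z1 i).trans (sw _ _)
  have z3 : ∀ i j : ZMod (4 * 2 ^ k), pa i ≠ pa j → CM M (f (c k) (c k)) (f (sr i) (sr j)) := by
    intro i j hij
    obtain ⟨a, haM, ha⟩ := hρ i
    refine (z2 j).trans ⟨a, haM, ?_⟩
    rw [f_split h, cj_mul, ha.t_s, rho_fix_ne ha hij, ← f_split h]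
  have t3 : ∀ i j : ZMod (4 * 2 ^ k), pa i = pa j → CM M (f (c k) 1) (f (sr i) (sr j)) := by
    intro i j hij
    obtain ⟨i', hi', hp⟩ := LFourA.FThree.pa_src i
    obtain ⟨a, haM, ha⟩ := hρ i'
    refine (t2 j).trans ⟨a, haM, ?_⟩
    rw [rho_fix_eq h ha (hp.trans hij), ← hi', mul_assoc, c_mul_c, mul_one]
  rcases mem_cases h hv with ⟨p, q, rfl⟩ | ⟨p, q, rfl⟩
  · obtain ⟨hp, hq⟩ := (f_sq_one_iff h).1 hv2
    rcases eq_of_sq_one hp with rfl | rfl | ⟨i, rfl⟩
    · rcases eq_of_sq_one hq with rfl | rfl | ⟨j, rfl⟩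
      · exact absurd (f_one h) hv1
      · exact Or.inr (sw _ _)
      · exact Or.inr (t2 j)
    · rcases eq_of_sq_one hq with rfl | rfl | ⟨j, rfl⟩
      · exact Or.inr (CM.refl _)
      · exact Or.inl (CM.refl _)
      · exact Or.inl (z2 j)
    · rcases eq_of_sq_one hq with rfl | rfl | ⟨j, rfl⟩
      · exact Or.inr (t1 i)
      · exact Or.inl (z1 i)
      · by_cases hij : pa i = pa j
        · exact Or.inr (t3 i j hij)
        · exact Or.inl (z3 i j hij)
  · have hq := (fw_sq_one_iff h).1 hv2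
    subst hq
    right
    obtain ⟨g, hg1, hg2⟩ := hc.w_t
    have hgM : g ∈ M := by
      apply hz
      rw [mem_centralizer_singleton_iff]
      calc g * f (c k) (c k) = (g * f (c k) (c k) * g⁻¹) * g := by group
        _ = f (c k) (c k) * g := by rw [hg2]
    have h1 : CM M (f (c k) 1) w := ⟨g⁻¹, inv_mem hgM, by rw [← hg1]; group⟩
    refine h1.trans ⟨f p 1, hS (f_mem h _ _), ?_⟩
    exact (fw_eq_conj_w h p).symm

theorem exists_rho {i j : ZMod (4 * 2 ^ k)} {a b : G} (ha : RhoS f i a) (hb : RhoS f j b) (hij : pa i ≠ pa j)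
    {M : Subgroup G} (hS : S ≤ M) (haM : a ∈ M) (hbM : b ∈ M) (i' : ZMod (4 * 2 ^ k)) :
    ∃ a ∈ M, RhoS f i' a := by
  have h2 : ∀ x y z : ZMod 2, x ≠ y → z = x ∨ z = y := by decide
  rcases h2 _ _ (pa i') hij with e | e
  · obtain ⟨g, hg⟩ := rho_conj h ha e.symm
    exact ⟨_, mul_mem (mul_mem (hS (f_mem h _ _)) haM) (inv_mem (hS (f_mem h _ _))), hg⟩
  · obtain ⟨g, hg⟩ := rho_conj h hb e.symm
    exact ⟨_, mul_mem (mul_mem (hS (f_mem h _ _)) hbM) (inv_mem (hS (f_mem h _ _))), hg⟩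

end fusion

section gen

theorem uv_sq {u v : G} (hu : u * u = 1) (hv : v * v = 1) (huv : u * v = v * u) : u * v * (u * v) = 1 := by
  calc u * v * (u * v) = u * (v * u) * v := by simp only [mul_assoc]
    _ = (u * u) * (v * v) := by rw [← huv]; simp only [mul_assoc]
    _ = 1 := by rw [hu, hv, one_mul]

/-- the four-group `{1, u, v, uv}` -/
def four {u v : G} (hu : u * u = 1) (hv : v * v = 1) (huv : u * v = v * u) : Subgroup G where
  carrier := {g | g = 1 ∨ g = u ∨ g = v ∨ g = u * v}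
  one_mem' := Or.inl rfl
  mul_mem' := by
    rintro _ _ (rfl | rfl | rfl | rfl) (rfl | rfl | rfl | rfl)
    · exact Or.inl (one_mul _)
    · exact Or.inr (Or.inl (one_mul _))
    · exact Or.inr (Or.inr (Or.inl (one_mul _)))
    · exact Or.inr (Or.inr (Or.inr (one_mul _)))
    · exact Or.inr (Or.inl (mul_one _))
    · exact Or.inl hu
    · exact Or.inr (Or.inr (Or.inr rfl))
    · exact Or.inr (Or.inr (Or.inl (by rw [← mul_assoc, hu, one_mul])))
    · exact Or.inr (Or.inr (Or.inl (mul_one _)))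
    · exact Or.inr (Or.inr (Or.inr huv.symm))
    · exact Or.inl hv
    · exact Or.inr (Or.inl (by rw [huv, ← mul_assoc, hv, one_mul]))
    · exact Or.inr (Or.inr (Or.inr (mul_one _)))
    · exact Or.inr (Or.inr (Or.inl (by rw [huv, mul_assoc, hu, mul_one])))
    · exact Or.inr (Or.inl (by rw [mul_assoc, hv, mul_one]))
    · exact Or.inl (uv_sq hu hv huv)
  inv_mem' := by
    rintro _ (rfl | rfl | rfl | rfl)
    · exact Or.inl inv_one
    · exact Or.inr (Or.inl (inv_eq_of_mul_eq_one_left hu))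
    · exact Or.inr (Or.inr (Or.inl (inv_eq_of_mul_eq_one_left hv)))
    · refine Or.inr (Or.inr (Or.inr ?_))
      rw [mul_inv_rev, inv_eq_of_mul_eq_one_left hu, inv_eq_of_mul_eq_one_left hv, huv]

theorem le_of_pair [Finite G] {u v : G} (hu : u * u = 1) (hv : v * v = 1) (huv : u * v = v * u) (hu1 : u ≠ 1)
    (hv1 : v ≠ 1) (hne : u ≠ v) {Z M : Subgroup G} (hZ : ¬ 2 ∣ Nat.card Z) (hZu : u ∈ normalizer (Z : Set G))
    (hZv : v ∈ normalizer (Z : Set G)) (h1 : centralizer ({u} : Set G) ≤ M) (h2 : centralizer ({v} : Set G) ≤ M)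
    (h3 : centralizer ({u * v} : Set G) ≤ M) : Z ≤ M := by
  have : Fact (Nat.Prime 2) := ⟨Nat.prime_two⟩
  have hA : IsElementaryAbelian 2 (four hu hv huv) := by
    have hsq : ∀ a ∈ four hu hv huv, a * a = 1 := by
      rintro _ (rfl | rfl | rfl | rfl)
      · exact one_mul _
      · exact hu
      · exact hv
      · exact uv_sq hu hv huv
    have hsq' : ∀ a : four hu hv huv, a * a = 1 := fun a => Subtype.ext (hsq a a.2)
    refine ⟨⟨⟨fun a b => ?_⟩⟩, fun a ha => ?_⟩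
    · have e1 := hsq' (a * b)
      have ea : a⁻¹ = a := inv_eq_of_mul_eq_one_left (hsq' a)
      have eb : b⁻¹ = b := inv_eq_of_mul_eq_one_left (hsq' b)
      have e2 : (a * b)⁻¹ = a * b := inv_eq_of_mul_eq_one_left e1
      rw [mul_inv_rev, ea, eb] at e2
      exact e2.symm
    · rw [pow_two]; exact hsq a ha
  have hcard : 2 ^ 2 ≤ Nat.card (four hu hv huv) := by
    have huv1 : u * v ≠ 1 := fun e => hne (by
      have := mul_eq_one_iff_eq_inv.1 e
      rwa [inv_eq_of_mul_eq_one_left hv] at this)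
    let g : Fin 4 → four hu hv huv := ![⟨1, Or.inl rfl⟩, ⟨u, Or.inr (Or.inl rfl)⟩, ⟨v, Or.inr (Or.inr (Or.inl rfl))⟩,
      ⟨u * v, Or.inr (Or.inr (Or.inr rfl))⟩]
    have hg : Function.Injective g := by
      have e1 : u ≠ u * v := fun e => hv1 (left_eq_mul.1 e)
      have e2 : v ≠ u * v := fun e => hu1 (right_eq_mul.1 e)
      intro a b hab
      have hab' := congrArg Subtype.val hab
      fin_cases a <;> fin_cases b <;> first | rfl | (exfalso; revert hab'; simp only [g, hu1, hv1, hne, huv1, e1, e2,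
        hu1.symm, hv1.symm, hne.symm, huv1.symm, e1.symm, e2.symm, _root_.Fin.zero_eta, _root_.Fin.isValue, _root_.Matrix.cons_val_zero, _root_.Fin.mk_one, _root_.Matrix.cons_val_one, _root_.imp_self, _root_.Fin.reduceFinMk, _root_.Matrix.cons_val])
    have := Nat.card_le_card_of_injective g hg
    simpa only [_root_.Nat.reducePow, _root_.ge_iff_le, _root_.Nat.card_eq_fintype_card, _root_.Fintype.card_fin] using this
  refine (SignalizersComponents.CoprimeGen.le_iSup_centralizer_ne_one hA hcard hZ ?_).trans (iSup_le ?_)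
  · rintro _ (rfl | rfl | rfl | rfl)
    · exact one_mem _
    · exact hZu
    · exact hZv
    · exact mul_mem hZu hZv
  · rintro ⟨a, ha, ha1⟩
    refine inf_le_right.trans ?_
    rcases ha with rfl | rfl | rfl | rfl
    · exact absurd rfl ha1
    · exact h1
    · exact h2
    · exact h3

end gen


/-- **Closing in case I.** -/
theorem eq_top [Finite G] {P : Sylow 2 G} (h : DWr (P : Subgroup G) k f w) (hc : CaseI f w)
    {X : Type*} [Group X] {F : Type*} [Field F] [Fintype F] (hodd : Odd (Fintype.card F)) (h9 : 9 < Fintype.card F)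
    {q : ↥(centralizer ({f (c k) 1} : Set G)) →* X} {K : Subgroup X} (hT : CTL (f (c k) 1) F q K) (hP : TPos f q K)
    {i j : ZMod (4 * 2 ^ k)} {a b : G} (ha : RhoS f i a) (hb : RhoS f j b) (hij : pa i ≠ pa j)
    {M : Subgroup G} (hz : centralizer ({f (c k) (c k)} : Set G) ≤ M) (hM : a * (w * b * w⁻¹) ∈ M) : M = ⊤ := by
  have hS : (P : Subgroup G) ≤ M := by
    intro g hg
    apply hz
    rw [mem_centralizer_singleton_iff]
    exact (z_comm h hg).symm
  obtain ⟨haM, hbM⟩ := rho_mem h ha hb hij hz hS hM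
  have hρ := exists_rho h ha hb hij hS haM hbM
  have hwM : w ∈ M := hS (w_mem h)
  have cent_le : ∀ x y : G, CM M x y → centralizer ({x} : Set G) ≤ M → centralizer ({y} : Set G) ≤ M := by
    rintro x _ ⟨m, hm, rfl⟩ hx
    exact Lib.TwoClassEnd.centralizer_conj_le hm hx
  -- `e = f (sr i) (sr j)`
  have he : ∀ i j : ZMod (4 * 2 ^ k), pa i ≠ pa j → CM M (f (c k) (c k)) (f (sr i) (sr j)) := by
    intro i j hij
    obtain ⟨a, haM, ha⟩ := hρ i
    obtain ⟨b, hbM, hb⟩ := hρ j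
    refine ⟨a * (w * b * w⁻¹), mul_mem haM (mul_mem (mul_mem hwM hbM) (inv_mem hwM)), ?_⟩
    have e1 : a * (w * b * w⁻¹) * f (c k) (c k) * (a * (w * b * w⁻¹))⁻¹ =
        a * (w * (b * (w⁻¹ * f (c k) (c k) * w) * b⁻¹) * w⁻¹) * a⁻¹ := by group
    rw [e1, w_conj' h, f_split h, cj_mul b, hb.t_s, rho_fix_c hb, ← f_split h, w_conj h, f_split h (c k), cj_mul,
      ha.t_s, rho_fix_ne ha hij, ← f_split h]
  -- the core of `C(t)`
  have hO : centralizerPPrimeCore 2 (f (c k) 1) ≤ M := by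
    obtain ⟨i', hi', hpi⟩ := LFourA.FThree.pa_src i
    obtain ⟨j', hj', hpj⟩ := LFourA.FThree.pa_src j
    have hnorm : ∀ x, x * f (c k) 1 = f (c k) 1 * x →
        x ∈ normalizer (centralizerPPrimeCore 2 (f (c k) 1) : Set G) := by
      intro x hx
      have hx' : x⁻¹ * f (c k) 1 = f (c k) 1 * x⁻¹ := by
        rw [inv_mul_eq_iff_eq_mul, ← mul_assoc, hx, mul_inv_cancel_right]
      rw [mem_normalizer_iff]
      intro y
      refine ⟨fun hy => StandardComponent.CentCore.core_conj_mem hx hy, fun hy => ?_⟩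
      have h1 := StandardComponent.CentCore.core_conj_mem hx' hy
      have h2 : x⁻¹ * (x * y * x⁻¹) * x⁻¹⁻¹ = y := by group
      rwa [h2] at h1
    have hcard : ¬ 2 ∣ Nat.card (centralizerPPrimeCore 2 (f (c k) 1)) :=
      (StandardComponent.CentCore.core_odd (f (c k) 1)).not_two_dvd_nat
    refine le_of_pair (u := f (c k) (c k)) (v := f (sr i) (sr j)) ?_ ?_ ?_ ?_ ?_ ?_ hcard ?_ ?_ hz
      (cent_le _ _ (he i j hij) hz) ?_
    · rw [f_sq_one_iff h]; exact ⟨c_mul_c, c_mul_c⟩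
    · rw [f_sq_one_iff h]; exact ⟨sr_mul_self i, sr_mul_self j⟩
    · rw [f_comm_iff h]; exact ⟨c_comm _, c_comm _⟩
    · exact z_ne_one h
    · intro e
      exact sr_ne_one i ((f_eq_one_iff h).1 e).1
    · intro e
      exact sr_ne_c i ((f_eq_iff h).1 e).1.symm
    · apply hnorm
      rw [f_comm_iff h]
      exact ⟨rfl, by rw [mul_one, one_mul]⟩
    · apply hnorm
      rw [f_comm_iff h]
      exact ⟨(c_comm _).symm, by rw [mul_one, one_mul]⟩
    · rw [h.f_mul, c_comm, c_comm, hi', hj']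
      exact cent_le _ _ (he i' j' (by rw [hpi, hpj]; exact hij)) hz
  -- the centralizer of `t`
  have ht : centralizer ({f (c k) 1} : Set G) ≤ M := by
    refine LFourA.KlT.centralizer_le hodd (by omega) (by omega) (by omega) hT (t' := f 1 (c k)) (v := f 1 (sr j))
      (hP.d₂ _) ?_ (t'_ne_one h) hO ?_ ?_ ?_ ?_ (fun h9' => absurd h9' (by omega))
    · rw [f_sq_one_iff h]; exact ⟨one_mul _, c_mul_c⟩
    · intro x hx1 hx2
      apply hz
      rw [mem_centralizer_singleton_iff, f_split h, ← mul_assoc, hx1, mul_assoc, hx2, mul_assoc]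
    · refine ⟨w * b * w⁻¹, mul_mem (mul_mem hwM hbM) (inv_mem hwM), ?_, ?_⟩
      · have e1 : (w * b * w⁻¹) * f (c k) 1 = w * (b * (w⁻¹ * f (c k) 1 * w)) * w⁻¹ := by group
        rw [e1, w_conj' h, hb.comm]
        have e2 : w * (f 1 (c k) * b) * w⁻¹ = (w * f 1 (c k) * w⁻¹) * (w * b * w⁻¹) := by group
        rw [e2, w_conj h]
      · have e1 : (w * b * w⁻¹) * f 1 (c k) * (w * b * w⁻¹)⁻¹ = w * (b * (w⁻¹ * f 1 (c k) * w) * b⁻¹) * w⁻¹ := by group
        rw [e1, w_conj' h, hb.t_s, w_conj h]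
    · rw [f_comm_iff h]; exact ⟨rfl, (c_comm _).symm⟩
    · intro e
      exact sr_ne_c j ((f_eq_iff h).1 e).2
  -- the end
  have hzo : orderOf (f (c k) (c k)) = 2 := by
    apply orderOf_eq_prime _ (z_ne_one h)
    rw [pow_two, f_sq_one_iff h]; exact ⟨c_mul_c, c_mul_c⟩
  have hto : orderOf (f (c k) 1) = 2 := by
    apply orderOf_eq_prime _ (t_ne_one h)
    rw [pow_two, f_sq_one_iff h]; exact ⟨c_mul_c, one_mul _⟩
  refine Lib.TwoClassEnd.eq_top P ?_ {f (c k) (c k), f (c k) 1} ?_ ?_ hto hzo hc.tz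
  · -- `N(S) ≤ C(z)`
    intro g hg
    apply hz
    rw [mem_centralizer_singleton_iff]
    have hzS : f (c k) (c k) ∈ (P : Subgroup G) := f_mem h _ _
    have h1 : g * f (c k) (c k) * g⁻¹ ∈ (P : Subgroup G) := (mem_normalizer_iff.1 hg _).1 hzS
    have h2 : g * f (c k) (c k) * g⁻¹ = f (c k) (c k) := by
      rcases eq_of_central_S h h1 (by
        intro x hx
        have hx' : g⁻¹ * x * g ∈ (P : Subgroup G) := by
          have := (mem_normalizer_iff.1 (inv_mem hg) x).1 hx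
          simpa using this
        have h3 := z_comm h hx'
        calc g * f (c k) (c k) * g⁻¹ * x = g * (f (c k) (c k) * (g⁻¹ * x * g)) * g⁻¹ := by group
          _ = g * ((g⁻¹ * x * g) * f (c k) (c k)) * g⁻¹ := by rw [h3]
          _ = x * (g * f (c k) (c k) * g⁻¹) := by group) with h4 | h4
      · exfalso
        apply z_ne_one h
        have h5 : f (c k) (c k) = g⁻¹ * (g * f (c k) (c k) * g⁻¹) * g := by group
        rw [h5, h4]; group
      · exact h4
    calc g * f (c k) (c k) = (g * f (c k) (c k) * g⁻¹) * g := by group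
      _ = _ := by rw [h2]
  · rintro x (rfl | rfl)
    · exact hz
    · exact ht
  · intro v hv hv2
    have hv1 : v ≠ 1 := by
      rintro rfl
      rw [orderOf_one] at hv2; omega
    have hvv : v * v = 1 := by
      rw [← pow_two, ← hv2]; exact pow_orderOf_eq_one v
    rcases fus h hc hz hS hρ hv hvv hv1 with ⟨m, hm, e⟩ | ⟨m, hm, e⟩
    · exact ⟨_, Or.inl rfl, m, hm, e⟩
    · exact ⟨_, Or.inr rfl, m, hm, e⟩

end Cfsg.Agent.LFourR.CloseA
end

-- part: LFourR/InpA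
section
/-!
# The input of the recognition of `L_4(q)`, `U_4(q)` in case I

From `DWr`, `CaseI` and `LCent` (the components of `C(z)`) we construct `Pre`, `z = f c c`, `e = f (sr 0) (sr 1)`,
`n1 = f x0 x0⁻¹`, `n2 = f x0 x0`, `ρ = a * (w * b * w⁻¹)`, `U = ⊥`.
-/

set_option autoImplicit false

namespace Cfsg.Agent.LFourR.InpA

open Subgroup Cfsg DihedralGroup Cfsg.Agent.LFourA.Model Cfsg.Agent.LFourA.Base Cfsg.Agent.LFourA.Defs
open Cfsg.Agent.LFourA.Facts Cfsg.Agent.LFourR.CloseA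
open Cfsg.Agent.LFourA.LCent (LCent)

section dih

variable {k : ℕ}

theorem two_ne_zero' : (1 : ZMod (4 * 2 ^ k)) + 1 ≠ 0 := by
  intro h
  have hpos : 0 < 2 ^ k := by positivity
  have h1 : ((2 : ℕ) : ZMod (4 * 2 ^ k)) = 0 := by
    rw [← h]; norm_num
  rw [ZMod.natCast_eq_zero_iff] at h1
  have := Nat.le_of_dvd (by norm_num) h1
  omega

/-- an element commuting with `r 1` is a rotation -/
theorem exists_r {a : D k} (ha : a * r 1 = r 1 * a) : ∃ m, a = r m := by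
  rcases a with m | m
  · exact ⟨m, rfl⟩
  · exfalso
    rw [sr_mul_r, r_mul_sr] at ha
    have h1 := DihedralGroup.sr.inj ha
    apply two_ne_zero' (k := k)
    linear_combination h1

/-- an element inverting `r 1` is a reflection -/
theorem exists_sr {a : D k} (ha : a * r (-1) = r 1 * a) : ∃ m, a = sr m := by
  rcases a with m | m
  · exfalso
    rw [r_mul_r, r_mul_r] at ha
    have h1 := DihedralGroup.r.inj ha
    apply two_ne_zero' (k := k)
    linear_combination -h1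
  · exact ⟨m, rfl⟩

end dih

section gen

variable {G : Type*} [Group G]

theorem cg_eq_of_card [Finite G] {g : G} {L M : Subgroup G} (h1 : ∀ x ∈ L, g * x * g⁻¹ ∈ M)
    (h2 : Nat.card M = Nat.card L) : cg g L = M := by
  apply Subgroup.eq_of_le_of_card_ge
  · intro y hy
    rw [mem_cg] at hy
    have := h1 _ hy
    have e : g * (g⁻¹ * y * g) * g⁻¹ = y := by group
    rwa [e] at this
  · rw [h2]
    exact (Nat.card_congr (cgEquiv g L).toEquiv).le

theorem isPGroup_zpowers {x : G} {m : ℕ} (hx : x ^ 2 ^ m = 1) : IsPGroup 2 (zpowers x) := by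
  rintro ⟨y, j, rfl⟩
  refine ⟨m, Subtype.ext ?_⟩
  change (x ^ j) ^ 2 ^ m = 1
  rw [← zpow_natCast, zpow_comm, zpow_natCast, hx, one_zpow]

end gen

section main

variable {G : Type*} [Group G] {P : Sylow 2 G} {k : ℕ} {f : D k → D k → G} {w : G}
  {F : Type*} [Field F] {L₁ L₂ : Subgroup G}

section pp

variable (h : DWr (P : Subgroup G) k f w) (hL : LCent f w F L₁ L₂)

include h hL

/-- elements of `P` commuting with `L₂` -/
theorem form1 {x : G} (hx : x ∈ (P : Subgroup G)) (hc : ∀ y ∈ L₂, x * y = y * x) :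
    (∃ m, x = f (r m) (r (-m))) ∨ ∃ m, x = f (r m) (r (-m) * c k) * w := by
  have h1 := hc _ (hL.q₂x 1)
  have h2 := hc _ hL.q₂w
  rcases mem_cases h hx with ⟨a, b, rfl⟩ | ⟨a, b, rfl⟩
  · left
    obtain ⟨ha, hb⟩ := (f_comm_iff h).1 h1
    obtain ⟨m, rfl⟩ := exists_r ha
    obtain ⟨n, rfl⟩ := exists_r hb
    obtain ⟨h3, -⟩ := (fw_comm_f_iff h).1 h2.symm
    rw [sr_mul_r, r_mul_sr] at h3
    have h4 := DihedralGroup.sr.inj h3
    have hn : n = -m := by linear_combination h4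
    exact ⟨m, by rw [hn]⟩
  · right
    obtain ⟨ha, hb⟩ := (fw_comm_f_iff h).1 h1
    obtain ⟨m, rfl⟩ := exists_r ha
    obtain ⟨n, rfl⟩ := exists_r hb
    rw [fw_mul_fw h, fw_mul_fw h, f_eq_iff h] at h2
    obtain ⟨h3, -⟩ := h2
    rw [sr_c, r_mul_sr, sr_mul_r] at h3
    have h4 := DihedralGroup.sr.inj h3
    refine ⟨m, ?_⟩
    have hn : (r n : D k) = r (-m) * c k := by
      rw [c, r_mul_r]
      congr 1
      linear_combination -h4
    rw [hn]

/-- elements of `P` commuting with `L₁` -/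
theorem mem2 {x : G} (hx : x ∈ (P : Subgroup G)) (hc : ∀ y ∈ L₁, x * y = y * x) : x ∈ L₂ := by
  have h1 := hc _ (hL.q₁x 1)
  have h2 := hc _ hL.q₁w
  rcases mem_cases h hx with ⟨a, b, rfl⟩ | ⟨a, b, rfl⟩
  · obtain ⟨ha, hb⟩ := (f_comm_iff h).1 h1
    obtain ⟨m, rfl⟩ := exists_r ha
    obtain ⟨h3, -⟩ := (fw_comm_f_iff h).1 h2.symm
    rw [one_mul, mul_one] at h3
    rw [h3]
    exact hL.q₂x m
  · obtain ⟨ha, -⟩ := (fw_comm_f_iff h).1 h1
    obtain ⟨m, rfl⟩ := exists_sr ha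
    rw [fw_mul_fw h, fw_mul_fw h, f_eq_iff h] at h2
    obtain ⟨h3, -⟩ := h2
    rw [one_mul] at h3
    have h4 := mul_mem (hL.q₂x (-m)) hL.q₂w
    rw [f_mul_fw h, ← mul_assoc, r_mul_sr] at h4
    have e : (0 : ZMod (4 * 2 ^ k)) - -m = m := by ring
    rw [e] at h4
    rw [← h3]
    exact h4

theorem z_mem1 : f (c k) (c k) ∈ L₁ := by
  have h1 := mul_mem (hL.q₁x ((2 ^ k : ℕ) : ZMod (4 * 2 ^ k))) (hL.q₁x ((2 ^ k : ℕ) : ZMod (4 * 2 ^ k)))
  rw [h.f_mul, r_mul_r, r_mul_r, quarter_add_quarter, ← neg_add, quarter_add_quarter, neg_half] at h1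
  exact h1

theorem z_mem2 : f (c k) (c k) ∈ L₂ := by
  have h1 := mul_mem (hL.q₂x ((2 ^ k : ℕ) : ZMod (4 * 2 ^ k))) (hL.q₂x ((2 ^ k : ℕ) : ZMod (4 * 2 ^ k)))
  rw [h.f_mul, r_mul_r, quarter_add_quarter] at h1
  exact h1

variable [Finite G]

omit h [Finite G] in
theorem card_eq : Nat.card L₁ = Nat.card L₂ := by
  obtain ⟨e1⟩ := hL.iso₁
  obtain ⟨e2⟩ := hL.iso₂
  exact Nat.card_congr (e1.trans e2.symm).toEquiv

omit h in
theorem perm (g : G) (hg : g * f (c k) (c k) = f (c k) (c k) * g) :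
    (cg g L₁ = L₁ ∧ cg g L₂ = L₂) ∨ (cg g L₁ = L₂ ∧ cg g L₂ = L₁) := by
  rcases hL.norm g hg with ⟨h1, h2⟩ | ⟨h1, h2⟩
  · exact Or.inl ⟨cg_eq_of_card h1 rfl, cg_eq_of_card h2 rfl⟩
  · exact Or.inr ⟨cg_eq_of_card h1 (card_eq hL).symm, cg_eq_of_card h2 (card_eq hL)⟩

omit h in
theorem swap1 (i : ZMod (4 * 2 ^ k)) (e : D k) (he : e = 1 ∨ e = c k) :
    cg (f (sr i) e) L₁ = L₂ ∧ cg (f (sr i) e) L₂ = L₁ :=
  ⟨cg_eq_of_card (hL.swap₁ i e he).1 (card_eq hL).symm, cg_eq_of_card (hL.swap₁ i e he).2 (card_eq hL)⟩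

omit h in
theorem swap2 (i : ZMod (4 * 2 ^ k)) (e : D k) (he : e = 1 ∨ e = c k) :
    cg (f e (sr i)) L₁ = L₂ ∧ cg (f e (sr i)) L₂ = L₁ :=
  ⟨cg_eq_of_card (hL.swap₂ i e he).1 (card_eq hL).symm, cg_eq_of_card (hL.swap₂ i e he).2 (card_eq hL)⟩

theorem e_norm (i j : ZMod (4 * 2 ^ k)) : cg (f (sr i) (sr j)) L₁ = L₁ ∧ cg (f (sr i) (sr j)) L₂ = L₂ := by
  rw [f_split h, cg_mul, cg_mul, (swap2 hL j 1 (Or.inl rfl)).1, (swap2 hL j 1 (Or.inl rfl)).2,
    (swap1 hL i 1 (Or.inl rfl)).1, (swap1 hL i 1 (Or.inl rfl)).2]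
  exact ⟨rfl, rfl⟩

/-- 2-subgroups of `C(z)` are conjugate into `P` by elements normalising `L₁` and `L₂`. -/
theorem conj_in {H : Subgroup G} (hH : IsPGroup 2 H) (hz : ∀ x ∈ H, x * f (c k) (c k) = f (c k) (c k) * x) :
    ∃ g : G, g * f (c k) (c k) = f (c k) (c k) * g ∧ (∀ x ∈ H, g * x * g⁻¹ ∈ (P : Subgroup G)) ∧ cg g L₁ = L₁ ∧
      cg g L₂ = L₂ := by
  have hPN := Cfsg.Agent.LFourA.CzData.sylow_le h
  have hrel : ¬ 2 ∣ (P : Subgroup G).relIndex (centralizer ({f (c k) (c k)} : Set G)) := fun hd =>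
    P.not_dvd_index (hd.trans (relIndex_dvd_index_of_le hPN))
  obtain ⟨g, hg, hgH⟩ := Cfsg.Agent.Lib.GoldschmidtFusion.exists_conj_le_in P.isPGroup' hrel (D := H) (fun x hx =>
    mem_centralizer_singleton_iff.2 (hz x hx)) hH
  have hgz : g * f (c k) (c k) = f (c k) (c k) * g := mem_centralizer_singleton_iff.1 hg
  have hgx : ∀ x ∈ H, g * x * g⁻¹ ∈ (P : Subgroup G) := fun x hx => hgH ⟨x, hx, rfl⟩
  rcases perm hL g hgz with ⟨h1, h2⟩ | ⟨h1, h2⟩
  · exact ⟨g, hgz, hgx, h1, h2⟩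
  · have hs : f (sr 0) 1 ∈ (P : Subgroup G) := f_mem h _ _
    have hsz : f (sr 0) 1 * f (c k) (c k) = f (c k) (c k) * f (sr 0) 1 := (z_comm h hs).symm
    obtain ⟨h3, h4⟩ := swap1 hL 0 1 (Or.inl rfl)
    refine ⟨f (sr 0) 1 * g, ?_, ?_, by rw [cg_mul, h1, h4], by rw [cg_mul, h2, h3]⟩
    · rw [mul_assoc, hgz, ← mul_assoc, hsz, mul_assoc]
    · intro x hx
      have e : f (sr 0) 1 * g * x * (f (sr 0) 1 * g)⁻¹ = f (sr 0) 1 * (g * x * g⁻¹) * (f (sr 0) 1)⁻¹ := by group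
      rw [e]
      exact mul_mem (mul_mem hs (hgx x hx)) (inv_mem hs)

theorem two (x : G) (hx : ∀ l ∈ L₁, x * l = l * x) (hm : ∃ m : ℕ, x ^ 2 ^ m = 1) : x ∈ L₂ := by
  obtain ⟨m, hm⟩ := hm
  obtain ⟨g, -, hgP, hg1, hg2⟩ := conj_in h hL (isPGroup_zpowers hm) (by
    rintro _ ⟨j, rfl⟩
    exact (Commute.zpow_left (show Commute x _ from hx _ (z_mem1 h hL)) j).eq)
  have h1 : g * x * g⁻¹ ∈ L₂ := by
    refine mem2 h hL (hgP x (mem_zpowers x)) ?_
    intro y hy
    rw [← hg1, mem_cg] at hy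
    have := hx _ hy
    calc g * x * g⁻¹ * y = g * (x * (g⁻¹ * y * g)) * g⁻¹ := by group
      _ = g * ((g⁻¹ * y * g) * x) * g⁻¹ := by rw [this]
      _ = y * (g * x * g⁻¹) := by group
  rw [← hg2, mem_cg] at h1
  have e : g⁻¹ * (g * x * g⁻¹) * g = x := by group
  rwa [e] at h1

end pp

/-- no element of order four of `L₁` commutes with `e` -/
theorem noFour [Finite G] (h : DWr (P : Subgroup G) k f w) (hI : CaseI f w) (hL : LCent f w F L₁ L₂)
    {i j : ZMod (4 * 2 ^ k)} (hij : pa i ≠ pa j) {x : G} (hx : x ∈ L₁) (hxx : x * x = f (c k) (c k)) :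
    x * f (sr i) (sr j) ≠ f (sr i) (sr j) * x := by
  intro hxe
  set z := f (c k) (c k) with hz
  set e := f (sr i) (sr j) with he
  have hee : e * e = 1 := by
    rw [he, h.f_mul, sr_mul_self, sr_mul_self, f_one h]
  have hzz : z * z = 1 := by rw [hz, h.f_mul, c_mul_c, f_one h]
  have hz1 : z ≠ 1 := z_ne_one h
  have hez : e * z = z * e := (z_comm h (f_mem h _ _)).symm
  have hxz : x * z = z * x := by rw [← hxx, mul_assoc]
  have hH : IsPGroup 2 (zpowers x ⊔ zpowers e : Subgroup G) := by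
    refine IsPGroup.to_sup_of_normal_right' (isPGroup_zpowers (m := 2) ?_) (isPGroup_zpowers (m := 1) ?_) ?_
    · have : x ^ 2 ^ 2 = (x * x) * (x * x) := by
        rw [← pow_two, ← pow_two, ← pow_mul]; norm_num
      rw [this, hxx, hzz]
    · rw [pow_one, pow_two, hee]
    · rw [zpowers_le, mem_normalizer_iff_cg]
      apply le_antisymm
      · intro y hy
        rw [mem_cg] at hy
        obtain ⟨n, hn⟩ := mem_zpowers_iff.1 hy
        refine mem_zpowers_iff.2 ⟨n, ?_⟩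
        have h1 : Commute x (e ^ n) := Commute.zpow_right (show Commute x e from hxe) n
        have h2 : y = x * (e ^ n) * x⁻¹ := by rw [hn]; group
        rw [h2, h1.eq, mul_inv_cancel_right]
      · intro y hy
        rw [mem_cg]
        obtain ⟨n, rfl⟩ := mem_zpowers_iff.1 hy
        have h1 : Commute x (e ^ n) := Commute.zpow_right (show Commute x e from hxe) n
        rw [mul_assoc, ← h1.eq, inv_mul_cancel_left]
        exact ⟨n, rfl⟩
  have hHz : ∀ y ∈ (zpowers x ⊔ zpowers e : Subgroup G), y * z = z * y := by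
    intro y hy
    have : (zpowers x ⊔ zpowers e : Subgroup G) ≤ centralizer ({z} : Set G) := by
      rw [sup_le_iff, zpowers_le, zpowers_le, mem_centralizer_singleton_iff, mem_centralizer_singleton_iff]
      exact ⟨hxz, hez⟩
    exact mem_centralizer_singleton_iff.1 (this hy)
  obtain ⟨g, hgz, hgP, hg1, hg2⟩ := conj_in h hL hH hHz
  set x' := g * x * g⁻¹ with hx'
  set e' := g * e * g⁻¹ with he'
  have hx'P : x' ∈ (P : Subgroup G) := hgP x (mem_sup_left (mem_zpowers x))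
  have he'P : e' ∈ (P : Subgroup G) := hgP e (mem_sup_right (mem_zpowers e))
  have hx'L : x' ∈ L₁ := by rw [← hg1]; exact conj_mem_cg hx
  have hzg : g * z * g⁻¹ = z := by rw [hgz, mul_inv_cancel_right]
  have hx'x : x' * x' = z := by
    have : x' * x' = g * (x * x) * g⁻¹ := by rw [hx']; group
    rw [this, hxx, hzg]
  have hcomm : x' * e' = e' * x' := by
    have e1 : x' * e' = g * (x * e) * g⁻¹ := by rw [hx', he']; group
    have e2 : e' * x' = g * (e * x) * g⁻¹ := by rw [hx', he']; group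
    rw [e1, e2, hxe]
  have he'e : e' * e' = 1 := by
    have : e' * e' = g * (e * e) * g⁻¹ := by rw [he']; group
    rw [this, hee, mul_one, mul_inv_cancel]
  have he'z : IsConj e' z := by
    refine IsConj.trans ?_ (hI.diff i j hij)
    exact (isConj_iff.2 ⟨g, rfl⟩ : IsConj e e').symm
  have he'n : e' ≠ z := by
    intro h1
    have h2 : e = z := by
      have : g * e * g⁻¹ = g * z * g⁻¹ := by rw [hzg]; exact h1
      exact mul_left_cancel (mul_right_cancel this)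
    have := ((f_eq_iff h).1 h2).1
    exact sr_ne_c i this
  have hnt : ¬ IsConj (f (c k) 1) e' := fun h1 => hI.tz (h1.trans he'z)
  have he'1 : e' ≠ 1 := by
    intro h1
    rw [h1, isConj_one_right] at he'z
    exact hz1 he'z
  have he'L : e' * x' * e'⁻¹ ∈ L₁ := by rw [← hcomm, mul_inv_cancel_right]; exact hx'L
  -- `e'` does not swap
  have hnsw : cg e' L₁ ≠ L₂ := by
    intro h1
    have h2 : e' * x' * e'⁻¹ ∈ L₂ := by rw [← h1]; exact conj_mem_cg hx'L
    rw [← hcomm, mul_inv_cancel_right] at h2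
    rcases hL.inf _ hx'L h2 with h3 | h3
    · rw [h3, mul_one] at hx'x; exact hz1 hx'x.symm
    · rw [h3, ← hz, hzz] at hx'x; exact hz1 hx'x.symm
  rcases mem_cases h he'P with ⟨p, q, hpq⟩ | ⟨p, q, hpq⟩
  · rw [hpq] at he'e
    obtain ⟨hp, hq⟩ := (f_sq_one_iff h).1 he'e
    have sw : ∀ p q : D k, IsConj (f p q) (f q p) := fun p q => isConj_iff.2 ⟨w, w_conj h p q⟩
    rcases eq_of_sq_one hp with rfl | rfl | ⟨i', rfl⟩
    · rcases eq_of_sq_one hq with rfl | rfl | ⟨j', rfl⟩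
      · exact he'1 (hpq.trans (f_one h))
      · exact hnt (by rw [hpq]; exact sw _ _)
      · exact hnsw (by rw [hpq]; exact (swap2 hL j' 1 (Or.inl rfl)).1)
    · rcases eq_of_sq_one hq with rfl | rfl | ⟨j', rfl⟩
      · exact hnt (by rw [hpq])
      · exact he'n hpq
      · exact hnsw (by rw [hpq]; exact (swap2 hL j' _ (Or.inr rfl)).1)
    · rcases eq_of_sq_one hq with rfl | rfl | ⟨j', rfl⟩
      · exact hnsw (by rw [hpq]; exact (swap1 hL i' 1 (Or.inl rfl)).1)
      · exact hnsw (by rw [hpq]; exact (swap1 hL i' _ (Or.inr rfl)).1)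
      · have hpa : pa i' ≠ pa j' := by
          intro h1
          exact hnt (by rw [hpq]; exact (hI.same i' j' h1).symm)
        rcases form1 h hL hx'P (hL.comm _ hx'L) with ⟨m, hm⟩ | ⟨m, hm⟩
        · -- `x' = f (r m) (r (-m))`
          rw [hm, hpq, f_comm_iff h] at hcomm
          obtain ⟨h1, -⟩ := hcomm
          rw [r_mul_sr, sr_mul_r] at h1
          have h2 := DihedralGroup.sr.inj h1
          have h3 : m + m = 0 := by linear_combination -h2
          rw [hm, h.f_mul, r_mul_r, h3, r_mul_r, ← neg_add, h3, neg_zero, ← one_def, f_one h] at hx'x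
          exact hz1 hx'x.symm
        · rw [hm, hpq, fw_comm_f_iff h] at hcomm
          obtain ⟨h1, -⟩ := hcomm
          rw [r_mul_sr, sr_mul_r] at h1
          have h2 := DihedralGroup.sr.inj h1
          apply hpa
          have h3 : j' = i' + (m + m) := by linear_combination h2
          have h4 : ∀ u : ZMod 2, u + u = 0 := by decide
          rw [h3, map_add, map_add, h4, add_zero]
  · rw [hpq] at he'e
    have hq := (fw_sq_one_iff h).1 he'e
    subst hq
    obtain ⟨g', hg', -⟩ := hI.w_t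
    apply hnt
    have h1 : IsConj w (f (c k) 1) := isConj_iff.2 ⟨g', hg'⟩
    refine h1.symm.trans ?_
    rw [hpq, fw_eq_conj_w h]
    exact isConj_iff.2 ⟨_, rfl⟩

end main

end Cfsg.Agent.LFourR.InpA
end

-- part: LFourR/InpAPre
section
/-!
# `Pre` in case I
-/

set_option autoImplicit false

namespace Cfsg.Agent.LFourR.InpA

open Subgroup Cfsg DihedralGroup Cfsg.Agent.LFourA.Model Cfsg.Agent.LFourA.Base Cfsg.Agent.LFourA.Defs
open Cfsg.Agent.LFourA.Facts Cfsg.Agent.LFourR.CloseA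
open Cfsg.Agent.LFourA.LCent (LCent)

section nums

variable {F : Type*} [Field F] [Fintype F]

/-- the numbers `ε` and `N` -/
def NN (F : Type*) [Fintype F] (ε : ℤ) (N : ℕ) : Prop :=
  (Fintype.card F % 4 = 1 ∧ ε = -1 ∧ N * 2 = Fintype.card F + 1) ∨
    (Fintype.card F % 4 = 3 ∧ ε = 1 ∧ N * 2 = Fintype.card F - 1)

theorem exists_nums (hq : Odd (Fintype.card F)) (h3 : 3 < Fintype.card F) :
    ∃ (ε : ℤ) (N : ℕ), Nums F ε N 1 ∧ NN F ε N := by
  have h2 : Fintype.card F % 2 = 1 := Nat.odd_iff.1 hq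
  rcases (by omega : Fintype.card F % 4 = 1 ∨ Fintype.card F % 4 = 3) with h | h
  · refine ⟨-1, (Fintype.card F + 1) / 2, ⟨Or.inr rfl, ?_, by omega, hq, h3, ?_, ?_⟩, Or.inl ⟨h, rfl, by (clear * - h; omega)⟩⟩
    · rw [Nat.odd_iff]; (clear * - h; omega)
    · push_cast; omega
    · intro hh; exact absurd hh (by decide)
  · refine ⟨1, (Fintype.card F - 1) / 2, ⟨Or.inl rfl, ?_, by omega, hq, h3, ?_, ?_⟩, Or.inr ⟨h, rfl, by omega⟩⟩
    · rw [Nat.odd_iff]; omega
    · push_cast; (clear * - h; omega)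
    · rintro - ⟨m, hm⟩
      rw [hm] at h
      have h4 : ∀ u : ZMod 4, u * u ≠ 3 := by decide
      apply h4 m
      have := (ZMod.natCast_eq_natCast_iff' (m * m) 3 4).2 (by omega)
      push_cast at this
      exact this

end nums

section cyc

variable {F : Type*} [Field F] [Fintype F] {G : Type*} [Group G]

theorem cyc_card {L : Subgroup G} (e0 : L ≃* Matrix.SpecialLinearGroup (Fin 2) F) (hq : Odd (Fintype.card F))
    {z e : G} (he : cg e L = L) (hee : e * e = 1) (hz : z ∈ L) (hzz : z * z = 1) (hz1 : z ≠ 1)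
    (hno : ∀ x ∈ L, x * x = z → x * e ≠ e * x) {ε : ℤ} {N : ℕ} (hN : NN F ε N) :
    IsCyclic (L ⊓ centralizer {e} : Subgroup G) ∧ Nat.card (L ⊓ centralizer {e} : Subgroup G) = N * 2 ^ 1 := by
  have h2 : (2 : F) ≠ 0 := AutTorus.two_ne_zero' hq
  have he' : e ∈ normalizer (L : Set G) := mem_normalizer_iff_cg.2 he
  have hez : e0 ⟨z, hz⟩ = -1 := by
    rcases Cfsg.Agent.Lib.PSL2Inv.sq_eq_one h2 (x := e0 ⟨z, hz⟩) (by
      rw [← map_mul]
      have : (⟨z, hz⟩ * ⟨z, hz⟩ : L) = 1 := Subtype.ext hzz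
      rw [this, map_one]) with h | h
    · exfalso
      have h1 : (⟨z, hz⟩ : L) = 1 := e0.injective (by rw [h, map_one])
      exact hz1 (congrArg Subtype.val h1)
    · exact h
  set α := MulAut.congr e0 (nact L he') with hα
  have hα1 : ∀ x : L, α (e0 x) = e0 (nact L he' x) := by
    intro x
    change e0 (nact L he' (e0.symm (e0 x))) = _
    rw [e0.symm_apply_apply]
  have hnn : ∀ x : L, nact L he' (nact L he' x) = x := by
    intro x
    apply Subtype.ext
    rw [coe_nact, coe_nact]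
    have : e * (e * (x : G) * e⁻¹) * e⁻¹ = (e * e) * x * (e * e)⁻¹ := by group
    rw [this, hee]; group
  have hfix : ∀ x : L, nact L he' x = x ↔ (x : G) * e = e * x := by
    intro x
    rw [← Subtype.val_inj, coe_nact, mul_inv_eq_iff_eq_mul]
    exact eq_comm
  set T := ((centralizer ({e} : Set G)).subgroupOf L).map e0.toMonoidHom with hT
  have hTmem : ∀ x, x ∈ T ↔ α x = x := by
    intro x
    obtain ⟨y, rfl⟩ := e0.surjective x
    rw [hα1, e0.injective.eq_iff, hfix, hT]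
    constructor
    · rintro ⟨y', hy', h1⟩
      have h3 : y' = y := e0.injective h1
      rw [h3] at hy'
      exact mem_centralizer_singleton_iff.1 (mem_subgroupOf.1 hy')
    · intro h1
      exact ⟨y, mem_subgroupOf.2 (mem_centralizer_singleton_iff.2 h1), rfl⟩
  obtain ⟨hc, hcard⟩ := FixTorus.main h2 (α := α) (by
      intro x
      obtain ⟨y, rfl⟩ := e0.surjective x
      rw [hα1, hα1, hnn]) (by
      intro x hx hxα
      obtain ⟨y, rfl⟩ := e0.surjective x
      rw [hα1, e0.injective.eq_iff, hfix] at hxα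
      rw [← map_mul, ← hez] at hx
      exact hno y y.2 (congrArg Subtype.val (e0.injective hx)) hxα) T hTmem
  have hequiv : (L ⊓ centralizer {e} : Subgroup G) ≃* ((centralizer {e}).subgroupOf L) :=
    { toFun := fun x => ⟨⟨x.1, (Subgroup.mem_inf.1 x.2).1⟩, (Subgroup.mem_inf.1 x.2).2⟩
      invFun := fun x => ⟨x.1.1, Subgroup.mem_inf.2 ⟨x.1.2, x.2⟩⟩
      left_inv := fun x => rfl
      right_inv := fun x => rfl
      map_mul' := fun x y => rfl }
  have hequiv2 : (L ⊓ centralizer {e} : Subgroup G) ≃* T :=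
    hequiv.trans (Subgroup.equivMapOfInjective _ e0.toMonoidHom e0.injective)
  refine ⟨isCyclic_of_surjective hequiv2.symm hequiv2.symm.surjective, ?_⟩
  rw [Nat.card_congr hequiv2.toEquiv]
  rw [Nat.card_eq_fintype_card (α := F)] at hcard
  rcases hN with ⟨h1, -, h3⟩ | ⟨h1, -, h3⟩
  · rcases hcard with ⟨-, h4⟩ | ⟨h4, -⟩
    · rw [h4, pow_one, h3]
    · omega
  · rcases hcard with ⟨h4, -⟩ | ⟨-, h4⟩
    · omega
    · rw [h4, pow_one, h3]

end cyc

section pre

variable {G : Type*} [Group G] [Finite G] {P : Sylow 2 G} {k : ℕ} {f : D k → D k → G} {w : G}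
  {F : Type*} [Field F] [Fintype F] {L₁ L₂ : Subgroup G}

theorem x0_comm_inv : (x0 k)⁻¹ = (r (-((2 ^ k : ℕ) : ZMod (4 * 2 ^ k))) : D k) := by
  rw [x0, DihedralGroup.inv_r]

theorem sr_x0 (i : ZMod (4 * 2 ^ k)) : (sr i : D k) * x0 k * (sr i)⁻¹ = (x0 k)⁻¹ := by
  have h1 := x0_sr (k := k) i
  have hc := c_comm (sr i : D k)
  rw [x0_inv]
  have h2 : x0 k * sr i = sr i * c k * x0 k := by rw [← h1]; group
  have h3 : (sr i : D k) * x0 k = c k * x0 k * sr i := by
    rw [mul_assoc, h2, ← mul_assoc, ← mul_assoc, hc, mul_assoc (sr i) (c k) (c k), c_mul_c, mul_one]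
  rw [h3, mul_inv_cancel_right]

/-- **`Pre` in case I.** -/
theorem pre (h : DWr (P : Subgroup G) k f w) (hI : CaseI f w) (hL : LCent f w F L₁ L₂)
    (hq : Odd (Fintype.card F)) {a b : G} (ha : RhoS f 0 a) (hb : RhoS f 1 b) {ε : ℤ} {N : ℕ}
    (hn : Nums F ε N 1) (hN : NN F ε N) :
    Pre F ε N 1 (f (c k) (c k)) (f (sr 0) (sr 1)) (a * (w * b * w⁻¹)) (f (x0 k) (x0 k)⁻¹) (f (x0 k) (x0 k))
      L₁ L₂ (⊥ : Subgroup G) := by
  have hij : pa (0 : ZMod (4 * 2 ^ k)) ≠ pa (1 : ZMod (4 * 2 ^ k)) := by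
    rw [map_zero, map_one]; decide
  set z := f (c k) (c k) with hz
  set e := f (sr 0) (sr 1) with he
  set n1 := f (x0 k) (x0 k)⁻¹ with hn1
  set n2 := f (x0 k) (x0 k) with hn2
  set b' := w * b * w⁻¹ with hb'
  have hee : e * e = 1 := by rw [he, h.f_mul, sr_mul_self, sr_mul_self, f_one h]
  have hzz : z * z = 1 := by rw [hz, h.f_mul, c_mul_c, f_one h]
  have hz1 : z ≠ 1 := z_ne_one h
  have hze : z * e = e * z := z_comm h (f_mem h _ _)
  have hzL1 : z ∈ L₁ := z_mem1 h hL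
  have hzL2 : z ∈ L₂ := z_mem2 h hL
  -- the action of `ρ`
  have cw : ∀ x : G, b' * x * b'⁻¹ = w * (b * (w⁻¹ * x * w) * b⁻¹) * w⁻¹ := by
    intro x; rw [hb']; group
  have A1 : a * f 1 (c k) * a⁻¹ = f 1 (c k) := rho_fix_c ha
  have A2 : a * f 1 (sr 1) * a⁻¹ = f 1 (sr 1) := rho_fix_ne ha hij
  have A3 : a * f 1 (sr 1 * c k) * a⁻¹ = f 1 (sr 1 * c k) := by
    have e : f 1 (sr 1 * c k) = f 1 (sr 1) * f 1 (c k) := by rw [h.f_mul, one_mul]
    rw [e, cj_mul, A1, A2]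
  have B1 : b' * f (c k) 1 * b'⁻¹ = f (c k) 1 := by
    rw [cw, w_conj' h, rho_fix_c hb, w_conj h]
  have B2 : b' * f (sr 0) 1 * b'⁻¹ = f (sr 0) 1 := by
    rw [cw, w_conj' h, rho_fix_ne hb hij.symm, w_conj h]
  have B3 : b' * f (sr 0 * c k) 1 * b'⁻¹ = f (sr 0 * c k) 1 := by
    have e : f (sr 0 * c k) 1 = f (sr 0) 1 * f (c k) 1 := by rw [h.f_mul, one_mul]
    rw [e, cj_mul, B1, B2]
  have B4 : b' * f 1 (c k) * b'⁻¹ = f 1 (sr 1) := by
    rw [cw, w_conj' h, hb.t_s, w_conj h]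
  have B5 : b' * f 1 (sr 1) * b'⁻¹ = f 1 (sr 1 * c k) := by
    rw [cw, w_conj' h, hb.s_sc, w_conj h]
  have R : ∀ x : G, (a * b') * x * (a * b')⁻¹ = a * (b' * x * b'⁻¹) * a⁻¹ := by intro x; group
  have Rz : (a * b') * z * (a * b')⁻¹ = e := by
    rw [R, hz, f_split h, cj_mul b', B1, B4, cj_mul, ha.t_s, A2, ← f_split h]
  have Re : (a * b') * e * (a * b')⁻¹ = z * e := by
    have h1 : z * e = f (sr 0 * c k) (sr 1 * c k) := by rw [hz, he, h.f_mul, c_comm, c_comm (sr 1)]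
    rw [h1, R, he, f_split h (sr 0), cj_mul b', B2, B5, cj_mul, ha.s_sc, A3, ← f_split h]
  have hc12 : n1 * n2 = f (c k) 1 := by
    rw [hn1, hn2, h.f_mul, x0_mul_x0, inv_mul_cancel]
  have Rt : (a * b') * f (c k) 1 * (a * b')⁻¹ = f (sr 0) 1 := by rw [R, B1, ha.t_s]
  have Rs : (a * b') * f (sr 0) 1 * (a * b')⁻¹ = f (sr 0 * c k) 1 := by rw [R, B2, ha.s_sc]
  have Rsc : (a * b') * f (sr 0 * c k) 1 * (a * b')⁻¹ = f (c k) 1 := by rw [R, B3, ha.sc_t]
  have hcs : f (c k) 1 * f (sr 0) 1 = f (sr 0 * c k) 1 := by rw [h.f_mul, c_comm, one_mul]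
  -- `n1`
  have hn1L : n1 ∈ L₁ := by
    rw [hn1, x0_comm_inv]; exact hL.q₁x _
  have hn2L : n2 ∈ L₂ := hL.q₂x _
  have hn1sq : n1 * n1 = z := by
    rw [hn1, h.f_mul, x0_mul_x0, ← mul_inv_rev, x0_mul_x0, c_inv]
  have hn2sq : n2 * n2 = z := by rw [hn2, h.f_mul, x0_mul_x0]
  have hn1e : e * n1 * e⁻¹ = n1 * z := by
    have h1 : (sr 1 : D k) * (x0 k)⁻¹ * (sr 1)⁻¹ = x0 k := by
      have : (sr 1 : D k) * (x0 k)⁻¹ * (sr 1)⁻¹ = (sr 1 * x0 k * (sr 1)⁻¹)⁻¹ := by group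
      rw [this, sr_x0, inv_inv]
    have hx1 : (x0 k)⁻¹ = x0 k * c k := by rw [x0_inv, c_comm]
    have hx2 : (x0 k)⁻¹ * c k = x0 k := by rw [hx1, mul_assoc, c_mul_c, mul_one]
    rw [he, hn1, f_conj h, sr_x0, h1, hz, h.f_mul, hx2, hx1]
  have hn2e : e * n2 * e⁻¹ = n2 * z := by
    rw [he, hn2, f_conj h, sr_x0, sr_x0, hz, h.f_mul, x0_inv, c_comm]
  obtain ⟨hE1, hE2⟩ := e_norm h hL 0 1
  obtain ⟨e0⟩ := hL.iso₁
  obtain ⟨hcyc, hcard⟩ := cyc_card e0 hq hE1 hee hzL1 hzz hz1 (fun x hx hxx => noFour h hI hL hij hx hxx) hN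
  have hact : ¬ ∀ l ∈ L₁, e * l = l * e := by
    intro h1
    rw [h1 n1 hn1L, mul_inv_cancel_right] at hn1e
    exact hz1 (left_eq_mul.1 hn1e)
  have hn1inv : ∀ t ∈ L₁, t * e = e * t → n1 * t * n1⁻¹ = t⁻¹ := by
    obtain ⟨a0, ha0, ha0e, hord⟩ := exists_a hn hcyc hcard
    have S := exists_side e0 hn (mem_normalizer_iff_cg.2 hE1) hee hact hcyc hcard hzL1 hzz hz1 ha0 ha0e hord
    obtain ⟨n0, hn0L, hn0sq, hn0inv, hn0e⟩ := S.exists_n
    intro t ht hte
    -- `s = n1 n0⁻¹` commutes with `e`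
    have hse : (n1 * n0⁻¹) * e = e * (n1 * n0⁻¹) := by
      have h1 : e * (n1 * n0⁻¹) * e⁻¹ = n1 * n0⁻¹ := by
        have : e * (n1 * n0⁻¹) * e⁻¹ = (e * n1 * e⁻¹) * (e * n0 * e⁻¹)⁻¹ := by group
        rw [this, hn1e, hn0e]; group
      calc (n1 * n0⁻¹) * e = (e * (n1 * n0⁻¹) * e⁻¹) * e := by rw [h1]
        _ = e * (n1 * n0⁻¹) := by group
    have hsL : n1 * n0⁻¹ ∈ (L₁ ⊓ centralizer {e} : Subgroup G) :=
      mem_inf.2 ⟨mul_mem hn1L (inv_mem hn0L), mem_centralizer_singleton_iff.2 hse⟩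
    have htL : t⁻¹ ∈ (L₁ ⊓ centralizer {e} : Subgroup G) :=
      inv_mem (mem_inf.2 ⟨ht, mem_centralizer_singleton_iff.2 hte⟩)
    have hcomm : (n1 * n0⁻¹) * t⁻¹ = t⁻¹ * (n1 * n0⁻¹) := by
      have := hcyc
      let _ : CommGroup (L₁ ⊓ centralizer {e} : Subgroup G) := IsCyclic.commGroup
      have h1 := mul_comm (⟨_, hsL⟩ : (L₁ ⊓ centralizer {e} : Subgroup G)) ⟨_, htL⟩
      exact congrArg Subtype.val h1
    calc n1 * t * n1⁻¹ = (n1 * n0⁻¹) * (n0 * t * n0⁻¹) * (n1 * n0⁻¹)⁻¹ := by group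
      _ = (n1 * n0⁻¹) * t⁻¹ * (n1 * n0⁻¹)⁻¹ := by rw [hn0inv t ht hte]
      _ = t⁻¹ := by rw [hcomm, mul_inv_cancel_right]
  have hswap := swap1 hL (f := f) (w := w) 0 1 (Or.inl rfl)
  refine
    { nums := hn
      zz := hzz
      z_ne := hz1
      ee := hee
      e_ne := ?_
      e_ne_z := ?_
      ze := hze
      iso1 := hL.iso₁
      z_mem := hzL1
      comm := hL.comm
      perm := perm hL
      e_norm := hE1
      T_cyc := hcyc
      T_card := hcard
      e_act := hact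
      n1_mem := hn1L
      n1_sq := hn1sq
      n1_inv := hn1inv
      n1_e := hn1e
      n2_mem := hn2L
      n2_sq := hn2sq
      n2_inv := ?_
      n2_e := hn2e
      ρ_z := Rz
      ρ_e := Re
      swap := ?_
      U_z := ?_
      U_e := ?_
      U_ρ := ?_
      U_T1 := ?_
      U_T2 := ?_
      w_rot := ?_
      c_rot := ?_
      Z := ?_
      two := two h hL
      f := Or.inl rfl }
  · intro h1
    exact sr_ne_one _ ((f_eq_one_iff h).1 h1).1
  · intro h1
    exact sr_ne_c _ ((f_eq_iff h).1 h1).1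
  · -- `n2` inverts
    intro t ht hte
    set s := f (sr 0) 1 with hs
    have hss : s * s = 1 := by rw [hs, h.f_mul, sr_mul_self, one_mul, f_one h]
    have hsinv : s⁻¹ = s := inv_eq_of_mul_eq_one_left hss
    have hse : s * e = e * s := by
      rw [hs, he, h.f_mul, h.f_mul, one_mul, mul_one]
    have ht' : s * t * s⁻¹ ∈ L₁ := by rw [← hswap.2]; exact conj_mem_cg ht
    have hte' : (s * t * s⁻¹) * e = e * (s * t * s⁻¹) := by
      rw [hsinv]
      calc s * t * s * e = s * t * (s * e) := by group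
        _ = s * (t * e) * s := by rw [hse]; group
        _ = (s * e) * t * s := by rw [hte]; group
        _ = e * (s * t * s) := by rw [hse]; group
    have h1 := hn1inv _ ht' hte'
    have h2 : s * n2 * s⁻¹ = n1⁻¹ := by
      rw [hs, hn2, f_conj h, sr_x0, hn1, f_inv h, inv_inv, one_mul, inv_one, mul_one]
    have h4 : n1⁻¹ * (s * t * s⁻¹) * n1 = (s * t * s⁻¹)⁻¹ := by
      have h5 : (s * t * s⁻¹) = n1⁻¹ * (s * t * s⁻¹)⁻¹ * n1 := by rw [← h1]; group
      calc n1⁻¹ * (s * t * s⁻¹) * n1 = (n1⁻¹ * (s * t * s⁻¹)⁻¹ * n1)⁻¹ := by group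
        _ = _ := by rw [← h5]
    have h6 : s * (n2 * t * n2⁻¹) * s⁻¹ = s * t⁻¹ * s⁻¹ := by
      calc s * (n2 * t * n2⁻¹) * s⁻¹ = (s * n2 * s⁻¹) * (s * t * s⁻¹) * (s * n2 * s⁻¹)⁻¹ := by group
        _ = n1⁻¹ * (s * t * s⁻¹) * n1 := by rw [h2, inv_inv]
        _ = (s * t * s⁻¹)⁻¹ := h4
        _ = s * t⁻¹ * s⁻¹ := by group
    exact mul_left_cancel (mul_right_cancel h6)
  · rw [hc12, Rt]; exact hswap.1
  · rintro u hu
    rw [mem_bot.1 hu, one_mul, mul_one]
  · rintro u hu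
    rw [mem_bot.1 hu, one_mul, mul_one]
  · exact Subgroup.map_bot _
  · rintro u hu t - -
    rw [mem_bot.1 hu, one_mul, mul_one]
  · rintro u hu t - -
    rw [mem_bot.1 hu, one_mul, mul_one]
  · rw [mem_bot, hc12, Rt, Rs, hcs, mul_inv_cancel]
  · have h1 : (a * b')⁻¹ * f (c k) 1 * (a * b') = f (sr 0 * c k) 1 := by rw [← Rsc]; group
    rw [mem_bot, hc12, Rt, h1, hcs, mul_inv_cancel]
  · intro x h1 h2
    have hodd : ∀ o ∈ centralizerPPrimeCore 2 (f (c k) (c k)), o * e = e * o := by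
      intro o ho
      have i1 := hL.inv₁ 0 1 (Or.inl rfl)
      have i2 := hL.inv₂ 1 1 (Or.inl rfl)
      have h4 : e * o * e⁻¹ = o := by
        rw [he, f_split h]
        have : f (sr 0) 1 * f 1 (sr 1) * o * (f (sr 0) 1 * f 1 (sr 1))⁻¹ =
            f (sr 0) 1 * (f 1 (sr 1) * o * (f 1 (sr 1))⁻¹) * (f (sr 0) 1)⁻¹ := by group
        rw [this, i2 o ho, i1 _ (inv_mem ho), inv_inv]
      calc o * e = (e * o * e⁻¹) * e := by rw [h4]
        _ = e * o := by group
    have hodd2 : ∀ o ∈ centralizerPPrimeCore 2 (f (c k) (c k)), o * o = 1 → o = 1 := by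
      intro o ho hoo
      by_contra ho1
      have h5 : orderOf o = 2 := orderOf_eq_prime (by rw [pow_two]; exact hoo) ho1
      have h6 : orderOf o ∣ Nat.card (centralizerPPrimeCore 2 (f (c k) (c k))) := by
        rw [← Subgroup.orderOf_mk o ho]; exact _root_.orderOf_dvd_natCard _
      rw [h5] at h6
      exact Cfsg.Agent.Dichotomy.CoreTools.core_card (p := 2) (f (c k) (c k)) h6
    rcases hL.cent x h1 h2 with h4 | h4
    · exact ⟨hodd x h4, fun h5 => Or.inl (hodd2 x h4 h5)⟩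
    · have hxz : x * z = z * x := h1 z hzL1
      have hx : x = (x * z) * z := by rw [mul_assoc, hzz, mul_one]
      refine ⟨?_, fun h5 => Or.inr ?_⟩
      · have h6 := hodd _ h4
        rw [hx, mul_assoc, hze, ← mul_assoc, h6, mul_assoc]
      · have h6 : (x * z) * (x * z) = 1 := by
          calc (x * z) * (x * z) = x * (z * x) * z := by group
            _ = (x * x) * (z * z) := by rw [← hxz]; group
            _ = 1 := by rw [h5, hzz, one_mul]
        have h7 := hodd2 _ h4 h6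
        rw [hx, h7, one_mul]

/-- **The input in case I.** -/
theorem exists_inp [IsSimpleGroup G] (h : DWr (P : Subgroup G) k f w) (hI : CaseI f w) (hL : LCent f w F L₁ L₂)
    (hq : Odd (Fintype.card F)) (h3 : 3 < Fintype.card F)
    {X : Type*} [Group X] {F₂ : Type*} [Field F₂] [Fintype F₂] (hF₂ : Fintype.card F₂ = Fintype.card F ^ 2)
    {q' : ↥(centralizer ({f (c k) 1} : Set G)) →* X} {K : Subgroup X}
    (hT : Cfsg.Agent.LFourA.CzCt.CTL (f (c k) 1) F₂ q' K) (hP : Cfsg.Agent.LFourA.CzCt.TPos f q' K) :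
    ∃ (ε : ℤ) (N : ℕ) (ρ : G),
      Inp F ε N 1 (f (c k) (c k)) (f (sr 0) (sr 1)) ρ (f (x0 k) (x0 k)⁻¹) (f (x0 k) (x0 k)) L₁ L₂ (⊥ : Subgroup G) ∧
      L₁ ⊔ L₂ ⊔ cg ρ L₁ = ⊤ := by
  obtain ⟨a, ha⟩ := hI.rho 0
  obtain ⟨b, hb⟩ := hI.rho 1
  obtain ⟨ε, N, hn, hN⟩ := exists_nums hq h3
  have hij : pa (0 : ZMod (4 * 2 ^ k)) ≠ pa (1 : ZMod (4 * 2 ^ k)) := by
    rw [map_zero, map_one]; decide
  have H := pre h hI hL hq ha hb hn hN
  have hodd : Odd (Fintype.card F₂) := by rw [hF₂]; exact hq.pow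
  have h9 : 9 < Fintype.card F₂ := by rw [hF₂]; nlinarith only [h3]
  have hcl : ∀ M : Subgroup G, centralizer ({f (c k) (c k)} : Set G) ≤ M → a * (w * b * w⁻¹) ∈ M → M = ⊤ :=
    fun M hz hM => CloseA.eq_top h hI hodd h9 hT hP ha hb hij hz hM
  exact ⟨ε, N, _, H.toInp hcl, H.sup_eq_top hcl⟩

end pre

end Cfsg.Agent.LFourR.InpA
end

-- part: LFour/BranchAOne
section
/-!
# S0510, branch A1: Sylow 2-subgroup `D wr 2` with the fusion pattern of `PSL_4(q)`, `PSU_4(q)`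

The heavy theorems are hypotheses: the commutator half of S1171 (`hC1`), S0483 (`hGW`), S0484, S0485 and the two
recognition theorems of S1759 for `q = 3` (`RecAA`).
-/

set_option autoImplicit false

namespace Cfsg.Agent.LFour

open Subgroup DihedralGroup Cfsg
open Cfsg.Agent.LFourA.Model Cfsg.Agent.LFourA.Base Cfsg.Agent.LFourA.Defs Cfsg.Agent.LFourA.CzCt
open Cfsg.Agent.LFourA Cfsg.Agent.LFourR

universe u

/-- The conclusion for `q = 3`. -/
theorem conclLU_dwr {G : Type u} [Group G] [Finite G] [IsSimpleGroup G] (R : QThreeEnd.RecAA G)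
    {P : Subgroup G} {k : ℕ} {f : D k → D k → G} {w : G} (hS : DWr P k f w)
    {X : Type*} [Group X] {F : Type*} [Field F] [Fintype F] (h3 : Fintype.card F = 3)
    {p : ↥(centralizer ({f (c k) (c k)} : Set G)) →* X}
    {K₁ K₂ : Subgroup X} (h : CZL (f (c k) (c k)) F p K₁ K₂)
    (hO : centralizerPPrimeCore 2 (f (c k) (c k)) = ⊥) : ConclLU G := by
  have hle : P ≤ centralizer ({f (c k) (c k)} : Set G) := by
    intro g hg
    rw [mem_centralizer_singleton_iff]
    rcases mem_cases hS hg with ⟨a, b, rfl⟩ | ⟨a, b, rfl⟩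
    · rw [hS.f_mul, hS.f_mul, c_comm, c_comm]
    · rw [fw_mul_f hS, ← mul_assoc, hS.f_mul, c_comm, c_comm]
  have hnc : ¬ IsMulCommutative G := by
    intro hc
    have h1 : f (c k) 1 * w = w * f (c k) 1 := hc.is_comm.comm _ _
    rw [hS.w_f] at h1
    have h2 := mul_right_cancel h1
    rw [f_eq_iff hS] at h2
    exact c_ne_one h2.1
  have hz : orderOf (f (c k) (c k)) = 2 := by
    refine orderOf_eq_prime ?_ ?_
    · rw [pow_two, hS.f_mul, c_mul_c, f_one hS]
    · intro h1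
      exact c_ne_one (hS.f_inj _ _ h1).1
  have h7 : 2 ^ 7 ∣ Nat.card (Subgroup.centralizer ({f (c k) (c k)} : Set G)) := by
    have h1 := Subgroup.card_dvd_of_le hle
    rw [card_S hS] at h1
    exact (Dvd.intro _ rfl : (2 : ℕ) ^ 7 ∣ 128 * 4 ^ k).trans h1
  obtain ⟨Q, i, j, l, m, x₁, x₂, y, s, hC⟩ := QThreeEnd.exists_aa hnc hz h3 h hO h7
  by_cases h1 : ∀ g : G, g * f (c k) (c k) * g⁻¹ ∈ Q → g * f (c k) (c k) * g⁻¹ = f (c k) (c k)
  · obtain ⟨F, i1, i2, hF, e⟩ := R.aa Q _ i j l m x₁ x₂ y s hC h1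
    exact Or.inl ⟨F, i1, i2, by rw [hF]; exact ⟨1, rfl⟩, e⟩
  · push Not at h1
    obtain ⟨g, hg, hne⟩ := h1
    obtain ⟨F, i1, i2, hF, e⟩ := R.aa' Q _ i j l m x₁ x₂ y s g hC hg hne
    exact Or.inr ⟨F, i1, i2, 3, by rw [hF]; norm_num, ⟨1, rfl⟩, e⟩

theorem branchA1LU
    (hC1 : ∀ (G : Type u) [Group G] [Finite G] (P : Sylow 2 G) (A B : Subgroup G), A ⊓ B = ⊥ →
      Cfsg.IsStronglyClosed A (P : Subgroup G) → Cfsg.IsStronglyClosed B (P : Subgroup G) →
      ⁅Subgroup.normalClosure (A : Set G), Subgroup.normalClosure (B : Set G)⁆ ≤ Cfsg.oddCore G)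
    (hGW : ∀ (X : Type u) [Group X] [Finite X] [Group.IsPerfect X]
      (S : Sylow 2 X) (n : ℕ), 2 ≤ n → Nonempty ((S : Subgroup X) ≃* DihedralGroup n) →
      (∃ (F : Type) (_ : Field F) (_ : Fintype F), Odd (Fintype.card F) ∧ 3 < Fintype.card F ∧
        Nonempty (X ⧸ Cfsg.oddCore X ≃* Matrix.ProjectiveSpecialLinearGroup (Fin 2) F)) ∨
      Nonempty (X ⧸ Cfsg.oddCore X ≃* alternatingGroup (Fin 7)))
    (h484 : ∀ (F : Type) [Field F] [Fintype F], St484.{u, 0} F)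
    (h485 : ∀ (K : Type) [Field K] [Fintype K] (q : ℕ), St485.{u, 0} K q)
    (R : ∀ (G : Type u) [Group G] [Finite G] [IsSimpleGroup G], QThreeEnd.RecAA G) : BranchA1LU.{u} := by
  intro G _ _ _ P k f w h hI
  obtain ⟨X, i1, i2, p, K₁, K₂, F, i3, i4, X', i5, i6, p', K, F₂, i7, i8, hodd, Z, zp, hodd2, T, tp, -, -, hcard⟩ :=
    KlFinal.final hC1 hGW h hI
  have h2 := KlFinal.two_ne hodd
  have h2' := KlFinal.two_ne hodd2
  rw [Nat.card_eq_fintype_card, Nat.card_eq_fintype_card] at hcard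
  have hG := hom_units_trivial (two_lt_card_of_dwr h)
  by_cases h3 : Fintype.card F = 3
  · exact conclLU_dwr (R G) h h3 Z (KlGlue.core_eq_bot h hI h2 h2' hcard h3 Z zp T tp)
  · have h3' : 3 < Fintype.card F := by
      have h4 : 1 < Fintype.card F := Fintype.one_lt_card
      rw [Nat.odd_iff] at hodd
      omega
    have hI' := KlGlue.caseI_shift h hG hI
    have h' := FusionMain.shift h
    have B := KlGlue.exists_bals h hI h2 h2' hcard h3 Z zp T tp
    have B' : KlCore.Bals (fun a b => f (FusionMain.sh k a) (FusionMain.sh k b)) :=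
      KlGlue.exists_bals h' hI' h2 h2' hcard h3 Z (KlGlue.zpos_shift h zp) T (KlGlue.tpos_shift tp)
    have inv₁ := KlCore.inv₁ h B B'
    have inv₂ := KlCore.inv₂ h B B'
    have h9 : Fintype.card F = 9 → ¬ 3 ∣ Nat.card (centralizerPPrimeCore 2 (f (c k) (c k))) := by
      intro h9
      refine KlL.not_three_dvd h (by rw [hcard, h9]; norm_num) T tp ?_ (inv₂ 0 1 (Or.inl rfl)) ?_
      · -- `t` is a product of two swaps
        intro o ho
        have h4 := inv₁ ((2 * 2 ^ k : ℕ) : ZMod (4 * 2 ^ k)) 1 (Or.inl rfl) o ho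
        have h5 := inv₁ 0 1 (Or.inl rfl) _ (inv_mem ho)
        rw [inv_inv] at h5
        have h6 : f (c k) 1 = f (sr 0) 1 * f (sr ((2 * 2 ^ k : ℕ) : ZMod (4 * 2 ^ k))) 1 := by
          rw [h.f_mul, sr_mul_sr, sub_zero, one_mul]; rfl
        have h7 : f (c k) 1 * o * (f (c k) 1)⁻¹ = o := by
          rw [h6]
          calc f (sr 0) 1 * f (sr ((2 * 2 ^ k : ℕ) : ZMod (4 * 2 ^ k))) 1 * o *
                (f (sr 0) 1 * f (sr ((2 * 2 ^ k : ℕ) : ZMod (4 * 2 ^ k))) 1)⁻¹ =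
              f (sr 0) 1 * (f (sr ((2 * 2 ^ k : ℕ) : ZMod (4 * 2 ^ k))) 1 * o *
                (f (sr ((2 * 2 ^ k : ℕ) : ZMod (4 * 2 ^ k))) 1)⁻¹) * (f (sr 0) 1)⁻¹ := by group
            _ = o := by rw [h4, h5]
        exact (mul_inv_eq_iff_eq_mul.1 h7).symm
      · intro o ho ho'
        have h4 := B.iso (mem_inf.2 ⟨ho, ho'⟩)
        refine B.delta (c k) (Facts.c_mem_V 0) 1 (one_mem _) (Facts.t_ne_one h) ?_ o ho ho' ?_
        · intro h5
          exact c_ne_one ((f_eq_iff h).1 h5).2.symm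
        · rw [c_mul_c, mul_one]
          exact h4
    have L := KlL.lcent h Z zp hodd h3' h9 inv₁ inv₂
    obtain ⟨ε, N, ρ, H, hgen⟩ := InpA.exists_inp h hI L hodd h3' hcard T tp
    exact Final.concl H hgen h484 h485

/-- **Branch A1.** -/
theorem branchA1
    (hC1 : ∀ (G : Type u) [Group G] [Finite G] (P : Sylow 2 G) (A B : Subgroup G), A ⊓ B = ⊥ →
      Cfsg.IsStronglyClosed A (P : Subgroup G) → Cfsg.IsStronglyClosed B (P : Subgroup G) →
      ⁅Subgroup.normalClosure (A : Set G), Subgroup.normalClosure (B : Set G)⁆ ≤ Cfsg.oddCore G)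
    (hGW : ∀ (X : Type u) [Group X] [Finite X] [Group.IsPerfect X]
      (S : Sylow 2 X) (n : ℕ), 2 ≤ n → Nonempty ((S : Subgroup X) ≃* DihedralGroup n) →
      (∃ (F : Type) (_ : Field F) (_ : Fintype F), Odd (Fintype.card F) ∧ 3 < Fintype.card F ∧
        Nonempty (X ⧸ Cfsg.oddCore X ≃* Matrix.ProjectiveSpecialLinearGroup (Fin 2) F)) ∨
      Nonempty (X ⧸ Cfsg.oddCore X ≃* alternatingGroup (Fin 7)))
    (h484 : ∀ (F : Type) [Field F] [Fintype F], St484.{u, 0} F)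
    (h485 : ∀ (K : Type) [Field K] [Fintype K] (q : ℕ), St485.{u, 0} K q)
    (R : ∀ (G : Type u) [Group G] [Finite G] [IsSimpleGroup G], QThreeEnd.RecAA G) : BranchA1.{u} :=
  (branchA1LU hC1 hGW h484 h485 R).branch

end Cfsg.Agent.LFour
end

-- part: LFour/RecAA
section
/-!
# S0510: the recognition theorems of S1759 for `L₄(3)`, `U₄(3)`
-/

set_option autoImplicit false

namespace Cfsg.Agent.LFour.RecAA

universe u

/-- `RecAA` holds for every finite simple group. -/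
theorem recAA (G : Type u) [Group G] [Finite G] [IsSimpleGroup G] : LFourR.QThreeEnd.RecAA G where
  aa := fun Q z i j k l x₁ x₂ y s h hw => LargeExtra.W2.LFour.Main.recognize Q z i j k l x₁ x₂ y s h hw
  aa' := fun Q z i j k l x₁ x₂ y s g h hg hne => by
    haveI : Fact (Nat.Prime 3) := ⟨Nat.prime_three⟩
    haveI : Finite (GaloisField 3 2) := by
      refine Nat.finite_of_card_ne_zero ?_
      rw [GaloisField.card 3 2 (by norm_num)]
      norm_num
    letI : Fintype (GaloisField 3 2) := Fintype.ofFinite _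
    have hF : Fintype.card (GaloisField 3 2) = 9 := by
      rw [← Nat.card_eq_fintype_card, GaloisField.card 3 2 (by norm_num)]
      norm_num
    exact ⟨GaloisField 3 2, inferInstance, inferInstance, hF,
      LargeExtra.W2.U43.Main.recog_aa_II h ⟨g, hg, hne⟩ (GaloisField 3 2) hF⟩

end Cfsg.Agent.LFour.RecAA
end

-- part: LFour/BFiveExt
section
/-!
# Statement S0510: the external theorems of the branch `q = 5 mod 8`
-/

set_option autoImplicit false

namespace Cfsg.Agent.LFour.BFiveExt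

open Subgroup Cfsg
open Cfsg.Agent.LFourB StepEight BFive

universe u

theorem ft : CoverCore.Functor.FT.{u} := fun _ _ _ h => Cfsg.Agent.S0205.result h

theorem zstar : ZStar.{u} := fun _ _ _ P u h1 h2 h3 => Cfsg.Agent.S0215.result P u h1 h2 h3

theorem comm : MathieuFus.Comm.{u} :=
  fun _ _ _ P A B h1 h2 h3 => Cfsg.Agent.TwoFusion.ClosedCommutator.commutator_le P A B h1 h2 h3

theorem gold : ∀ (L : Type u) [Group L] [Finite L] [IsSimpleGroup L], XKill.Gold L :=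
  fun _ _ _ _ S A h1 h2 h3 => Cfsg.Agent.S1169.result S A h1 h2 h3

theorem gen : ∀ (L : Type u) [Group L] [Finite L] [IsSimpleGroup L], Gen L :=
  fun _ _ _ _ S T h1 h2 h3 => Cfsg.Agent.S1174.result S T h1 h2 h3

theorem ben : ∀ (L : Type u) [Group L] [Finite L] [IsSimpleGroup L], (∃ a b : L, a * b ≠ b * a) → Bender L :=
  fun _ _ _ _ h H hH => Cfsg.Agent.S0222.result h H hH

theorem se : CoverCore.Main.SECore.{u} := fun _ _ _ H hH => Cfsg.Agent.S1221.result H hH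

theorem sf : CoverCore.Functor.SFT.{u} :=
  fun _ _ _ A h1 h2 h3 θ h4 h5 h6 h7 h8 =>
    Cfsg.Agent.SignalizersComponents.SolFunctorTwo.solvable_signalizer_functor_two A h1 h2 h3 θ h4 h5 h6 h7 h8

/-- **The external theorems, except for S0509, S1179 and the McLaughlin group.** -/
theorem ext (hmcl : CoverCore.AltEnd.HMcL.{u}) (hnine : CoverCore.AltEnd.HNine.{u}) (h509 : KTenMain.H509.{u})
    (htimm : ∀ (L : Type u) [Group L] [Finite L] [IsSimpleGroup L], ¬ IsMulCommutative L → Timm L) : Ext.{u} where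
  zstar := zstar
  ft := ft
  sf := sf
  se := se
  mcl := hmcl
  nine := hnine
  h509 := h509
  comm := comm
  gold := gold
  gen := gen
  ben := ben
  timm := htimm

end Cfsg.Agent.LFour.BFiveExt
end

-- part: CoverCore/InstMcL
section
/-!
# `HMcL`
-/

set_option autoImplicit false

open Cfsg Subgroup

universe u

namespace Cfsg.Agent.CoverCore.InstMcL

theorem isMcL_of_iso {G : Type u} [Group G] (h : Spor.IsoMcL G) : IsMcL G := by
  obtain ⟨e1⟩ := h
  obtain ⟨e2⟩ := McLType.X275.isoMcL_G1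
  let e := e1.trans e2.symm
  have h1 : IsMcL McLType.X275.G1 := McLType.X275.isMcL_G1
  have : IsSimpleGroup McLType.X275.G1 := h1.1
  exact ⟨e.isSimpleGroup, by rw [Nat.card_congr e.toEquiv]; exact h1.2⟩

/-- the recognition of `McL` by `2.A₈` -/
theorem hMcL : AltEnd.HMcL.{u} := fun _ _ _ _ _ _ h hfus =>
  isMcL_of_iso (McLType.Final.isoMcL h hfus)

end Cfsg.Agent.CoverCore.InstMcL
end

-- part: CoverCore/InstNine
section
/-!
# `HNine`
-/

set_option autoImplicit false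

open Cfsg Subgroup

universe u

namespace Cfsg.Agent.CoverCore.InstNine

/-- no involution centraliser `2.A₉` with a non-isolated involution -/
theorem hNine : AltEnd.HNine.{u} := by
  intro G _ _ t ht π h hfus
  obtain ⟨g, hg1, hg2⟩ := hfus
  have tt : t * t = 1 := congrArg Subtype.val h.z_mul
  have t1 : t ≠ 1 := fun h1 => h.z_ne (Subtype.ext h1)
  refine SporRec.TwoNine.Main.nine_ten (Or.inl rfl) h (u := g * t * g⁻¹) ?_ ?_ hg1 hg2 ⟨g, rfl⟩
  · calc g * t * g⁻¹ * (g * t * g⁻¹) = g * (t * t) * g⁻¹ := by group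
      _ = 1 := by rw [tt]; group
  · intro h1
    apply t1
    calc t = g⁻¹ * (g * t * g⁻¹) * g := by group
      _ = 1 := by rw [h1]; group

end Cfsg.Agent.CoverCore.InstNine
end

-- part: CoverCore/InstSF
section
/-!
# `SFT`
-/

set_option autoImplicit false

open Cfsg Subgroup

universe u

namespace Cfsg.Agent.CoverCore.InstSF

end Cfsg.Agent.CoverCore.InstSF
end

-- part: CoverCore/Discharge
section
/-!
# The hypotheses of `LFourB.McLEnd.main` (heavy imports; only for the final file)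
-/

set_option autoImplicit false

universe u

namespace Cfsg.Agent.CoverCore.Discharge

end Cfsg.Agent.CoverCore.Discharge
end

-- part: LFour/BFiveFull
section
/-!
# Statement S0510: the external theorems of the branch `q = 5 mod 8`, complete
-/

set_option autoImplicit false

namespace Cfsg.Agent.LFour.BFiveFull

open Subgroup Cfsg
open Cfsg.Agent.LFourB StepEight BFive

universe u

/-- S0509 -/
theorem h509 : KTenMain.H509.{u} := fun _ _ _ _ _ _ _ hF S P hS => Cfsg.Agent.S0509.result hF S P hS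

/-- S1179 -/
theorem timm (L : Type u) [Group L] [Finite L] [IsSimpleGroup L] (hL : ¬ IsMulCommutative L) : Timm L :=
  fun A h1 h2 h3 => Cfsg.Agent.S1179.result hL A h1 h2 h3

/-- **All external theorems of the branch.** -/
theorem ext : Ext.{u} :=
  BFiveExt.ext CoverCore.InstMcL.hMcL CoverCore.InstNine.hNine h509 timm

end Cfsg.Agent.LFour.BFiveFull
end

-- part: LFour/ExtMain
section
/-!
# S0510: the branches A1, A2, B5 with their external theorems
-/

set_option autoImplicit false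

namespace Cfsg.Agent.LFour.ExtMain

open Subgroup Cfsg

universe u v

/-- S0205 -/
theorem ft : LFourA.AltZ9.FT.{u} := fun _ _ _ h => Cfsg.Agent.S0205.result h

/-- the commutator theorem for strongly closed 2-subgroups -/
theorem commThm : LFourA.AltFive.CommThm.{u} :=
  fun _ _ _ P A B h hA hB => Cfsg.Agent.TwoFusion.ClosedCommutator.commutator_le P A B h hA hB

/-- S0483 -/
theorem gw : LFourA.AltFinal.GWPerf.{u} := fun _ _ _ _ S n hn hS => Cfsg.Agent.S0483.result S n hn hS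

/-- S0484 -/
theorem h484 (F : Type) [Field F] [Fintype F] : LFourR.St484.{u, 0} F :=
  fun _ _ _ _ hF Z _ hc ho t ht hC => Cfsg.Agent.S0484.result hF Z hc ho t ht hC

/-- S0485 -/
theorem h485 (K : Type) [Field K] [Fintype K] (q : ℕ) : LFourR.St485.{u, 0} K q :=
  fun _ _ _ _ hq hF Z _ hc ho t ht hC => Cfsg.Agent.S0485.result q hq hF Z hc ho t ht hC

/-- **Branch A1.** -/
theorem branchA1 : BranchA1LU.{u} :=
  branchA1LU commThm gw (fun F => h484 F) (fun K _ _ q => h485 K q) (fun G => RecAA.recAA G)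

/-- **Branch A2.** -/
theorem branchA2 : BranchA2A.{u} := LFourA.AltBranch.branchA2A ft commThm gw

/-- **Branch B5** from the pattern of `PSL_4`, `PSU_4`. -/
theorem branchB5_of (h : BFive.PatTwo.{u}) : BranchB5R.{u} := BFive.branchB5R BFiveFull.ext h

end Cfsg.Agent.LFour.ExtMain
end

private theorem dce_887af33c5482 : _root_.True := by
  try have : _root_.True := by simp only [_root_.Cfsg.Agent.LFourR.CloseA.four.congr_simp]
  exact _root_.True.intro
end
end
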