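import Cfsg.Agent.LFourB.RCon_m3
import Mathlib
import Cfsg.Agent.LFourB.RBStd_m3
import Cfsg.Agent.LFourB.RBSix_m3
import Cfsg.Prelude.Def_CaseTheorems
import Cfsg.Agent.Lib.GoldschmidtFusion
import Cfsg.Agent.Lib.EssentialFusion
import Cfsg.Agent.Transfer.Residual
import Cfsg.Agent.Lib.FastPerm
import Cfsg.Agent.Classification.IdU.Gen
import Cfsg.Agent.Classification.RankOneCore
import Cfsg.Agent.LFourB.RelExt
import Cfsg.Agent.Lib.PSL2Inv
import Cfsg.Agent.GH.Q2.ModelSp4_m3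
import Cfsg.Agent.TwoFusion.PerfCore
import Cfsg.Agent.ClassicalGeometry.PSL2Basic
import Cfsg.Agent.LThreeModel.SU3_m3
import Cfsg.Agent.TwoFusion.ClosedZ_m3
import Cfsg.Agent.LFourA.KlGlue_m3
import Cfsg.Agent.LFourB.FixQuat
import Cfsg.Agent.Lib.SylowNormalInf
import Cfsg.Agent.S0243
import Cfsg.Agent.S0280
import Cfsg.Agent.SectRankFour.AutAlt
import Cfsg.Agent.SylowSp4.QuatId
import Cfsg.Agent.LFourA.LCent_mg_m3
import Cfsg.Agent.LFour.ExtMain
import Cfsg.Agent.LFourB.MathieuFus_m3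
import Cfsg.Agent.S0509
import Cfsg.Agent.S0523
import Cfsg.Agent.FastGrp
import Cfsg.Agent.Prune
set_option linter.all false

section
prune_inst 0x7fbcbcf9afb8addfdfff7e7fffd9dffdf9bcdfffffdffbcbffe06befafdf230e19e5fb8d1de058ff4ee2e2b630b87813f9ffceffea6bdc7ffffd5ff45ffbee1fe5f7bd8851d688340fbc2fff0bf0778e7f3fffffffffffffffffffffffffffbeffffffffffff

-- part: LFourB/KTransE_mg
section
prune_inst 0x40420200441000200000000004000200412000000000000010801040004880e000002082088200001400008040030004000000050000000000000000001180080802040000200010404000f001084000000000000000000000000000000000000000000000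
set_option linter.all false
open scoped Cfsg.Agent.FastGrp

-- part: LFourB/KTrans
section
/-!
# S0510, type B1: a 3-element normalising an elementary abelian group of order 16

`exists_trans`: there are commuting involutions `x ∈ T sg`, `y ∈ T w` and a 3-element `n ∈ N(T)` with
`n : z1 → z2 → z3 → z1`, `n : x → y → x y → x`.
-/

set_option autoImplicit false

namespace Cfsg.Agent.LFourB.KTrans

open Subgroup FusA EF Cfsg.Agent.Transfer.FusionBasic

/-! ### The Klein four-group -/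

/-- The elements of the normal four-group of `Perm (Fin 4)`. -/
def IsV (σ : Equiv.Perm (Fin 4)) : Prop := σ = 1 ∨ (σ * σ = 1 ∧ ∀ i, σ i ≠ i)

instance : DecidablePred IsV := fun σ => by unfold IsV; infer_instance

/-- The 3-cycle `(1 2 3)`. -/
def ro : Equiv.Perm (Fin 4) := Equiv.swap (1 : Fin 4) 2 * Equiv.swap (2 : Fin 4) 3

set_option maxRecDepth 100000 in
theorem IsV.mul : ∀ σ τ, IsV σ → IsV τ → IsV (σ * τ) := by (delta Cfsg.Agent.LFourB.KTrans.IsV; set_option synthInstance.maxSize 9000 in open scoped Cfsg.Agent.Lib.FastPerm in decide +kernel)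
set_option maxRecDepth 100000 in
theorem IsV.inv : ∀ σ, IsV σ → IsV σ⁻¹ := by (delta Cfsg.Agent.LFourB.KTrans.IsV; set_option synthInstance.maxSize 9000 in open scoped Cfsg.Agent.Lib.FastPerm in decide +kernel)
set_option maxRecDepth 100000 in
theorem IsV.conj : ∀ ρ σ, IsV σ → IsV (ρ * σ * ρ⁻¹) := by (delta Cfsg.Agent.LFourB.KTrans.IsV; set_option synthInstance.maxSize 9000 in open scoped Cfsg.Agent.Lib.FastPerm in decide +kernel)
theorem isV_one : IsV 1 := Or.inl rfl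
set_option maxRecDepth 100000 in
theorem isV_cases : ∀ σ, IsV σ → σ = d8 false false false ∨ σ = d8 true true false ∨ σ = d8 false false true ∨
    σ = d8 true true true := by (delta Cfsg.Agent.LFourB.KTrans.IsV; set_option synthInstance.maxSize 9000 in open scoped Cfsg.Agent.Lib.FastPerm in decide +kernel)
theorem isV_sq : ∀ σ, IsV σ → σ * σ = 1 := by
  intro σ hσ
  rcases hσ with rfl | h
  · rfl
  · exact h.1

theorem ro_cube : ro ^ 3 = 1 := by decide
theorem ro_sg : ro * d8 true true false * ro⁻¹ = d8 false false true := by decide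
theorem ro_sgw : ro * d8 true true true * ro⁻¹ = d8 true true false := by decide
theorem sg_w : d8 true true false * d8 false false true = d8 true true true := by decide

theorem ro_pow {j : ℕ} (hj : j % 3 = 1) : ro ^ j = ro := by
  have h1 : j = 3 * (j / 3) + 1 := by omega
  rw [h1, pow_add, pow_mul, ro_cube, one_pow, one_mul, pow_one]

/-! ### The pairs -/

section Pairs

variable (m : ℕ)

/-- The coordinates of the pairs. -/
def AA : AddSubgroup ((R m × R m × R m) × (R m × R m × R m)) where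
  carrier := {v | Good v.1.1 v.1.2.1 v.1.2.2 ∧ Good v.2.1 v.2.2.1 v.2.2.2 ∧ 2 * v.1.2.2 + v.1.1 - v.1.2.1 = 0 ∧
    v.2.2.1 = -v.2.1 ∧ v.1.1 - v.1.2.1 = 2 * v.2.1}
  zero_mem' := by
    refine ⟨Good.zero, Good.zero, ?_, ?_, ?_⟩ <;> simp only [_root_.Prod.fst_zero, _root_.Prod.snd_zero, _root_.MulZeroClass.mul_zero, _root_.add_zero, _root_.sub_self, _root_.neg_zero]
  add_mem' := by
    rintro ⟨⟨a, b, c⟩, d, e, g⟩ ⟨⟨a', b', c'⟩, d', e', g'⟩ ⟨h1, h2, h3, h4, h5⟩ ⟨k1, k2, k3, k4, k5⟩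
    refine ⟨h1.add k1, h2.add k2, ?_, ?_, ?_⟩
    · change 2 * (c + c') + (a + a') - (b + b') = 0
      linear_combination h3 + k3
    · change e + e' = -(d + d')
      linear_combination h4 + k4
    · change a + a' - (b + b') = 2 * (d + d')
      linear_combination h5 + k5
  neg_mem' := by
    rintro ⟨⟨a, b, c⟩, d, e, g⟩ ⟨h1, h2, h3, h4, h5⟩
    refine ⟨h1.neg, h2.neg, ?_, ?_, ?_⟩
    · change 2 * -c + -a - -b = 0
      linear_combination -h3
    · change -e = - -d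
      linear_combination -h4
    · change -a - -b = 2 * -d
      linear_combination -h5

theorem not_three_dvd : ¬ 3 ∣ Nat.card (AA m) := by
  intro h3
  have h1 : Nat.card (AA m) ∣ Nat.card ((R m × R m × R m) × (R m × R m × R m)) :=
    AddSubgroup.card_addSubgroup_dvd_card (AA m)
  have h2 : Nat.card ((R m × R m × R m) × (R m × R m × R m)) = 2 ^ (6 * (m + 3)) := by
    simp only [Nat.card_prod, card_R]
    ring
  rw [h2] at h1
  have h4 := Nat.Prime.dvd_of_dvd_pow Nat.prime_three (h3.trans h1)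
  omega

end Pairs

variable {G : Type*} [Group G] {m : ℕ} {f : R m → R m → R m → G} {u w : G}

/-- Commuting involutions over `sg` and `w`. -/
def Pr (f : R m → R m → R m → G) (u w : G) (v : G × G) : Prop :=
  Ov f (sg u w) v.1 ∧ Ov f w v.2 ∧ v.1 * v.1 = 1 ∧ v.2 * v.2 = 1 ∧ v.1 * v.2 = v.2 * v.1

section

variable {S : Subgroup G}

theorem pr_iff (h : BOne S m f u w) {p q r p' q' r' : R m} (hg : Good p q r) (hg' : Good p' q' r') :
    Pr f u w (f p q r * sg u w, f p' q' r' * w) ↔ 2 * r + p - q = 0 ∧ q' = -p' ∧ p - q = 2 * p' := by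
  have h1 : f p q r * sg u w * (f p' q' r' * w) = f (p - p') (q - q') (r + r' + p' - q') * (sg u w * w) := by
    rw [mul_assoc, ← mul_assoc (sg u w), h.sg_f hg', mul_assoc (f (-p') (-q') (r' + p' - q')), ← mul_assoc,
      h.f_mul _ _ _ _ _ _ hg hg'.actsg]
    congr 2 <;> ring
  have h2 : f p' q' r' * w * (f p q r * sg u w) = f (p' + q) (q' + p) (r' - r) * (sg u w * w) := by
    rw [mul_assoc, ← mul_assoc w, h.w_f _ _ _ hg, mul_assoc (f q p (-r)), ← mul_assoc,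
      h.f_mul _ _ _ _ _ _ hg' hg.actw, h.w_mul_sg]
    congr 2
    ring
  have hga : Good (p - p') (q - q') (r + r' + p' - q') := by
    have := hg.add hg'.actsg
    have e1 : p + -p' = p - p' := by ring
    have e2 : q + -q' = q - q' := by ring
    have e3 : r + (r' + p' - q') = r + r' + p' - q' := by ring
    rwa [e1, e2, e3] at this
  have hgb : Good (p' + q) (q' + p) (r' - r) := by
    have := hg'.add hg.actw
    have e3 : r' + -r = r' - r := by ring
    rwa [e3] at this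
  constructor
  · rintro ⟨-, -, h3, h4, h5⟩
    have h6 := (h.e_sq_sg_iff hg).1 h3
    have h7 := (h.e_sq_w_iff hg').1 h4
    refine ⟨h6, h7, ?_⟩
    have h8 : f p q r * sg u w * (f p' q' r' * w) = f p' q' r' * w * (f p q r * sg u w) := h5
    rw [h1, h2] at h8
    have h9 := (h.f_eq_iff hga hgb).1 (mul_right_cancel h8)
    linear_combination h9.1
  · rintro ⟨h3, h4, h5⟩
    refine ⟨⟨p, q, r, hg, rfl⟩, ⟨p', q', r', hg', rfl⟩, (h.e_sq_sg_iff hg).2 h3, (h.e_sq_w_iff hg').2 h4, ?_⟩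
    change f p q r * sg u w * (f p' q' r' * w) = f p' q' r' * w * (f p q r * sg u w)
    rw [h1, h2]
    congr 2
    · linear_combination h5
    · linear_combination -h5 - 2 * h4
    · linear_combination h3 - h4 - h5

/-- The number of pairs is prime to 3. -/
theorem not_three_dvd_pr (h : BOne S m f u w) : ¬ 3 ∣ Nat.card {v : G × G // Pr f u w v} := by
  have key : ∀ v : AA m, Pr f u w (f v.1.1.1 v.1.1.2.1 v.1.1.2.2 * sg u w, f v.1.2.1 v.1.2.2.1 v.1.2.2.2 * w) := by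
    rintro ⟨v, h1, h2, h3, h4, h5⟩
    exact (pr_iff h h1 h2).2 ⟨h3, h4, h5⟩
  let F : AA m → {v : G × G // Pr f u w v} := fun v => ⟨_, key v⟩
  have hF : Function.Bijective F := by
    constructor
    · rintro ⟨⟨⟨a, b, c⟩, d, e, g⟩, h1, h2, h3, h4, h5⟩ ⟨⟨⟨a', b', c'⟩, d', e', g'⟩, k1, k2, k3, k4, k5⟩ hab
      have e1 : (f a b c * sg u w, f d e g * w) = (f a' b' c' * sg u w, f d' e' g' * w) := congrArg Subtype.val hab
      rw [Prod.mk.injEq] at e1
      obtain ⟨e2, e3⟩ := e1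
      obtain ⟨rfl, rfl, rfl⟩ := (h.f_eq_iff h1 k1).1 (mul_right_cancel e2)
      obtain ⟨rfl, rfl, rfl⟩ := (h.f_eq_iff h2 k2).1 (mul_right_cancel e3)
      rfl
    · rintro ⟨⟨x, y⟩, hxy⟩
      obtain ⟨⟨p, q, r, hg, hx⟩, ⟨p', q', r', hg', hy⟩, -⟩ := id hxy
      have hx' : x = f p q r * sg u w := hx
      have hy' : y = f p' q' r' * w := hy
      subst hx' hy'
      obtain ⟨h3, h4, h5⟩ := (pr_iff h hg hg').1 hxy
      exact ⟨⟨((p, q, r), (p', q', r')), hg, hg', h3, h4, h5⟩, rfl⟩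
  rw [← Nat.card_eq_of_bijective F hF]
  exact not_three_dvd m

end

/-! ### The action -/

/-- `n` acts on the `X i` as `σ`. -/
def Acts (f : R m → R m → R m → G) (n : G) (σ : Equiv.Perm (Fin 4)) : Prop := ∀ i, n * X f i * n⁻¹ = X f (σ i)

theorem Acts.mul {a b : G} {σ τ : Equiv.Perm (Fin 4)} (ha : Acts f a σ) (hb : Acts f b τ) :
    Acts f (a * b) (σ * τ) := by
  intro i
  rw [Equiv.Perm.mul_apply, ← ha, ← hb]; group

theorem Acts.one : Acts f (1 : G) 1 := fun i => by simp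

theorem Acts.inv {a : G} {σ : Equiv.Perm (Fin 4)} (ha : Acts f a σ) : Acts f a⁻¹ σ⁻¹ := by
  intro i
  have h1 := ha (σ⁻¹ i)
  have h2 : σ (σ⁻¹ i) = i := by simp
  rw [h2] at h1
  rw [← h1]; group

theorem Acts.pow {a : G} {σ : Equiv.Perm (Fin 4)} (ha : Acts f a σ) (j : ℕ) : Acts f (a ^ j) (σ ^ j) := by
  induction j with
  | zero => rw [pow_zero, pow_zero]; exact Acts.one
  | succ j ih => rw [pow_succ, pow_succ]; exact ih.mul ha

/-- The elements of `N(T)` acting as elements of the four-group. -/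
def KV (f : R m → R m → R m → G) : Subgroup G where
  carrier := {n | n ∈ normalizer (Tor f : Set G) ∧ ∃ σ, IsV σ ∧ Acts f n σ}
  mul_mem' := by
    rintro a b ⟨ha, σ, hσ, hσ'⟩ ⟨hb, τ, hτ, hτ'⟩
    exact ⟨mul_mem ha hb, σ * τ, IsV.mul _ _ hσ hτ, hσ'.mul hτ'⟩
  one_mem' := ⟨one_mem _, 1, isV_one, Acts.one⟩
  inv_mem' := by
    rintro a ⟨ha, σ, hσ, hσ'⟩
    exact ⟨inv_mem ha, σ⁻¹, IsV.inv _ hσ, hσ'.inv⟩

theorem KV_le : KV f ≤ normalizer (Tor f : Set G) := fun _ h => h.1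

section

variable [Finite G] {P : Sylow 2 G}

theorem norm_KV (h : BOne (P : Subgroup G) m f u w) : normalizer (Tor f : Set G) ≤ normalizer (KV f : Set G) := by
  intro n hn
  refine mem_normalizer_of_conj_mem ?_
  rintro a ⟨ha, σ, hσ, hσ'⟩
  obtain ⟨τ, hτ⟩ := exists_perm h.e_sf hn
  have hτ' : Acts f n τ := hτ
  exact ⟨mul_mem (mul_mem hn ha) (inv_mem hn), τ * σ * τ⁻¹, IsV.conj _ _ hσ, (hτ'.mul hσ').mul hτ'.inv⟩

omit [Finite G] in
theorem acts_pi (h : BOne (P : Subgroup G) m f u w) (s : (P : Subgroup G)) : Acts f (s : G) (h.pi s) := h.pi_spec s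

theorem P_le (h : BOne (P : Subgroup G) m f u w) : (P : Subgroup G) ≤ normalizer (Tor f : Set G) := by
  intro s hs
  exact mem_normalizer_of_conj_mem fun t ht => h.e_S_norm s hs t ht

theorem mem_KV (h : BOne (P : Subgroup G) m f u w) {s : G} (hs : s ∈ (P : Subgroup G))
    (hV : IsV (h.pi ⟨s, hs⟩)) : s ∈ KV f := ⟨P_le h hs, _, hV, acts_pi h ⟨s, hs⟩⟩

/-- An element of `P` inducing a given element of the four-group. -/
theorem exists_V (h : BOne (P : Subgroup G) m f u w) {σ : Equiv.Perm (Fin 4)} (hσ : IsV σ) :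
    ∃ s ∈ (P : Subgroup G) ⊓ KV f, Acts f s σ := by
  have key : ∀ (s : G) (hs : s ∈ (P : Subgroup G)), h.pi ⟨s, hs⟩ = σ → ∃ s ∈ (P : Subgroup G) ⊓ KV f, Acts f s σ := by
    intro s hs e
    exact ⟨s, ⟨hs, mem_KV h hs (by rw [e]; exact hσ)⟩, by rw [← e]; exact acts_pi h ⟨s, hs⟩⟩
  rcases isV_cases σ hσ with e | e | e | e
  · exact key 1 (one_mem _) (by
      have : (⟨1, one_mem _⟩ : (P : Subgroup G)) = 1 := rfl
      rw [this, map_one, e]; decide)
  · exact key _ h.sg_mem (by rw [h.e_pi_sg, e])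
  · exact key _ h.w_mem (by rw [h.e_pi_w', e])
  · exact key _ h.sgw_mem (by rw [h.e_pi_sgw, e])

/-- **(S1)**: a 3-element of `N(T) ∩ N(T V)` inducing `(1 2 3)`. -/
theorem exists_three (h : BOne (P : Subgroup G) m f u w) (hz : ∃ g : G, g * z1 f * g⁻¹ = z2 f) :
    ∃ n ∈ normalizer (Tor f : Set G), (∃ k, n ^ 3 ^ k = 1) ∧ Acts f n ro ∧
      n ∈ normalizer (((P : Subgroup G) ⊓ KV f : Subgroup G) : Set G) := by
  have hsyl : SylIn 2 ((P : Subgroup G) ⊓ KV f) (KV f) := by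
    have h1 : SylIn 2 (P : Subgroup G) (normalizer (Tor f : Set G)) := by
      refine ⟨P_le h, P.2, fun R hPR _ hR => ?_⟩
      exact P.3 hR hPR
    exact h1.inf KV_le (norm_KV h)
  obtain ⟨n0, hn0, hn0'⟩ := h.fus_perm hz ro
  obtain ⟨k, hk, hkn⟩ := hsyl.frattini (norm_KV h) hn0
  obtain ⟨hkT, σ, hσ, hkσ⟩ := hk
  obtain ⟨s, hs, hsσ⟩ := exists_V h hσ
  have h2 : Acts f (s * (k * n0)) ro := by
    have h3 := hsσ.mul (hkσ.mul (show Acts f n0 ro from hn0'))
    rwa [← mul_assoc σ, isV_sq σ hσ, one_mul] at h3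
  have h3 : s * (k * n0) ∈ normalizer (Tor f : Set G) := mul_mem (P_le h hs.1) (mul_mem hkT hn0)
  have h4 : s * (k * n0) ∈ normalizer (((P : Subgroup G) ⊓ KV f : Subgroup G) : Set G) :=
    mul_mem (le_normalizer hs) hkn
  set n2 := s * (k * n0) with hn2
  obtain ⟨a, b, hb, hab⟩ := Nat.exists_eq_pow_mul_and_not_dvd (n := orderOf n2) (orderOf_pos n2).ne' 3 (by norm_num)
  refine ⟨n2 ^ (b * b), pow_mem h3 _, ⟨a, ?_⟩, ?_, pow_mem h4 _⟩
  · rw [← pow_mul]
    refine orderOf_dvd_iff_pow_eq_one.1 ?_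
    rw [hab]
    exact ⟨b, by ring⟩
  · have h5 := h2.pow (b * b)
    rwa [ro_pow] at h5
    rw [Nat.mul_mod]
    have : b % 3 = 1 ∨ b % 3 = 2 := by omega
    rcases this with e | e <;> rw [e]

omit [Finite G] in
theorem ov_of_acts (h : BOne (P : Subgroup G) m f u w) {s d : G} (hs : s ∈ (P : Subgroup G))
    (hd : d ∈ (P : Subgroup G)) (e : Acts f s (h.pi ⟨d, hd⟩)) : Ov f d s :=
  h.e_over_of_pi hs hd (h.pi_eq e)

/-- Elements of a coset of `V` are mapped into the corresponding coset. -/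
theorem ov_conj (h : BOne (P : Subgroup G) m f u w) {n : G} (hn : Acts f n ro)
    (hnD : n ∈ normalizer (((P : Subgroup G) ⊓ KV f : Subgroup G) : Set G)) {d d' : G} (hd : d ∈ (P : Subgroup G))
    (hd' : d' ∈ (P : Subgroup G)) (hV : IsV (h.pi ⟨d, hd⟩)) (e : ro * h.pi ⟨d, hd⟩ * ro⁻¹ = h.pi ⟨d', hd'⟩) {x : G}
    (hx : Ov f d x) : Ov f d' (n * x * n⁻¹) := by
  have hxP : x ∈ (P : Subgroup G) := h.e_mem_S_of_Ov hd hx
  have hpx : h.pi ⟨x, hxP⟩ = h.pi ⟨d, hd⟩ := h.e_pi_of_Ov hd hxP hx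
  have h1 : x ∈ (P : Subgroup G) ⊓ KV f := ⟨hxP, mem_KV h hxP (by rw [hpx]; exact hV)⟩
  have h2 := (mem_normalizer_iff.1 hnD x).1 h1
  refine ov_of_acts h h2.1 hd' ?_
  rw [← e, ← hpx]
  exact (hn.mul (acts_pi h ⟨x, hxP⟩)).mul hn.inv

/-- The induced map on the pairs. -/
def ph (n : G) (v : G × G) : G × G := (n * (v.1 * v.2) * n⁻¹, n * v.1 * n⁻¹)

theorem pr_ph (h : BOne (P : Subgroup G) m f u w) {n : G} (hn : Acts f n ro)
    (hnD : n ∈ normalizer (((P : Subgroup G) ⊓ KV f : Subgroup G) : Set G)) {v : G × G} (hv : Pr f u w v) :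
    Pr f u w (ph n v) := by
  obtain ⟨x, y⟩ := v
  obtain ⟨h1, h2, h3, h4, h5⟩ := hv
  change Ov f (sg u w) x at h1
  change Ov f w y at h2
  change x * x = 1 at h3
  change y * y = 1 at h4
  change x * y = y * x at h5
  have hxP : x ∈ (P : Subgroup G) := h.e_mem_S_of_Ov h.sg_mem h1
  have hyP : y ∈ (P : Subgroup G) := h.e_mem_S_of_Ov h.w_mem h2
  have h6 : Ov f (sgw u w) (x * y) := by
    refine h.e_over_of_pi (mul_mem hxP hyP) h.sgw_mem ?_
    have e1 : (⟨x * y, mul_mem hxP hyP⟩ : (P : Subgroup G)) = ⟨x, hxP⟩ * ⟨y, hyP⟩ := rfl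
    rw [e1, map_mul, h.e_pi_of_Ov h.sg_mem hxP h1, h.e_pi_of_Ov h.w_mem hyP h2, h.e_pi_sg, h.e_pi_w', h.e_pi_sgw, sg_w]
  refine ⟨?_, ?_, ?_, ?_, ?_⟩
  · refine ov_conj h hn hnD h.sgw_mem h.sg_mem ?_ ?_ h6
    · rw [h.e_pi_sgw]; decide +kernel
    · rw [h.e_pi_sgw, h.e_pi_sg, ro_sgw]
  · refine ov_conj h hn hnD h.sg_mem h.w_mem ?_ ?_ h1
    · rw [h.e_pi_sg]; decide +kernel
    · rw [h.e_pi_sg, h.e_pi_w', ro_sg]
  · change n * (x * y) * n⁻¹ * (n * (x * y) * n⁻¹) = 1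
    calc n * (x * y) * n⁻¹ * (n * (x * y) * n⁻¹) = n * (x * (y * x) * y) * n⁻¹ := by group
      _ = n * ((x * x) * (y * y)) * n⁻¹ := by rw [← h5]; group
      _ = 1 := by rw [h3, h4]; group
  · change n * x * n⁻¹ * (n * x * n⁻¹) = 1
    calc n * x * n⁻¹ * (n * x * n⁻¹) = n * (x * x) * n⁻¹ := by group
      _ = 1 := by rw [h3]; group
  · change n * (x * y) * n⁻¹ * (n * x * n⁻¹) = n * x * n⁻¹ * (n * (x * y) * n⁻¹)
    calc n * (x * y) * n⁻¹ * (n * x * n⁻¹) = n * (x * (y * x)) * n⁻¹ := by group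
      _ = n * x * n⁻¹ * (n * (x * y) * n⁻¹) := by rw [← h5]; group

omit [Finite G] in
theorem ph_three (n : G) {c : G} (hc : c = n * n * n) {v : G × G} (hv : Pr f u w v) :
    ph n (ph n (ph n v)) = (c * v.1 * c⁻¹, c * v.2 * c⁻¹) := by
  subst hc
  obtain ⟨x, y⟩ := v
  obtain ⟨-, -, h3, h4, h5⟩ := hv
  change x * x = 1 at h3
  change y * y = 1 at h4
  change x * y = y * x at h5
  have e1 : x * y * x = y := by rw [h5, mul_assoc, h3, mul_one]
  have e2 : y * (x * y) = x := by rw [h5, ← mul_assoc, h4, one_mul]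
  refine Prod.ext ?_ ?_
  · change n * (n * (n * (x * y) * n⁻¹ * (n * x * n⁻¹)) * n⁻¹ * (n * (n * (x * y) * n⁻¹) * n⁻¹)) * n⁻¹ = _
    calc n * (n * (n * (x * y) * n⁻¹ * (n * x * n⁻¹)) * n⁻¹ * (n * (n * (x * y) * n⁻¹) * n⁻¹)) * n⁻¹
        = n * n * n * ((x * y * x) * (x * y)) * (n * n * n)⁻¹ := by group
      _ = _ := by rw [e1, e2]
  · change n * (n * (n * (x * y) * n⁻¹ * (n * x * n⁻¹)) * n⁻¹) * n⁻¹ = _
    calc n * (n * (n * (x * y) * n⁻¹ * (n * x * n⁻¹)) * n⁻¹) * n⁻¹ = n * n * n * (x * y * x) * (n * n * n)⁻¹ := by group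
      _ = _ := by rw [e1]

/-- A pair permuted cyclically by `n`. -/
theorem exists_pair (h : BOne (P : Subgroup G) m f u w) {n : G} (hn : Acts f n ro) {k : ℕ} (hk : n ^ 3 ^ k = 1)
    (hnD : n ∈ normalizer (((P : Subgroup G) ⊓ KV f : Subgroup G) : Set G)) :
    ∃ v, Pr f u w v ∧ ph n v = v := by
  have : Fact (Nat.Prime 3) := ⟨Nat.prime_three⟩
  let α := {v : G × G // Pr f u w v}
  let F : α → α := fun v => ⟨ph n v.1, pr_ph h hn hnD v.2⟩
  obtain ⟨c, hc⟩ : ∃ c, c = n * n * n := ⟨_, rfl⟩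
  have hF3 : ∀ v : α, (F (F (F v))).1 = (c * v.1.1 * c⁻¹, c * v.1.2 * c⁻¹) :=
    fun v => ph_three n hc v.2
  have hinj : Function.Injective F := by
    intro a b hab
    have h1 : F (F (F a)) = F (F (F b)) := by rw [hab]
    have h2 := congrArg Subtype.val h1
    rw [hF3, hF3, Prod.mk.injEq] at h2
    exact Subtype.ext (Prod.ext (mul_left_cancel (mul_right_cancel h2.1)) (mul_left_cancel (mul_right_cancel h2.2)))
  let Φ : Equiv.Perm α := Equiv.ofBijective F (Finite.injective_iff_bijective.1 hinj)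
  have hΦ3 : ∀ (j : ℕ) (v : α), ((Φ ^ (3 * j)) v).1 = (c ^ j * v.1.1 * (c ^ j)⁻¹, c ^ j * v.1.2 * (c ^ j)⁻¹) := by
    intro j
    induction j with
    | zero => intro v; simp only [_root_.MulZeroClass.mul_zero, _root_.pow_zero, _root_.Equiv.Perm.coe_one, _root_.id_eq, _root_.one_mul, _root_.inv_one, _root_.mul_one, _root_.Prod.mk.eta]
    | succ j ih =>
      intro v
      have e1 : 3 * (j + 1) = 3 * j + 3 := by ring
      have e2 : (Φ ^ 3) v = F (F (F v)) := rfl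
      rw [e1, pow_add, Equiv.Perm.mul_apply, ih, e2, hF3, pow_succ c]
      refine Prod.ext ?_ ?_
      · change c ^ j * (c * v.1.1 * c⁻¹) * (c ^ j)⁻¹ = c ^ j * c * v.1.1 * (c ^ j * c)⁻¹
        rw [mul_inv_rev]; simp only [mul_assoc]
      · change c ^ j * (c * v.1.2 * c⁻¹) * (c ^ j)⁻¹ = c ^ j * c * v.1.2 * (c ^ j * c)⁻¹
        rw [mul_inv_rev]; simp only [mul_assoc]
  have hΦ : Φ ^ 3 ^ (k + 1) = 1 := by
    have e1 : 3 ^ (k + 1) = 3 * 3 ^ k := by ring
    have e2 : c ^ 3 ^ k = 1 := by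
      have e3 : c = n ^ 3 := by rw [hc, pow_succ, pow_two]
      rw [e3, ← pow_mul, mul_comm, pow_mul, hk, one_pow]
    refine Equiv.ext fun v => Subtype.ext ?_
    rw [e1, hΦ3, e2]
    simp only [_root_.one_mul, _root_.inv_one, _root_.mul_one, _root_.Prod.mk.eta, _root_.Equiv.Perm.coe_one, _root_.id_eq]
  have hp : IsPGroup 3 (zpowers Φ) := by
    rintro ⟨g, j, rfl⟩
    refine ⟨k + 1, Subtype.ext ?_⟩
    change (Φ ^ j) ^ 3 ^ (k + 1) = 1
    rw [← zpow_natCast, ← zpow_mul, mul_comm, zpow_mul, zpow_natCast, hΦ, one_zpow]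
  obtain ⟨v, hv⟩ := hp.nonempty_fixed_point_of_prime_not_dvd_card α (not_three_dvd_pr h)
  have h1 : F v = v := hv ⟨Φ, mem_zpowers Φ⟩
  exact ⟨v.1, v.2, congrArg Subtype.val h1⟩

/-- **(S1), (S2)**: a 3-element `n ∈ N(T)` with `z1 → z2 → z3 → z1`, `x → y → x y → x`. -/
theorem exists_trans (h : BOne (P : Subgroup G) m f u w) (hz : ∃ g : G, g * z1 f * g⁻¹ = z2 f) :
    ∃ n x y : G, n ∈ normalizer (Tor f : Set G) ∧ (∃ k, n ^ 3 ^ k = 1) ∧ n * z1 f * n⁻¹ = z2 f ∧
      n * z2 f * n⁻¹ = z3 f ∧ n * z3 f * n⁻¹ = z1 f ∧ Ov f (sg u w) x ∧ Ov f w y ∧ x * x = 1 ∧ y * y = 1 ∧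
      x * y = y * x ∧ n * x * n⁻¹ = y ∧ n * y * n⁻¹ = x * y ∧ n * (x * y) * n⁻¹ = x ∧
      (∀ i, n * X f i * n⁻¹ = X f (ro i)) ∧ n ∈ normalizer (((P : Subgroup G) ⊓ KV f : Subgroup G) : Set G) := by
  obtain ⟨n, hnT, ⟨k, hk⟩, hn, hnD⟩ := exists_three h hz
  obtain ⟨⟨x, y⟩, ⟨h1, h2, h3, h4, h5⟩, hxy⟩ := exists_pair h hn hk hnD
  change Ov f (sg u w) x at h1
  change Ov f w y at h2
  change x * x = 1 at h3
  change y * y = 1 at h4
  change x * y = y * x at h5
  have e1 : n * (x * y) * n⁻¹ = x := congrArg Prod.fst hxy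
  have e2 : n * x * n⁻¹ = y := congrArg Prod.snd hxy
  have e3 : n * y * n⁻¹ = x * y := by
    have e4 : y = x * (x * y) := by rw [← mul_assoc, h3, one_mul]
    calc n * y * n⁻¹ = n * (x * (x * y)) * n⁻¹ := by rw [← e4]
      _ = (n * x * n⁻¹) * (n * (x * y) * n⁻¹) := by group
      _ = x * y := by rw [e1, e2, h5]
  have hN := two_mul_N (m := m)
  have z1e : X f 0 * X f 1 = z1 f := by
    change x1 f * x2 f = z1 f
    rw [x1, x2, z1, h.f_mul _ _ _ _ _ _ BOne.goodx1 BOne.goodx2]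
    congr 1
    · linear_combination hN
    · ring
    · ring
  have z2e : X f 0 * X f 2 = z2 f := by
    change x1 f * x3 f = z2 f
    rw [x1, x3, z2, h.f_mul _ _ _ _ _ _ BOne.goodx1 BOne.goodx3]
    congr 1 <;> ring
  have z3e : X f 0 * X f 3 = z3 f := by
    change x1 f * x4 f = z3 f
    rw [x1, x4, z3, h.f_mul _ _ _ _ _ _ BOne.goodx1 BOne.goodx4]
    congr 1 <;> ring
  have key : ∀ i j, n * (X f i * X f j) * n⁻¹ = X f (ro i) * X f (ro j) := by
    intro i j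
    rw [← hn i, ← hn j]; group
  refine ⟨n, x, y, hnT, ⟨k, hk⟩, ?_, ?_, ?_, h1, h2, h3, h4, h5, e2, e3, e1, hn, hnD⟩
  · rw [← z1e, key, ← z2e]; rfl
  · rw [← z2e, key, ← z3e]; rfl
  · rw [← z3e, key, ← z1e]; rfl

end

end Cfsg.Agent.LFourB.KTrans
end

-- part: LFourB/KTransE
section
/-!
# S0510, type B1: the elementary abelian group `E = ⟨z1, z2, x, y⟩`
-/

set_option autoImplicit false

namespace Cfsg.Agent.LFourB.KTrans

open Subgroup FusA EF Cfsg.Agent.Transfer.FusionBasic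

variable {G : Type*} [Group G] {m : ℕ} {f : R m → R m → R m → G} {u w : G}

/-- `E = ⟨z1, z2, x, y⟩` -/
def EE (f : R m → R m → R m → G) (x y : G) : Subgroup G := _root_.Subgroup.closure {z1 f, z2 f, x, y}

/-- `H = ⟨z1, z2, x⟩` -/
def HH (f : R m → R m → R m → G) (x : G) : Subgroup G := _root_.Subgroup.closure {z1 f, z2 f, x}

theorem HH_le {x y : G} : HH f x ≤ EE f x y := by
  apply Subgroup.closure_mono
  rintro g (h | h | h)
  · exact Or.inl h
  · exact Or.inr (Or.inl h)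
  · exact Or.inr (Or.inr (Or.inl h))

section

variable {S : Subgroup G}

theorem Zg_eq (h : BOne S m f u w) : h.e_Zg = _root_.Subgroup.closure {z1 f, z2 f} := by
  apply le_antisymm
  · intro c hc
    have h1 : z1 f ∈ _root_.Subgroup.closure {z1 f, z2 f} := _root_.Subgroup.subset_closure (Or.inl rfl)
    have h2 : z2 f ∈ closure {z1 f, z2 f} := _root_.Subgroup.subset_closure (Or.inr rfl)
    rcases (hc : Z2 (z1 f) (z2 f) c) with rfl | rfl | rfl | rfl
    · exact one_mem _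
    · exact h1
    · exact h2
    · exact mul_mem h1 h2
  · rw [closure_le]
    rintro c (rfl | hc)
    · exact Z2_z _ _
    · rw [Set.mem_singleton_iff.1 hc]
      exact Z2_z' _ _

theorem HH_eq (h : BOne S m f u w) (x : G) : HH f x = h.e_Zg ⊔ zpowers x := by
  rw [Zg_eq h, zpowers_eq_closure, ← Subgroup.closure_union, HH]
  congr 1
  ext g
  simp
  tauto

theorem EE_eq (h : BOne S m f u w) (x y : G) : EE f x y = HH f x ⊔ zpowers y := by
  rw [HH, zpowers_eq_closure, ← Subgroup.closure_union, EE]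
  congr 1
  ext g
  simp
  tauto

/-- The facts about `E`. -/
structure Facts (S : Subgroup G) (f : R m → R m → R m → G) (x y : G) : Prop where
  e16 : E16 S (EE f x y)
  cardH : Nat.card (HH f x) = 8
  mem_H : ∀ g, g ∈ HH f x ↔ ∃ c, Z2 (z1 f) (z2 f) c ∧ (g = c ∨ g = c * x)
  mem_E : ∀ g, g ∈ EE f x y ↔ ∃ c, Z2 (z1 f) (z2 f) c ∧ (g = c ∨ g = c * x ∨ g = c * y ∨ g = c * (x * y))

theorem facts (h : BOne S m f u w) {a b : G} (ha : Ov f (sg u w) a) (hb : Ov f w b) (haa : a * a = 1)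
    (hbb : b * b = 1) (hab : a * b = b * a) : Facts S f a b := by
  have hca : ∀ c ∈ h.e_Zg, c * a = a * c := fun c hc => h.e_Z2_comm hc (Or.inl ha)
  have hcb : ∀ c ∈ h.e_Zg, c * b = b * c := fun c hc => h.e_Z2_comm hc (Or.inr (Or.inl hb))
  have hcsq : ∀ c ∈ h.e_Zg, c * c = 1 := by
    intro c hc
    obtain ⟨p, r, hgd, hp, hr, rfl⟩ := h.e_Z2_coord hc
    exact (h.e_sq_f_iff hgd).2 ⟨hp, hp, hr⟩
  have hn1 : ∀ c ∈ h.e_Zg, a * c * a ∈ h.e_Zg := by
    intro c hc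
    rw [← hca c hc, mul_assoc, haa, mul_one]
    exact hc
  have hmem1 : ∀ g, g ∈ HH f a ↔ ∃ c ∈ h.e_Zg, g = c ∨ g = c * a := fun g => by
    rw [HH_eq h]; exact mem_sup_zpowers haa hn1
  have hb1 : ∀ g ∈ HH f a, g * b = b * g := by
    intro g hg
    obtain ⟨c, hc, rfl | rfl⟩ := (hmem1 g).1 hg
    · exact hcb _ hc
    · rw [mul_assoc, hab, ← mul_assoc, hcb c hc, mul_assoc]
  have hn2 : ∀ g ∈ HH f a, b * g * b ∈ HH f a := by
    intro g hg
    rw [← hb1 g hg, mul_assoc, hbb, mul_one]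
    exact hg
  have hmem2 : ∀ g, g ∈ EE f a b ↔ ∃ c ∈ HH f a, g = c ∨ g = c * b := fun g => by
    rw [EE_eq h]; exact mem_sup_zpowers hbb hn2
  have hsq1 : ∀ g ∈ HH f a, g * g = 1 := by
    intro g hg
    obtain ⟨c, hc, rfl | rfl⟩ := (hmem1 g).1 hg
    · exact hcsq _ hc
    · calc c * a * (c * a) = c * (a * c) * a := by group
        _ = c * (c * a) * a := by rw [hca c hc]
        _ = (c * c) * (a * a) := by group
        _ = 1 := by rw [hcsq c hc, haa, one_mul]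
  have hsq2 : ∀ g ∈ EE f a b, g * g = 1 := by
    intro g hg
    obtain ⟨c, hc, rfl | rfl⟩ := (hmem2 g).1 hg
    · exact hsq1 _ hc
    · calc c * b * (c * b) = c * (b * c) * b := by group
        _ = c * (c * b) * b := by rw [hb1 c hc]
        _ = (c * c) * (b * b) := by group
        _ = 1 := by rw [hsq1 c hc, hbb, one_mul]
  have haZ : a ∉ h.e_Zg := fun hh => h.e_not_Tor_sg ha (h.e_Zg_le hh)
  have haS : a ∈ S := h.e_mem_S_of_Ov h.sg_mem ha
  have hbS : b ∈ S := h.e_mem_S_of_Ov h.w_mem hb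
  have hbZ : b ∉ HH f a := by
    intro hh
    obtain ⟨c, hc, h1 | h1⟩ := (hmem1 b).1 hh
    · exact h.e_not_Tor_w hb (h1 ▸ h.e_Zg_le hc)
    · have h2 : (⟨b, hbS⟩ : S) = ⟨c, h.Tor_le (h.e_Zg_le hc)⟩ * ⟨a, haS⟩ := Subtype.ext h1
      have h3 := congrArg h.pi h2
      rw [map_mul, h.pi_Tor (h.e_Zg_le hc), one_mul, h.e_pi_of_Ov h.w_mem hbS hb, h.e_pi_of_Ov h.sg_mem haS ha,
        h.e_pi_w', h.e_pi_sg] at h3
      revert h3
      decide
  have hH : Nat.card (HH f a) = 8 := by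
    rw [HH_eq h, EF.card_sup_zpowers haa hn1 haZ, h.e_card_Zg]
  refine ⟨⟨?_, ?_, hsq2⟩, hH, hmem1, ?_⟩
  · rw [EE_eq h, HH_eq h]
    refine sup_le (sup_le (h.e_Zg_le.trans h.Tor_le) ?_) ?_
    · rw [zpowers_le]; exact haS
    · rw [zpowers_le]; exact hbS
  · rw [EE_eq h, EF.card_sup_zpowers hbb hn2 hbZ, hH]
  · intro g
    rw [hmem2]
    constructor
    · rintro ⟨d, hd, h1⟩
      obtain ⟨c, hc, h2⟩ := (hmem1 d).1 hd
      refine ⟨c, hc, ?_⟩
      rcases h1 with rfl | rfl <;> rcases h2 with rfl | rfl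
      · exact Or.inl rfl
      · exact Or.inr (Or.inl rfl)
      · exact Or.inr (Or.inr (Or.inl rfl))
      · exact Or.inr (Or.inr (Or.inr (mul_assoc _ _ _)))
    · rintro ⟨c, hc, rfl | rfl | rfl | rfl⟩
      · exact ⟨_, (hmem1 _).2 ⟨_, hc, Or.inl rfl⟩, Or.inl rfl⟩
      · exact ⟨_, (hmem1 _).2 ⟨_, hc, Or.inr rfl⟩, Or.inl rfl⟩
      · exact ⟨_, (hmem1 _).2 ⟨_, hc, Or.inl rfl⟩, Or.inr rfl⟩
      · exact ⟨_, (hmem1 _).2 ⟨_, hc, Or.inr rfl⟩, Or.inr (mul_assoc _ _ _).symm⟩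

end

/-- The configuration: `n` is a 3-element of `N(T)`, `z1 → z2 → z3 → z1`, `x → y → x y → x`. -/
structure Conf (P : Subgroup G) (m : ℕ) (f : R m → R m → R m → G) (u w n x y : G) : Prop where
  n_T : n ∈ normalizer (Tor f : Set G)
  n_three : ∃ k, n ^ 3 ^ k = 1
  n_z1 : n * z1 f * n⁻¹ = z2 f
  n_z2 : n * z2 f * n⁻¹ = z3 f
  n_z3 : n * z3 f * n⁻¹ = z1 f
  x_ov : Ov f (sg u w) x
  y_ov : Ov f w y
  x_x : x * x = 1
  y_y : y * y = 1
  x_y : x * y = y * x
  n_x : n * x * n⁻¹ = y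
  n_y : n * y * n⁻¹ = x * y
  n_xy : n * (x * y) * n⁻¹ = x
  n_X : ∀ i, n * X f i * n⁻¹ = X f (ro i)
  fa : Facts P f x y
  n_E : n ∈ normalizer (EE f x y : Set G)

theorem conj_le_of_gens {n : G} {s : Set G} {K : Subgroup G} (h : ∀ g ∈ s, n * g * n⁻¹ ∈ K) :
    ∀ g ∈ _root_.Subgroup.closure s, n * g * n⁻¹ ∈ K := by
  have h1 : closure s ≤ K.comap (MulAut.conj n).toMonoidHom := by
    rw [closure_le]
    intro g hg
    exact h g hg
  exact fun g hg => h1 hg

theorem exists_conf [Finite G] {P : Sylow 2 G} (h : BOne (P : Subgroup G) m f u w)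
    (hz : ∃ g : G, g * z1 f * g⁻¹ = z2 f) : ∃ n x y, Conf (P : Subgroup G) m f u w n x y := by
  obtain ⟨n, x, y, h1, h2, h3, h4, h5, h6, h7, h8, h9, h10, h11, h12, h13, h14, -⟩ := exists_trans h hz
  refine ⟨n, x, y, h1, h2, h3, h4, h5, h6, h7, h8, h9, h10, h11, h12, h13, h14, facts h h6 h7 h8 h9 h10, ?_⟩
  refine mem_normalizer_of_conj_mem (conj_le_of_gens ?_)
  have e1 : z1 f ∈ EE f x y := _root_.Subgroup.subset_closure (Or.inl rfl)
  have e2 : z2 f ∈ EE f x y := _root_.Subgroup.subset_closure (Or.inr (Or.inl rfl))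
  have e3 : x ∈ EE f x y := _root_.Subgroup.subset_closure (Or.inr (Or.inr (Or.inl rfl)))
  have e4 : y ∈ EE f x y := _root_.Subgroup.subset_closure (Or.inr (Or.inr (Or.inr rfl)))
  rintro g (rfl | rfl | rfl | hg)
  · rw [h3]; exact e2
  · rw [h4, ← h.e_z3_eq]; exact mul_mem e1 e2
  · rw [h11]; exact e4
  · rw [Set.mem_singleton_iff.1 hg, h12]; exact mul_mem e3 e4

end Cfsg.Agent.LFourB.KTrans
end

-- part: LFourB/ProdBOneMain
section
/-!
# `C(z1)` modulo its odd core in type `PSL 4 q`, `q = 1 mod 8`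

If `O^2(C(z1)) ∩ S = Q1 Q2`, then `C(z1) / O(C(z1))` has two commuting perfect subgroups `K1`, `K2` swapped by `w`, both
isomorphic to `SL(2,F)` or (only for `m = 0`) both coverings of `A7`.
-/

set_option autoImplicit false

namespace Cfsg.Agent.LFourB

open QuaternionGroup Subgroup Cfsg.Agent.SylowSp4 Cfsg.Agent.SylowSp4.Coord Cfsg.Agent.SylowSp4.Closed
open Cfsg.Agent.LFourB.ProdCent Cfsg.Agent.LFourA.Quot Cfsg.Agent.LFourA.CzCt

universe v

section

variable {G : Type*} [Group G] {m : ℕ} {f : R m → R m → R m → G} {u w : G}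

namespace BOne

variable {S : Subgroup G}

theorem z1_comm (h : BOne S m f u w) {s : G} (hs : s ∈ S) : s * z1 f = z1 f * s := by
  obtain ⟨p, q, r, hg, d, hd, rfl⟩ := h.mem_S.mp hs
  have hu : u * z1 f = z1 f * u := by
    rw [z1, h.u_f _ _ _ good1, neg_zero, add_zero]
  have hw : w * z1 f = z1 f * w := by
    rw [z1, h.w_f _ _ _ good1, neg_N]
  have hub : ub u w * z1 f = z1 f * ub u w := by
    rw [z1, h.ub_f good1, neg_zero, sub_zero]
  have hf : f p q r * z1 f = z1 f * f p q r := by rw [z1, h.f_comm hg good1]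
  have hsg : sg u w * z1 f = z1 f * sg u w := by
    rw [sg, mul_assoc, hub, ← mul_assoc, hu, mul_assoc]
  have key : d * z1 f = z1 f * d := by
    rcases hd with rfl | rfl | rfl | rfl | rfl | rfl | rfl | rfl
    · rw [mul_one, one_mul]
    · exact hu
    · exact hub
    · exact hsg
    · exact hw
    · rw [mul_assoc, hw, ← mul_assoc, hu, mul_assoc]
    · rw [mul_assoc, hw, ← mul_assoc, hub, mul_assoc]
    · change sg u w * w * z1 f = z1 f * (sg u w * w)
      rw [mul_assoc, hw, ← mul_assoc, hsg, mul_assoc]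
  rw [mul_assoc, key, ← mul_assoc, hf, mul_assoc]

theorem four_ne (_h : BOne S m f u w) : (2 : R m) ≠ 2 * (-1) := by
  intro e
  have h1 : ((4 : ℕ) : R m) = 0 := by
    push_cast
    linear_combination e
  rw [ZMod.natCast_eq_zero_iff] at h1
  have h2 := Nat.le_of_dvd (by norm_num) h1
  have h3 : 2 ^ 3 ≤ 2 ^ (m + 3) := Nat.pow_le_pow_right (by norm_num) (by omega)
  omega

theorem two_ne (_h : BOne S m f u w) : (2 : R m) ≠ 0 := by
  intro e
  have h1 : ((2 : ℕ) : R m) = 0 := by exact_mod_cast e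
  rw [ZMod.natCast_eq_zero_iff] at h1
  have h2 := Nat.le_of_dvd (by norm_num) h1
  have h3 : 2 ^ 3 ≤ 2 ^ (m + 3) := Nat.pow_le_pow_right (by norm_num) (by omega)
  omega

/-- `C_S(Q1 Q2)` is cyclic. -/
theorem cent_QQ (h : BOne S m f u w) {s : G} (hs : s ∈ S) (h1 : ∀ x ∈ Qone f u, s * x = x * s)
    (h2 : ∀ x ∈ Qtwo f u w, s * x = x * s) : ∃ c : R m, s = f 0 0 (2 * c) := by
  obtain ⟨p, q, r, hg, d, hd, rfl⟩ := h.mem_S.mp hs
  have g1 : Good (2 : R m) 0 (-1) := ⟨0, by ring⟩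
  have g2 : Good (0 : R m) 2 1 := ⟨1, by ring⟩
  have e1 : f p q r * d * f 2 0 (-1) = f 2 0 (-1) * (f p q r * d) := by
    have := h1 (f (2 * 1) 0 (-1)) (h.gen1 1)
    rwa [mul_one] at this
  have e2 : f p q r * d * f 0 2 1 = f 0 2 1 * (f p q r * d) := by
    have := h2 (f 0 (2 * 1) 1) (Subgroup.subset_closure (Or.inl ⟨1, rfl⟩))
    rwa [mul_one] at this
  have e1' : d * f 2 0 (-1) = f 2 0 (-1) * d := by
    rw [mul_assoc] at e1
    rw [← mul_assoc (f 2 0 (-1)), h.f_comm g1 hg, mul_assoc] at e1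
    exact mul_left_cancel e1
  have e2' : d * f 0 2 1 = f 0 2 1 * d := by
    rw [mul_assoc] at e2
    rw [← mul_assoc (f 0 2 1), h.f_comm g2 hg, mul_assoc] at e2
    exact mul_left_cancel e2
  have hd1 : d = 1 := by
    rcases hd with rfl | rfl | rfl | rfl | rfl | rfl | rfl | rfl
    · rfl
    · exfalso
      rw [h.u_f _ _ _ g1] at e1'
      have e3 := (h.f_eq_iff g1.actu g1).1 (mul_right_cancel e1')
      apply h.four_ne
      linear_combination -e3.1
    · exfalso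
      rw [h.ub_f g2] at e2'
      have e3 := (h.f_eq_iff g2.actub g2).1 (mul_right_cancel e2')
      apply h.four_ne
      linear_combination -e3.2.1
    · exfalso
      rw [h.sg_f g1] at e1'
      have g3 : Good (-2 : R m) (-0) (-1 + 2 - 0) := ⟨0, by ring⟩
      have e3 := (h.f_eq_iff g3 g1).1 (mul_right_cancel e1')
      apply h.four_ne
      linear_combination -e3.1
    · exfalso
      rw [h.w_f _ _ _ g1] at e1'
      have e3 := (h.f_eq_iff g1.actw g1).1 (mul_right_cancel e1')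
      exact h.two_ne e3.2.1
    · exfalso
      rw [mul_assoc, h.w_f _ _ _ g1, ← mul_assoc, h.u_f _ _ _ g1.actw, mul_assoc] at e1'
      have e3 := (h.f_eq_iff g1.actw.actu g1).1 (mul_right_cancel e1')
      exact h.two_ne e3.2.1
    · exfalso
      rw [mul_assoc, h.w_f _ _ _ g1, ← mul_assoc, h.ub_f g1.actw, mul_assoc] at e1'
      have e3 := (h.f_eq_iff g1.actw.actub g1).1 (mul_right_cancel e1')
      apply h.two_ne
      rw [← neg_eq_zero]
      exact e3.2.1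
    · exfalso
      rw [h.sgw_f g1] at e1'
      have g3 : Good (-0 : R m) (-2) (-(-1) + 0 - 2) := ⟨-1, by ring⟩
      have e3 := (h.f_eq_iff g3 g1).1 (mul_right_cancel e1')
      apply h.two_ne
      rw [← neg_eq_zero]
      exact e3.2.1
  subst hd1
  rw [mul_one] at h1 h2 ⊢
  have hp : p = 0 := by
    rw [← h.f_u_comm_iff hg]
    have e3 := h1 _ h.gen2
    have e4 : x1 f * f p q r = f p q r * x1 f := by rw [x1, h.f_comm goodx1 hg]
    have e5 : f p q r * u * x1 f = u * f p q r * x1 f := by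
      calc f p q r * u * x1 f = f p q r * (u * x1 f) := by group
        _ = u * (x1 f * f p q r) := by rw [e3]; group
        _ = u * f p q r * x1 f := by rw [e4]; group
    exact mul_right_cancel e5
  have hq : q = 0 := by
    rw [← h.f_ub_comm_iff hg]
    have e3 := h2 _ (Subgroup.subset_closure (Or.inr rfl))
    have e4 : x3 f * f p q r = f p q r * x3 f := by rw [x3, h.f_comm goodx3 hg]
    have e5 : f p q r * ub u w * x3 f = ub u w * f p q r * x3 f := by
      calc f p q r * ub u w * x3 f = f p q r * (ub u w * x3 f) := by group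
        _ = ub u w * (x3 f * f p q r) := by rw [e3]; group
        _ = ub u w * f p q r * x3 f := by rw [e4]; group
    exact mul_right_cancel e5
  subst hp hq
  obtain ⟨c, hc⟩ := hg
  have h3 : 2 * (r - 2 * c) = 0 := by linear_combination hc
  rcases eq_of_two_mul h3 with h4 | h4
  · exact ⟨c, by rw [sub_eq_zero.1 h4]⟩
  · refine ⟨c + M m, ?_⟩
    congr 1
    rw [mul_add, two_mul_M]
    linear_combination h4

end BOne

end

variable {G : Type v} [Group G] [Finite G] {m : ℕ} {f : R m → R m → R m → G} {u w : G}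

namespace BOne

theorem S_le_centralizer {S : Subgroup G} (h : BOne S m f u w) : S ≤ centralizer ({z1 f} : Set G) := by
  intro s hs
  rw [mem_centralizer_singleton_iff]
  exact h.z1_comm hs

/-- The hypotheses of `ProdCent`. -/
theorem hypG (S : Sylow 2 G) (h : BOne (S : Subgroup G) m f u w)
    (hR : (Cfsg.pResidual 2 (centralizer ({z1 f} : Set G))).map (centralizer ({z1 f} : Set G)).subtype ⊓
      (S : Subgroup G) = Qone f u ⊔ Qtwo f u w) :
    HypG S (z1 f) (m + 2) (qq f u w) (Qone f u ⊔ Qtwo f u w) where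
  T := h.tqq
  c_eq := by rw [h.qq_one_right, h.qone_z]
  le := h.S_le_centralizer
  R_eq := hR
  k2 := by omega
  perm s hs := by
    rw [h.tqq_Q1, h.tqq_Q2]
    exact h.S_conj hs

/-- **(C) + (D) + (E)**: the two factors of `C(z1) / O(C(z1))`. -/
theorem exists_factors (S : Sylow 2 G) (h : BOne (S : Subgroup G) m f u w)
    (hR : (Cfsg.pResidual 2 (centralizer ({z1 f} : Set G))).map (centralizer ({z1 f} : Set G)).subtype ⊓
      (S : Subgroup G) = Qone f u ⊔ Qtwo f u w)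
    (hPT : Hyps.ProductThm.{v}) (hGW : Hyps.GW.{v}) :
    ∃ K₁ K₂ : Subgroup (centralizer ({z1 f} : Set G) ⧸ Cfsg.oddCore (centralizer ({z1 f} : Set G))),
      (∃ (F : Type) (_ : Field F) (_ : Fintype F), Odd (Fintype.card F) ∧
        CZPL (z1 f) F (Cfsg.Agent.LFourA.Quot.pr (centralizer ({z1 f} : Set G))) K₁ K₂ (S : Subgroup G) (Qone f u) (Qtwo f u w)) ∨
      (m = 0 ∧ CZPA (z1 f) (Cfsg.Agent.LFourA.Quot.pr (centralizer ({z1 f} : Set G))) K₁ K₂ (S : Subgroup G) (Qone f u) (Qtwo f u w)) := by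
  have h1 := ProdCent.typ (h.hypG S hR) hPT hGW ⟨w, h.w_mem, by
    rw [h.tqq_Q1, h.tqq_Q2]
    exact ⟨h.w_Qone, h.w_Qtwo⟩⟩
  refine ⟨ProdCent.K1 (h.hypG S hR), ProdCent.K2 (h.hypG S hR), ?_⟩
  have e1 : (h.hypG S hR).T.Q1 = Qone f u := h.tqq_Q1
  have e2 : (h.hypG S hR).T.Q2 = Qtwo f u w := h.tqq_Q2
  rw [e1, e2] at h1
  rcases h1 with h1 | ⟨h1, h2⟩
  · exact Or.inl h1
  · exact Or.inr ⟨by omega, h2⟩

/-- Elements of `X` centralising both factors come from the cyclic group of the `f 0 0 (2 * c)`. -/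
theorem cent_cyclic (S : Sylow 2 G) (h : BOne (S : Subgroup G) m f u w) {X : Type*} [Group X]
    {p : ↥(centralizer ({z1 f} : Set G)) →* X} {K₁ K₂ : Subgroup X}
    (hcz : CZP (z1 f) p K₁ K₂ (S : Subgroup G) (Qone f u) (Qtwo f u w)) {g : X}
    (h1 : ∀ x ∈ K₁, g * x = x * g) (h2 : ∀ x ∈ K₂, g * x = x * g) :
    ∃ c : R m, ∃ hc : f 0 0 (2 * c) ∈ centralizer ({z1 f} : Set G), g = p ⟨f 0 0 (2 * c), hc⟩ := by
  obtain ⟨s, hs, h3, h4, rfl⟩ := hcz.cent g h1 h2
  obtain ⟨c, hc⟩ := h.cent_QQ hs h3 h4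
  refine ⟨c, by rw [← hc]; exact s.2, ?_⟩
  congr 1
  exact Subtype.ext hc

end BOne

end Cfsg.Agent.LFourB
end

-- part: LFourB/ClBClose
section
/-!
# Closing of type `B1`: a subgroup containing `C(z1)`, `C(x4)` and `N(T)` is the whole group
-/

set_option autoImplicit false

namespace Cfsg.Agent.LFourB

open Subgroup

variable {G : Type*} [Group G] {S : Subgroup G} {m : ℕ} {f : R m → R m → R m → G} {u w : G}

/-- `v` is `M`-conjugate to `z1` or to `x4`. -/
def Fu {G : Type*} [Group G] (M : Subgroup G) {m : ℕ} (f : R m → R m → R m → G) (v : G) : Prop :=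
  ∃ g ∈ M, g * z1 f * g⁻¹ = v ∨ g * x4 f * g⁻¹ = v

namespace Fu

theorem conj {M : Subgroup G} {v g : G} (hg : g ∈ M) (h : Fu M f v) : Fu M f (g * v * g⁻¹) := by
  obtain ⟨k, hk, h1 | h1⟩ := h
  · exact ⟨g * k, M.mul_mem hg hk, Or.inl (by rw [← h1]; group)⟩
  · exact ⟨g * k, M.mul_mem hg hk, Or.inr (by rw [← h1]; group)⟩

theorem of_conj {M : Subgroup G} {v g : G} (hg : g ∈ M) (h : Fu M f (g * v * g⁻¹)) : Fu M f v := by
  have h1 := conj (M.inv_mem hg) h
  have h2 : g⁻¹ * (g * v * g⁻¹) * g⁻¹⁻¹ = v := by group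
  rwa [h2] at h1

theorem of_eq {M : Subgroup G} {v v' g : G} (hg : g ∈ M) (h : Fu M f v) (he : g * v * g⁻¹ = v') : Fu M f v' :=
  he ▸ conj hg h

end Fu

/-- The data for the closing of type `B1`. -/
structure ClDat {G : Type*} [Group G] (S : Subgroup G) {m : ℕ} (f : R m → R m → R m → G) (u w : G) (M : Subgroup G) :
    Prop extends BOne S m f u w where
  hz : centralizer {z1 f} ≤ M
  hT : normalizer (Tor f : Set G) ≤ M
  hperm : ∀ ρ : Equiv.Perm (Fin 4), ∃ n ∈ normalizer (Tor f : Set G), ∀ i, n * X f i * n⁻¹ = X f (ρ i)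
  hcent : ∀ n ∈ normalizer (Tor f : Set G), (∀ i, n * X f i = X f i * n) → ∀ t ∈ Tor f, n * t = t * n
  hd : ∃ (d : G) (q : R m), DD f u d q

namespace ClDat

variable {M : Subgroup G}

theorem Tor_le_M (h : ClDat S f u w M) : Tor f ≤ M := le_normalizer.trans h.hT

theorem S_le_M (h : ClDat S f u w M) : S ≤ M := h.S_le_normalizer.trans h.hT

theorem fu_z1 : Fu M f (z1 f) := ⟨1, M.one_mem, Or.inl (by group)⟩

theorem fu_x4 : Fu M f (x4 f) := ⟨1, M.one_mem, Or.inr (by group)⟩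

theorem fu_X (h : ClDat S f u w M) (i : Fin 4) : Fu M f (X f i) := by
  obtain ⟨n, hn, h1⟩ := h.hperm (Equiv.swap 3 i)
  have h2 := h1 3
  rw [Equiv.swap_apply_left] at h2
  exact Fu.of_eq (h.hT hn) fu_x4 h2

theorem X01 (h : BOne S m f u w) : X f 0 * X f 1 = z1 f := by
  change x1 f * x2 f = z1 f
  rw [x1, x2, h.f_mul _ _ _ _ _ _ BOne.goodx1 BOne.goodx2, N_add_N, add_zero, zero_add]
  rfl

theorem X02 (h : BOne S m f u w) : X f 0 * X f 2 = z2 f := by
  change x1 f * x3 f = z2 f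
  rw [x1, x3, h.f_mul _ _ _ _ _ _ BOne.goodx1 BOne.goodx3, add_zero, zero_add, add_zero]
  rfl

theorem X03 (h : BOne S m f u w) : X f 0 * X f 3 = z3 f := by
  change x1 f * x4 f = z3 f
  rw [x1, x4, h.f_mul _ _ _ _ _ _ BOne.goodx1 BOne.goodx4, add_zero, zero_add]
  rfl

theorem fu_z2 (h : ClDat S f u w M) : Fu M f (z2 f) := by
  obtain ⟨n, hn, h1⟩ := h.hperm (Equiv.swap (1 : Fin 4) 2)
  refine Fu.of_eq (h.hT hn) fu_z1 ?_
  have e0 := h1 0
  have e1 := h1 1
  rw [show (Equiv.swap (1 : Fin 4) 2) 0 = 0 by decide] at e0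
  rw [show (Equiv.swap (1 : Fin 4) 2) 1 = 2 by decide] at e1
  rw [← X01 h.toBOne, ← X02 h.toBOne]
  calc n * (X f 0 * X f 1) * n⁻¹ = (n * X f 0 * n⁻¹) * (n * X f 1 * n⁻¹) := by group
    _ = _ := by rw [e0, e1]

theorem fu_z3 (h : ClDat S f u w M) : Fu M f (z3 f) := by
  obtain ⟨n, hn, h1⟩ := h.hperm (Equiv.swap (1 : Fin 4) 3)
  refine Fu.of_eq (h.hT hn) fu_z1 ?_
  have e0 := h1 0
  have e1 := h1 1
  rw [show (Equiv.swap (1 : Fin 4) 3) 0 = 0 by decide] at e0
  rw [show (Equiv.swap (1 : Fin 4) 3) 1 = 3 by decide] at e1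
  rw [← X01 h.toBOne, ← X03 h.toBOne]
  calc n * (X f 0 * X f 1) * n⁻¹ = (n * X f 0 * n⁻¹) * (n * X f 1 * n⁻¹) := by group
    _ = _ := by rw [e0, e1]

theorem fu_Tor (h : ClDat S f u w M) {t : G} (ht : t ∈ Tor f) (hi : t * t = 1) (h1 : t ≠ 1) : Fu M f t := by
  rcases h.involution_Tor ht hi with rfl | rfl | rfl | rfl | rfl | rfl | rfl | rfl
  · exact absurd rfl h1
  · exact fu_z1
  · exact h.fu_z2
  · exact h.fu_z3
  · exact h.fu_X 0
  · exact h.fu_X 1
  · exact h.fu_X 2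
  · exact h.fu_X 3

theorem d_mem {d : G} (h : ClDat S f u w M) (hd : ∀ b ∈ Bu f, d * b = b * d) : d ∈ M := by
  apply h.hz
  rw [mem_centralizer_singleton_iff]
  exact hd _ (h.mem_Bu.mpr ⟨0, N m, BOne.good1, rfl⟩)

theorem good_M (m : ℕ) : Good (0 : R m) 0 (LFourB.M m) := BOne.good_qM (Or.inl rfl)

/-- the involutions over `u` -/
theorem fu_u (h : ClDat S f u w M) : Fu M f u ∧ Fu M f (x4 f * u) := by
  obtain ⟨d, q, D⟩ := h.hd
  have hdM : d ∈ M := h.d_mem D.comm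
  have hg := BOne.good_qM D.q_eq
  have hb : f 0 0 (LFourB.M m) ∈ Bu f := h.mem_Bu.mpr ⟨0, LFourB.M m, good_M m, rfl⟩
  have hx : x4 f ∈ Bu f := h.mem_Bu.mpr ⟨N m, N m, BOne.goodx4, rfl⟩
  have e1 : h1 f * f 0 0 (LFourB.M m) = x1 f := by
    rw [h1, h.f_mul _ _ _ _ _ _ BOne.goodh1 (good_M m), add_zero, add_zero, neg_add_cancel]
    rfl
  have hq0 : Good (0 : R m) q (N m) := by
    rcases D.q_eq with rfl | rfl
    · exact BOne.good1
    · exact BOne.goodx4
  have e2 : f 0 q (LFourB.M m) * u * f 0 0 (LFourB.M m) = f 0 q (N m) * u := by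
    rw [mul_assoc, ← (h.mem_Bu_iff.mp hb).2, ← mul_assoc, h.f_mul _ _ _ _ _ _ hg (good_M m), add_zero, add_zero,
      M_add_M]
  have a1 : Fu M f (f 0 q (N m) * u) := by
    refine Fu.of_eq hdM (h.fu_X 0) ?_
    change d * x1 f * d⁻¹ = _
    rw [← e1, ← e2]
    calc d * (h1 f * f 0 0 (LFourB.M m)) * d⁻¹ = (d * h1 f * d⁻¹) * (d * f 0 0 (LFourB.M m) * d⁻¹) := by group
      _ = _ := by rw [D.h1, D.comm _ hb, mul_inv_cancel_right]
  have a2 : Fu M f (x4 f * (f 0 q (N m) * u)) := by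
    refine Fu.of_eq hdM h.fu_z3 ?_
    have e3 : z3 f = x4 f * (h1 f * f 0 0 (LFourB.M m)) := by
      rw [e1]
      exact (X03 h.toBOne).symm.trans (h.Tor_comm (h.X_mem 0) (h.X_mem 3))
    rw [e3, ← e2]
    calc d * (x4 f * (h1 f * f 0 0 (LFourB.M m))) * d⁻¹ =
        (d * x4 f * d⁻¹) * ((d * h1 f * d⁻¹) * (d * f 0 0 (LFourB.M m) * d⁻¹)) := by group
      _ = _ := by rw [D.h1, D.comm _ hb, mul_inv_cancel_right, D.comm _ hx, mul_inv_cancel_right]
  -- conjugation by `h1` removes `z1`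
  have e4 : ∀ q' : R m, (q' = 0 ∨ q' = N m) → h1 f * (f 0 q' (N m) * u) * (h1 f)⁻¹ = f 0 q' 0 * u := by
    intro q' hq'
    have hq1 : Good (0 : R m) q' (N m) := by
      rcases hq' with rfl | rfl
      · exact BOne.good1
      · exact BOne.goodx4
    rw [h1, h.conj_u hq1 BOne.goodh1]
    rw [zero_add, two_mul_N, sub_self]
  have e5 : ∀ q' : R m, (q' = 0 ∨ q' = N m) → h1 f * (f 0 q' 0 * u) * (h1 f)⁻¹ = f 0 q' (N m) * u := by
    intro q' hq'
    have hq1 : Good (0 : R m) q' 0 := by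
      rcases hq' with rfl | rfl
      · exact Good.zero
      · exact BOne.goodx3
    rw [h1, h.conj_u hq1 BOne.goodh1, zero_add, two_mul_N, zero_sub, neg_N]
  have hh1M : h1 f ∈ M := h.Tor_le_M h.h1_mem_Tor
  rcases D.q_eq with rfl | rfl
  · constructor
    · refine Fu.of_eq hh1M a1 ?_
      rw [e4 0 (Or.inl rfl), h.f_zero, one_mul]
    · have e6 : x4 f * (f 0 0 (N m) * u) = f 0 (N m) 0 * u := by
        rw [← mul_assoc, x4, h.f_mul _ _ _ _ _ _ BOne.goodx4 BOne.good1, add_zero, add_zero, N_add_N]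
      rw [e6] at a2
      exact Fu.of_eq hh1M a2 (e5 (N m) (Or.inr rfl))
  · constructor
    · have e6 : x4 f * (f 0 (N m) (N m) * u) = u := by
        rw [← mul_assoc, x4, h.f_mul _ _ _ _ _ _ BOne.goodx4 BOne.goodx4, add_zero, N_add_N, h.f_zero, one_mul]
      rwa [e6] at a2
    · exact a1

theorem fu_overU (h : ClDat S f u w M) {v : G} (hv : OverU f u w v) (hi : v * v = 1) : Fu M f v := by
  obtain ⟨s, hs, rfl | rfl⟩ := h.exists_conj_overU hv hi
  · exact Fu.conj (h.S_le_M hs) h.fu_u.1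
  · exact Fu.conj (h.S_le_M hs) h.fu_u.2

theorem good_f1 (m : ℕ) : Good (1 : R m) (-1) 0 := ⟨0, by ring⟩

/-- the involutions over `sg` -/
theorem fu_sg [Finite G] (h : ClDat S f u w M) : Fu M f (sg u w) ∧ Fu M f (f 2 0 (-1) * sg u w) := by
  obtain ⟨d, q, D⟩ := h.hd
  have hg := BOne.good_qM D.q_eq
  -- `e2`
  obtain ⟨r', t0, hg2, ht0, hge⟩ : ∃ (r' : R m) (t0 : G), Good q q r' ∧ t0 ∈ Tor f ∧
      f q 0 (LFourB.M m + r' + q) * sg u w = t0 * sg u w * t0⁻¹ := by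
    rcases D.q_eq with rfl | rfl
    · refine ⟨-LFourB.M m, 1, ?_, (Tor f).one_mem, ?_⟩
      · exact good_of_N (Or.inl rfl) (Or.inl rfl) (by linear_combination - four_mul_M (m := m))
      · rw [add_neg_cancel, zero_add, h.f_zero]
        group
    · refine ⟨0, f (LFourB.M m) 0 (-((2 ^ m : ℕ) : R m)), BOne.good2, h.f_mem_Tor (EssThree.good_t0 m), ?_⟩
      have h1 := h.conj_sg Good.zero (EssThree.good_t0 m)
      rw [h.f_zero, one_mul] at h1
      rw [h1]
      congr 2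
      · rw [zero_add, two_mul_M]
      · rw [zero_add, mul_zero]
      · linear_combination two_mul_M (m := m) + two_mul_N (m := m)
  set e1 := f 0 q (LFourB.M m) * u with he1
  set e2 := f q q r' * ub u w with he2
  have hneg : -q = q := by
    rcases D.q_eq with rfl | rfl
    · exact neg_zero
    · exact neg_N
  have hqq : q + q = 0 := by
    rcases D.q_eq with rfl | rfl
    · exact add_zero 0
    · exact N_add_N
  -- commutation
  have k12 : e1 * e2 = f q 0 (LFourB.M m + r' + q) * sg u w := by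
    calc e1 * e2 = f 0 q (LFourB.M m) * (u * f q q r') * ub u w := by rw [he1, he2]; group
      _ = f 0 q (LFourB.M m) * f (-q) q (r' + q) * (u * ub u w) := by rw [h.u_f _ _ _ hg2]; group
      _ = _ := by
        rw [h.f_mul _ _ _ _ _ _ hg hg2.actu, hneg, hqq, zero_add, add_assoc]
        rfl
  have k21 : e2 * e1 = f q 0 (LFourB.M m + r' + q) * sg u w := by
    calc e2 * e1 = f q q r' * (ub u w * f 0 q (LFourB.M m)) * u := by rw [he1, he2]; group
      _ = f q q r' * f 0 (-q) (LFourB.M m - q) * (ub u w * u) := by rw [h.ub_f hg]; group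
      _ = _ := by
        rw [h.f_mul _ _ _ _ _ _ hg2 hg.actub, hneg, hqq, add_zero, h.ub_mul_u]
        congr 2
        linear_combination hneg
  have k2h : e2 * h1 f = h1 f * e2 := by
    rw [he2, mul_assoc, h1, ← ((h.f_ub_comm_iff BOne.goodh1).mpr rfl), ← mul_assoc,
      h.f_comm hg2 BOne.goodh1, mul_assoc]
  have k2c : e2 * f 2 0 (-1) = f 2 0 (-1) * e2 := by
    rw [he2, mul_assoc, ← ((h.f_ub_comm_iff BOne.goodsg1).mpr rfl), ← mul_assoc,
      h.f_comm hg2 BOne.goodsg1, mul_assoc]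
  have k2B : ∀ b ∈ Bu f, e2 * b * e2⁻¹ ∈ Bu f := by
    intro b hb
    obtain ⟨q', r'', hgd, rfl⟩ := h.mem_Bu.mp hb
    have k1 : e2 * f 0 q' r'' * e2⁻¹ = f 0 (-q') (r'' - q') := by
      rw [mul_inv_eq_iff_eq_mul, he2, mul_assoc, h.ub_f hgd, ← mul_assoc, ← mul_assoc, h.f_comm hg2 hgd.actub]
    rw [k1]
    exact h.mem_Bu.mpr ⟨_, _, hgd.actub, rfl⟩
  have k22 : e2 * e2 ∈ Bu f := by
    have k1 : e2 * e2 = f (q + q) (q + -q) (r' + (r' - q)) := by
      calc e2 * e2 = f q q r' * (ub u w * f q q r') * ub u w := by rw [he2]; group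
        _ = f q q r' * f q (-q) (r' - q) * (ub u w * ub u w) := by rw [h.ub_f hg2]; group
        _ = _ := by rw [h.ub_mul_ub, mul_one, h.f_mul _ _ _ _ _ _ hg2 hg2.actub]
    have hg3 : Good (q + q) (q + -q) (r' + (r' - q)) := hg2.add hg2.actub
    rw [k1]
    rw [hqq] at hg3 ⊢
    exact h.mem_Bu.mpr ⟨_, _, hg3, rfl⟩
  have htM : t0 ∈ M := h.Tor_le_M ht0
  -- the fusion
  have main : ∀ t ∈ Tor f, e2 * (t * e1 * t⁻¹) = t * e1 * t⁻¹ * e2 → Fu M f (t * e1 * t⁻¹ * e2) := by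
    intro t ht hc
    obtain ⟨d', hd1, hd2, hd3⟩ := h.exists_comm_e D ht k2B k22 k2h hc
    have hd'M : d' ∈ M := h.d_mem hd1
    have k3 : d' * (h1 f * e2) * d'⁻¹ = t * e1 * t⁻¹ * e2 := by
      calc d' * (h1 f * e2) * d'⁻¹ = (d' * h1 f * d'⁻¹) * (d' * e2) * d'⁻¹ := by group
        _ = _ := by rw [← hd3, hd2, ← he1]; group
    have k4 : OverU f u w (h1 f * e2) := by
      refine ⟨h1 f * f q q r', (Tor f).mul_mem h.h1_mem_Tor (h.f_mem_Tor hg2), Or.inr ?_⟩
      rw [he2, mul_assoc]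
    have k5 : h1 f * e2 * (h1 f * e2) = 1 := by
      have k6 : h1 f * e2 * (h1 f * e2) = h1 f * h1 f * (e2 * e2) := by
        calc h1 f * e2 * (h1 f * e2) = h1 f * (e2 * h1 f) * e2 := by group
          _ = _ := by rw [k2h]; group
      have k7 : e2 * e2 = f 0 0 (r' + r' - q) := by
        have k1 : e2 * e2 = f (q + q) (q + -q) (r' + (r' - q)) := by
          calc e2 * e2 = f q q r' * (ub u w * f q q r') * ub u w := by rw [he2]; group
            _ = f q q r' * f q (-q) (r' - q) * (ub u w * ub u w) := by rw [h.ub_f hg2]; group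
            _ = _ := by rw [h.ub_mul_ub, mul_one, h.f_mul _ _ _ _ _ _ hg2 hg2.actub]
        rw [k1, hqq, add_neg_cancel, add_sub_assoc]
      rw [k6, h.h1_mul_h1, k7]
      have k8 : r' + r' - q = N m := by
        have k9 : e1 * e2 * (e1 * e2) = 1 := by
          rw [k12, hge]
          calc t0 * sg u w * t0⁻¹ * (t0 * sg u w * t0⁻¹) = t0 * (sg u w * sg u w) * t0⁻¹ := by group
            _ = 1 := by rw [h.sg_mul_sg, mul_one, mul_inv_cancel]
        have k10 : e1 * e1 = f 0 0 (N m) := by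
          have := h.sq_u hg
          rw [he1, this]
          congr 1
          · rw [two_mul, hqq]
          · rw [add_zero, two_mul_M]
        have k11 : e1 * e2 * (e1 * e2) = f 0 0 (N m + (r' + r' - q)) := by
          calc e1 * e2 * (e1 * e2) = e1 * (e2 * e1) * e2 := by group
            _ = e1 * e1 * (e2 * e2) := by rw [k21, ← k12]; group
            _ = _ := by
              rw [k10, k7, h.f_mul _ _ _ _ _ _ BOne.good1, add_zero]
              have hg3 := hg2.add hg2.actub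
              rw [hqq, add_neg_cancel, ← add_sub_assoc] at hg3
              exact hg3
        rw [k11, h.f_eq_one_iff] at k9
        · linear_combination k9.2.2 - two_mul_N (m := m)
        · have hg3 := hg2.add hg2.actub
          rw [hqq, add_neg_cancel, ← add_sub_assoc] at hg3
          have hg4 := (BOne.good1 (m := m)).add hg3
          rw [add_zero] at hg4
          exact hg4
      rw [k8, z1, h.f_mul _ _ _ _ _ _ BOne.good1 BOne.good1, add_zero, N_add_N, h.f_zero]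
    exact Fu.of_eq hd'M (h.fu_overU k4 k5) k3
  constructor
  · have a1 := main 1 (Tor f).one_mem (by rw [inv_one, mul_one, one_mul, k12, k21])
    rw [inv_one, mul_one, one_mul, k12, hge] at a1
    exact Fu.of_conj htM a1
  · have ht1 := h.f_mem_Tor (good_f1 m)
    have k3 : f 1 (-1) 0 * e1 * (f 1 (-1) 0)⁻¹ = f 2 0 (-1) * e1 := by
      rw [he1, h.conj_u hg (good_f1 m), ← mul_assoc, h.f_mul _ _ _ _ _ _ BOne.goodsg1 hg]
      congr 2 <;> ring
    have a1 := main _ ht1 (by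
      rw [k3, ← mul_assoc, k2c, mul_assoc, k21, mul_assoc, k12])
    rw [k3, mul_assoc, k12, hge] at a1
    refine Fu.of_conj htM (Fu.of_eq M.one_mem a1 ?_)
    rw [one_mul, inv_one, mul_one, ← mul_assoc t0, h.Tor_comm ht0 (h.f_mem_Tor BOne.goodsg1)]
    group

end ClDat

end Cfsg.Agent.LFourB
end

-- part: LFourB/ClBEnd
section
/-!
# Closing of type `B1`: a subgroup containing `C(z1)`, `C(x4)` and `N(T)` is the whole group
-/

set_option autoImplicit false

namespace Cfsg.Agent.LFourB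

open Subgroup

variable {G : Type*} [Group G] {m : ℕ} {f : R m → R m → R m → G} {u w : G}

namespace ClDat

variable {M : Subgroup G} {P : Sylow 2 G}

theorem act_mul {a b : G} {σ τ : Equiv.Perm (Fin 4)} (ha : ∀ i, a * X f i * a⁻¹ = X f (σ i))
    (hb : ∀ i, b * X f i * b⁻¹ = X f (τ i)) (i : Fin 4) : a * b * X f i * (a * b)⁻¹ = X f ((σ * τ) i) := by
  rw [Equiv.Perm.mul_apply, ← ha, ← hb]
  group

theorem act_inv {a : G} {σ : Equiv.Perm (Fin 4)} (ha : ∀ i, a * X f i * a⁻¹ = X f (σ i)) (i : Fin 4) :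
    a⁻¹ * X f i * a⁻¹⁻¹ = X f (σ⁻¹ i) := by
  have h1 := ha (σ⁻¹ i)
  have h2 : σ (σ⁻¹ i) = i := σ.apply_symm_apply i
  rw [h2] at h1
  rw [← h1]
  group

theorem exists_conj_over_sg [Finite G] (h : ClDat (P : Subgroup G) f u w M) {v : G} (hv : v ∈ (P : Subgroup G))
    (hpi : h.pi ⟨v, hv⟩ = Equiv.swap (0 : Fin 4) 2 * Equiv.swap (1 : Fin 4) 3) (hi : v * v = 1) :
    ∃ g ∈ M, ∃ t ∈ Tor f, g * v * g⁻¹ = t * sg u w := by
  have : Fact (Nat.Prime 2) := ⟨Nat.prime_two⟩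
  obtain ⟨n, hn, hnX⟩ := h.hperm (Equiv.swap (1 : Fin 4) 2)
  set H : Subgroup G := normalizer (Tor f : Set G) with hH
  have hPH : (P : Subgroup G) ≤ H := h.S_le_normalizer
  have hvX : ∀ i, v * X f i * v⁻¹ = X f ((Equiv.swap (0 : Fin 4) 2 * Equiv.swap (1 : Fin 4) 3 : Equiv.Perm (Fin 4)) i) := by
    intro i
    rw [← hpi]
    exact h.pi_spec ⟨v, hv⟩ i
  have hsX : ∀ i, sg u w * X f i * (sg u w)⁻¹ = X f ((Equiv.swap (0 : Fin 4) 1 * Equiv.swap (2 : Fin 4) 3 : Equiv.Perm (Fin 4)) i) := by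
    intro i
    rw [← h.pi_sg]
    exact h.pi_spec ⟨sg u w, h.sg_mem⟩ i
  have hv'X : ∀ i, n * v * n⁻¹ * X f i * (n * v * n⁻¹)⁻¹ = X f ((Equiv.swap (0 : Fin 4) 1 * Equiv.swap (2 : Fin 4) 3 : Equiv.Perm (Fin 4)) i) := by
    intro i
    rw [act_mul (act_mul hnX hvX) (act_inv hnX)]
    congr 1
    revert i
    decide
  have hv'H : n * v * n⁻¹ ∈ H := H.mul_mem (H.mul_mem hn (hPH hv)) (H.inv_mem hn)
  have hsH : sg u w ∈ H := hPH h.sg_mem
  let C : Subgroup H := (centralizer (Tor f : Set G)).subgroupOf H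
  have hCn : C.Normal := by
    refine ⟨fun c hc k => ?_⟩
    rw [mem_subgroupOf, mem_centralizer_iff] at hc ⊢
    intro t ht
    have hk : (k : G)⁻¹ * t * k ∈ Tor f := by
      have := (mem_normalizer_iff.mp (H.inv_mem k.2) t).mp ht
      rwa [inv_inv] at this
    have h2 := hc _ hk
    change t * ((k : G) * c * (k : G)⁻¹) = (k : G) * c * (k : G)⁻¹ * t
    calc t * ((k : G) * c * (k : G)⁻¹) = (k : G) * ((k : G)⁻¹ * t * k * c) * (k : G)⁻¹ := by group
      _ = _ := by rw [h2]; group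
  let x : H := ⟨n * v * n⁻¹, hv'H⟩
  let s : H := ⟨sg u w, hsH⟩
  have hxs : x * s⁻¹ ∈ C := by
    rw [mem_subgroupOf, mem_centralizer_iff]
    intro t ht
    refine (h.hcent _ (x * s⁻¹).2 ?_ t ht).symm
    intro i
    have h2 : n * v * n⁻¹ * (sg u w)⁻¹ * X f i * (n * v * n⁻¹ * (sg u w)⁻¹)⁻¹ = X f i := by
      rw [act_mul hv'X (act_inv hsX)]
      congr 1
      revert i
      decide
    exact mul_inv_eq_iff_eq_mul.mp h2
  obtain ⟨c, hc, hcx⟩ := TwoFusion.IsolatedCenter.exists_conj_mem (P.subtype hPH) C x ⟨1, by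
    rw [pow_one, pow_two]
    apply Subtype.ext
    change n * v * n⁻¹ * (n * v * n⁻¹) = 1
    calc n * v * n⁻¹ * (n * v * n⁻¹) = n * (v * v) * n⁻¹ := by group
      _ = 1 := by rw [hi, mul_one, mul_inv_cancel]⟩ (by
    have h1 : x = (x * s⁻¹) * s := by group
    rw [h1]
    refine mul_mem (mem_sup_right hxs) (mem_sup_left ?_)
    exact h.sg_mem)
  have hcX : ∀ i, (c : G) * X f i * (c : G)⁻¹ = X f ((1 : Equiv.Perm (Fin 4)) i) := by
    intro i
    rw [Equiv.Perm.one_apply]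
    rw [mem_subgroupOf, mem_centralizer_iff] at hc
    rw [← hc _ (h.X_mem i), mul_inv_cancel_right]
  have hmem : (c : G) * (n * v * n⁻¹) * (c : G)⁻¹ ∈ (P : Subgroup G) := hcx
  have hpi2 : h.pi ⟨_, hmem⟩ = h.pi ⟨sg u w, h.sg_mem⟩ := by
    rw [h.pi_sg]
    apply h.pi_eq
    intro i
    change (c : G) * (n * v * n⁻¹) * (c : G)⁻¹ * X f i * ((c : G) * (n * v * n⁻¹) * (c : G)⁻¹)⁻¹ = _
    rw [act_mul (act_mul hcX hv'X) (act_inv hcX)]
    congr 1
  obtain ⟨t, ht, h3⟩ := h.exists_eq_of_pi_eq hmem h.sg_mem hpi2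
  refine ⟨c * n, h.hT (H.mul_mem c.2 hn), t, ht, ?_⟩
  rw [← h3]
  group

theorem fu_over_sg [Finite G] (h : ClDat (P : Subgroup G) f u w M) {t : G} (ht : t ∈ Tor f)
    (hi : t * sg u w * (t * sg u w) = 1) : Fu M f (t * sg u w) := by
  obtain ⟨s, hs, h1 | h1⟩ := h.exists_conj_sg ht hi
  · rw [h1]
    exact Fu.conj (h.Tor_le_M hs) h.fu_sg.1
  · rw [h1]
    exact Fu.conj (h.Tor_le_M hs) h.fu_sg.2

theorem fu_over_w [Finite G] (h : ClDat (P : Subgroup G) f u w M) {t : G} (ht : t ∈ Tor f)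
    (hi : t * w * (t * w) = 1) : Fu M f (t * w) := by
  have hv : t * w ∈ (P : Subgroup G) := mul_mem (h.Tor_le ht) h.w_mem
  obtain ⟨g, hg, t', ht', h1⟩ := h.exists_conj_over_sg hv (by
    have h2 : (⟨t * w, hv⟩ : (P : Subgroup G)) = ⟨t, h.Tor_le ht⟩ * ⟨w, h.w_mem⟩ := rfl
    rw [h2, map_mul, h.pi_Tor ht, one_mul, h.pi_w]) hi
  apply Fu.of_conj hg
  rw [h1]
  apply h.fu_over_sg ht'
  rw [← h1]
  calc g * (t * w) * g⁻¹ * (g * (t * w) * g⁻¹) = g * (t * w * (t * w)) * g⁻¹ := by group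
    _ = 1 := by rw [hi, mul_one, mul_inv_cancel]

/-- **Every involution of `S` is `M`-conjugate to `z1` or `x4`.** -/
theorem fu [Finite G] (h : ClDat (P : Subgroup G) f u w M) {v : G} (hv : v ∈ (P : Subgroup G)) (hi : v * v = 1)
    (h1 : v ≠ 1) : Fu M f v := by
  by_cases hvT : v ∈ Tor f
  · exact h.fu_Tor hvT hi h1
  · rcases h.involution_cases hv hvT hi with h2 | h2
    · exact h.fu_overU h2 hi
    · obtain ⟨s, hs, h3⟩ := h.exists_conj_overV h2 hi
      have hsM := h.S_le_M hs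
      have key : ∀ y : G, v = s * y * s⁻¹ → y * y = 1 := by
        intro y hy
        have h4 : y = s⁻¹ * v * s := by rw [hy]; group
        rw [h4]
        calc s⁻¹ * v * s * (s⁻¹ * v * s) = s⁻¹ * (v * v) * s := by group
          _ = 1 := by rw [hi, mul_one, inv_mul_cancel]
      rcases h3 with h3 | h3 | h3 | h3
      · rw [h3]; exact Fu.conj hsM h.fu_sg.1
      · rw [h3]; exact Fu.conj hsM h.fu_sg.2
      · have h5 := key _ h3
        rw [h3]
        refine Fu.conj hsM ?_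
        have h6 := h.fu_over_w (Tor f).one_mem (by rw [one_mul]; exact h5)
        rwa [one_mul] at h6
      · have h5 := key _ h3
        rw [h3]
        exact Fu.conj hsM (h.fu_over_w (h.f_mem_Tor BOne.goodw1) h5)

theorem z1_ord (h : BOne (P : Subgroup G) m f u w) : orderOf (z1 f) = 2 := by
  refine orderOf_eq_prime ?_ ?_
  · rw [pow_two, z1, h.f_mul _ _ _ _ _ _ BOne.good1 BOne.good1, add_zero, N_add_N, h.f_zero]
  · rw [z1, Ne, h.f_eq_one_iff BOne.good1]
    exact fun k => N_ne_zero k.2.2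

theorem x4_ord (h : BOne (P : Subgroup G) m f u w) : orderOf (x4 f) = 2 := by
  refine orderOf_eq_prime ?_ ?_
  · rw [pow_two, x4, h.f_mul _ _ _ _ _ _ BOne.goodx4 BOne.goodx4, add_zero, N_add_N, h.f_zero]
  · rw [x4, Ne, h.f_eq_one_iff BOne.goodx4]
    exact fun k => N_ne_zero k.2.2

/-- **(C1)** A subgroup containing `C(z1)`, `C(x4)`, `N(T)` is the whole group. -/
theorem eq_top [Finite G] (h : ClDat (P : Subgroup G) f u w M) (hx : centralizer {x4 f} ≤ M)
    (hne : ¬ IsConj (z1 f) (x4 f)) : M = ⊤ := by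
  refine Lib.TwoClassEnd.eq_top P (a := z1 f) (b := x4 f) ?_ {z1 f, x4 f} ?_ ?_ (z1_ord h.toBOne) (x4_ord h.toBOne) hne
  · -- the normaliser of the Sylow subgroup
    refine le_trans ?_ h.hT
    intro g hg
    have h1 : (Tor f).map (MulAut.conj g).toMonoidHom = Tor f := by
      apply h.weakly_closed
      rintro _ ⟨t, ht, rfl⟩
      exact (mem_normalizer_iff.mp hg t).mp (h.Tor_le ht)
    rw [Lib.GoldschmidtFusion.mem_normalizer_iff_map_conj]
    exact h1
  · rintro z (rfl | rfl)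
    · exact h.hz
    · exact hx
  · intro v hv ho
    have h1 : v * v = 1 := by rw [← pow_two, ← ho]; exact pow_orderOf_eq_one v
    have h2 : v ≠ 1 := fun e => by rw [e, orderOf_one] at ho; exact absurd ho (by norm_num)
    obtain ⟨g, hg, h3 | h3⟩ := h.fu hv h1 h2
    · exact ⟨z1 f, Or.inl rfl, g, hg, h3⟩
    · exact ⟨x4 f, Or.inr rfl, g, hg, h3⟩

end ClDat

end Cfsg.Agent.LFourB
end

-- part: LFourB/ClBCent
section
/-!
# Closing of type `B1`: `C(x4) ≤ M`
-/

set_option autoImplicit false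

namespace Cfsg.Agent.LFourB

open Subgroup

namespace ClB

/-- Two involutions whose product lies in a subgroup of odd order are conjugate by an element of that subgroup. -/
theorem exists_conj_of_odd {G : Type*} [Group G] (O : Subgroup G) (hO : Odd (Nat.card O)) {a b : G}
    (ha : a * a = 1) (hb : b * b = 1) (hab : a * b ∈ O) : ∃ c ∈ O, c * b * c⁻¹ = a := by
  obtain ⟨n, hn⟩ := Lib.KleinGen.exists_sqrt_exponent O hO
  obtain ⟨h1, -⟩ := hn _ hab
  have hb' : b⁻¹ = b := inv_eq_of_mul_eq_one_left hb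
  have ha' : a⁻¹ = a := inv_eq_of_mul_eq_one_left ha
  refine ⟨(a * b) ^ n, O.pow_mem hab n, ?_⟩
  have h3 : b * (a * b)⁻¹ * b⁻¹ = a * b := by
    calc b * (a * b)⁻¹ * b⁻¹ = a⁻¹ * b⁻¹ := by group
      _ = a * b := by rw [ha', hb']
  have h2 : b * ((a * b) ^ n)⁻¹ * b⁻¹ = (a * b) ^ n := by
    rw [← inv_pow, ← conj_pow, h3]
  calc (a * b) ^ n * b * ((a * b) ^ n)⁻¹ = (a * b) ^ n * (b * ((a * b) ^ n)⁻¹ * b⁻¹) * b := by group
    _ = (a * b) ^ n * (a * b) ^ n * b := by rw [h2]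
    _ = a := by rw [h1, mul_assoc, hb, mul_one]

/-- Lifting of centralisers of involutions through an odd kernel. -/
theorem exists_cent_lift {Y X : Type*} [Group Y] [Group X] (p : Y →* X) (hO : Odd (Nat.card p.ker)) {v y : Y}
    (hv : v * v = 1) (hy : p y * p v = p v * p y) : ∃ c ∈ p.ker, (c * y) * v = v * (c * y) := by
  obtain ⟨c, hc, h1⟩ := exists_conj_of_odd p.ker hO (a := v) (b := y * v * y⁻¹) hv
    (by
      calc y * v * y⁻¹ * (y * v * y⁻¹) = y * (v * v) * y⁻¹ := by group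
        _ = 1 := by rw [hv, mul_one, mul_inv_cancel])
    (by
      rw [MonoidHom.mem_ker, map_mul, map_mul, map_mul, hy, map_inv, mul_inv_cancel_right, ← map_mul, hv, map_one])
  refine ⟨c, hc, ?_⟩
  have h3 : c * y * v * (c * y)⁻¹ = c * (y * v * y⁻¹) * c⁻¹ := by group
  exact mul_inv_eq_iff_eq_mul.mp (h3.trans h1)

/-- **Closing in a group with a normal simple section of type `PSL₃`.** -/
theorem eq_top_of_gen4 {Y X : Type*} [Group Y] [Finite Y] [Group X] (p : Y →* X) (hp : Function.Surjective p)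
    (hO : Odd (Nat.card p.ker)) (P : Sylow 2 Y) (L D : Subgroup X) (hL : L.Normal) (hD : D ≤ center X)
    (hPL : (P : Subgroup Y).map p ≤ L ⊔ D) (hG : Gen4 L) {u v : Y} (hu : u * u = 1) (hv : v * v = 1)
    (hu1 : u ≠ 1) (hv1 : v ≠ 1) (huv : u ≠ v) (huc : u * v = v * u) (huL : p u ∈ L) (hvL : p v ∈ L)
    {N : Subgroup Y} (hDN : D ≤ N.map p) (h1 : centralizer {u} ≤ N) (h2 : centralizer {v} ≤ N)
    (h3 : centralizer {u * v} ≤ N) (hPN : normalizer ((P : Subgroup Y) : Set Y) ≤ N) : N = ⊤ := by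
  have : Fact (Nat.Prime 2) := ⟨Nat.prime_two⟩
  have hker : p.ker ≤ N := by
    refine Lib.KleinGen.le_of_klein p.ker N hO u v hu hv huc
      (fun h hh => (inferInstance : p.ker.Normal).conj_mem h hh u)
      (fun h hh => (inferInstance : p.ker.Normal).conj_mem h hh v)
      (inf_le_right.trans h1) (inf_le_right.trans h2) (inf_le_right.trans h3)
  -- no involution is in the kernel
  have hnk : ∀ x : Y, x * x = 1 → x ≠ 1 → p x ≠ 1 := by
    intro x hx hx1 hpx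
    have h5 : orderOf (⟨x, hpx⟩ : p.ker) = 2 := by
      refine orderOf_eq_prime ?_ ?_
      · rw [pow_two]; exact Subtype.ext hx
      · exact fun k => hx1 (congrArg Subtype.val k)
    have h6 := _root_.orderOf_dvd_natCard (⟨x, hpx⟩ : p.ker)
    rw [h5] at h6
    exact (Nat.not_even_iff_odd.mpr hO) (even_iff_two_dvd.mpr h6)
  have hcent : ∀ x : Y, x * x = 1 → centralizer {x} ≤ N → centralizer {p x} ≤ N.map p := by
    intro x hx hxN y hy
    obtain ⟨z, rfl⟩ := hp y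
    rw [mem_centralizer_singleton_iff] at hy
    obtain ⟨c, hc, h5⟩ := exists_cent_lift p hO hx hy
    refine ⟨c * z, hxN (mem_centralizer_singleton_iff.mpr h5), ?_⟩
    rw [map_mul, MonoidHom.mem_ker.mp hc, one_mul]
  have hLN : L ≤ N.map p := by
    have h5 := hG ⟨p u, huL⟩ ⟨p v, hvL⟩ (Subtype.ext (by
        change p u * p u = 1
        rw [← map_mul, hu, map_one])) (Subtype.ext (by
        change p v * p v = 1
        rw [← map_mul, hv, map_one]))
      (fun k => hnk u hu hu1 (congrArg Subtype.val k)) (fun k => hnk v hv hv1 (congrArg Subtype.val k))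
      (fun k => by
        have h6 : p u = p v := congrArg Subtype.val k
        refine hnk (u * v) ?_ ?_ ?_
        · calc u * v * (u * v) = u * (v * u) * v := by group
            _ = u * u * (v * v) := by rw [← huc]; group
            _ = 1 := by rw [hu, hv, mul_one]
        · intro h7
          apply huv
          calc u = u * v * v := by rw [mul_assoc, hv, mul_one]
            _ = v := by rw [h7, one_mul]
        · rw [map_mul, h6, ← map_mul, hv, map_one])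
      (Subtype.ext (by
        change p u * p v = p v * p u
        rw [← map_mul, huc, map_mul])) ((N.map p).subgroupOf L)
      (fun x hx => by
        rw [mem_centralizer_singleton_iff] at hx
        exact hcent u hu h1 (mem_centralizer_singleton_iff.mpr (congrArg Subtype.val hx)))
      (fun x hx => by
        rw [mem_centralizer_singleton_iff] at hx
        exact hcent v hv h2 (mem_centralizer_singleton_iff.mpr (congrArg Subtype.val hx)))
    exact subgroupOf_eq_top.mp h5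
  -- the normal subgroup `R`
  have hDn : D.Normal := ⟨fun d hd g => by
    rw [(mem_center_iff.mp (hD hd)) g, mul_inv_cancel_right]
    exact hd⟩
  set R : Subgroup Y := (L ⊔ D).comap p with hR
  have hRn : R.Normal := (sup_normal L D).comap p
  have hPR : (P : Subgroup Y) ≤ R := map_le_iff_le_comap.mp hPL
  have hRN : R ≤ N := by
    intro y hy
    have h5 : p y ∈ N.map p := (sup_le hLN hDN) hy
    obtain ⟨n, hn, h6⟩ := h5
    have h7 : y * n⁻¹ ∈ p.ker := by rw [MonoidHom.mem_ker, map_mul, map_inv, h6, mul_inv_cancel]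
    have h8 := N.mul_mem (hker h7) hn
    rwa [inv_mul_cancel_right] at h8
  have h9 := Sylow.normalizer_sup_eq_top' P hPR
  rw [eq_top_iff, ← h9]
  exact sup_le hPN hRN

end ClB

namespace ClDat

variable {G : Type*} [Group G] {m : ℕ} {f : R m → R m → R m → G} {u w : G} {M : Subgroup G} {P : Sylow 2 G}

theorem cent_z2_le (h : ClDat (P : Subgroup G) f u w M) : centralizer {z2 f} ≤ M := by
  obtain ⟨n, hn, h1⟩ := h.hperm (Equiv.swap (1 : Fin 4) 2)
  have e0 := h1 0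
  have e1 := h1 1
  rw [show (Equiv.swap (1 : Fin 4) 2) 0 = 0 by decide] at e0
  rw [show (Equiv.swap (1 : Fin 4) 2) 1 = 2 by decide] at e1
  have h2 : n * z1 f * n⁻¹ = z2 f := by
    rw [← X01 h.toBOne, ← X02 h.toBOne]
    calc n * (X f 0 * X f 1) * n⁻¹ = (n * X f 0 * n⁻¹) * (n * X f 1 * n⁻¹) := by group
      _ = _ := by rw [e0, e1]
  rw [← h2]
  exact Lib.TwoClassEnd.centralizer_conj_le (h.hT hn) h.hz

theorem cent_z3_le (h : ClDat (P : Subgroup G) f u w M) : centralizer {z3 f} ≤ M := by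
  obtain ⟨n, hn, h1⟩ := h.hperm (Equiv.swap (1 : Fin 4) 3)
  have e0 := h1 0
  have e1 := h1 1
  rw [show (Equiv.swap (1 : Fin 4) 3) 0 = 0 by decide] at e0
  rw [show (Equiv.swap (1 : Fin 4) 3) 1 = 3 by decide] at e1
  have h2 : n * z1 f * n⁻¹ = z3 f := by
    rw [← X01 h.toBOne, ← X03 h.toBOne]
    calc n * (X f 0 * X f 1) * n⁻¹ = (n * X f 0 * n⁻¹) * (n * X f 1 * n⁻¹) := by group
      _ = _ := by rw [e0, e1]
  rw [← h2]
  exact Lib.TwoClassEnd.centralizer_conj_le (h.hT hn) h.hz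

theorem z1_mul_z3 (h : BOne (P : Subgroup G) m f u w) : z1 f * z3 f = z2 f := by
  rw [z1, z3, h.f_mul _ _ _ _ _ _ BOne.good1 BOne.good3, zero_add, N_add_N]
  rfl

/-- **(C2)** `C(x4) ≤ M`. -/
theorem cent_x4_le [Finite G] (h : ClDat (P : Subgroup G) f u w M)
    {PY : Sylow 2 (centralizer {x4 f} : Subgroup G)} {W D : Subgroup (centralizer {x4 f} : Subgroup G)}
    {L : Subgroup ((centralizer {x4 f} : Subgroup G) ⧸ Cfsg.pPrimeCore 2 (centralizer {x4 f} : Subgroup G))}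
    (hO : CentXTail.Out PY W D L) (hPY : (PY : Subgroup (centralizer {x4 f} : Subgroup G)) = W ⊔ D)
    (hPS : (PY : Subgroup (centralizer {x4 f} : Subgroup G)).map (centralizer {x4 f} : Subgroup G).subtype ≤ P)
    (hTP : Tor f ≤ (PY : Subgroup (centralizer {x4 f} : Subgroup G)).map (centralizer {x4 f} : Subgroup G).subtype)
    (hDT : D.map (centralizer {x4 f} : Subgroup G).subtype ≤ Tor f)
    {a b : (centralizer {x4 f} : Subgroup G)} (ha : (a : G) = z1 f) (hb : (b : G) = z3 f) (haW : a ∈ W) (hbW : b ∈ W)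
    (hG : Gen4 L) : centralizer {x4 f} ≤ M := by
  have hz1 : z1 f * z1 f = 1 := by rw [← pow_two, ← z1_ord h.toBOne]; exact pow_orderOf_eq_one _
  have hz3 : z3 f * z3 f = 1 := by
    rw [z3, h.f_mul _ _ _ _ _ _ BOne.good3 BOne.good3, N_add_N, h.f_zero]
  have hz1n : z1 f ≠ 1 := fun k => by
    rw [z1, h.f_eq_one_iff BOne.good1] at k
    exact N_ne_zero k.2.2
  have hz3n : z3 f ≠ 1 := fun k => by
    rw [z3, h.f_eq_one_iff BOne.good3] at k
    exact N_ne_zero k.2.2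
  have hz13 : z1 f ≠ z3 f := fun k => by
    rw [z1, z3, h.f_eq_iff BOne.good1 BOne.good3] at k
    exact N_ne_zero k.1.symm
  have hcomm : z1 f * z3 f = z3 f * z1 f := h.f_comm BOne.good1 BOne.good3
  have hWL : ∀ x ∈ W, QuotientGroup.mk' (Cfsg.pPrimeCore 2 (centralizer {x4 f} : Subgroup G)) x ∈ L :=
    fun x hx => hO.W_le ⟨x, hx, rfl⟩
  have key := ClB.eq_top_of_gen4 (QuotientGroup.mk' (Cfsg.pPrimeCore 2 (centralizer {x4 f} : Subgroup G)))
    (QuotientGroup.mk'_surjective _) (by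
      rw [QuotientGroup.ker_mk']
      have h1 : (Nat.card (Cfsg.pPrimeCore 2 (centralizer {x4 f} : Subgroup G))).Coprime 2 :=
        Lib.Cores.pPrimeCore_coprime 2
      exact Nat.coprime_two_right.mp h1)
    PY L (D.map (QuotientGroup.mk' _)) hO.normal hO.center (by
      rw [hPY, Subgroup.map_sup]
      exact sup_le_sup_right hO.W_le _) hG
    (u := a) (v := b) (Subtype.ext (by rw [coe_mul, ha, hz1]; rfl)) (Subtype.ext (by rw [coe_mul, hb, hz3]; rfl))
    (fun k => hz1n (by rw [← ha, k]; rfl)) (fun k => hz3n (by rw [← hb, k]; rfl))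
    (fun k => hz13 (by rw [← ha, ← hb, k])) (Subtype.ext (by rw [coe_mul, coe_mul, ha, hb, hcomm]))
    (hWL a haW) (hWL b hbW) (N := M.subgroupOf (centralizer {x4 f})) (by
      apply Subgroup.map_mono
      intro d hd
      exact h.Tor_le_M (hDT ⟨d, hd, rfl⟩))
    (by
      intro x hx
      rw [mem_centralizer_singleton_iff] at hx
      apply h.hz
      rw [mem_centralizer_singleton_iff, ← ha]
      exact congrArg Subtype.val hx)
    (by
      intro x hx
      rw [mem_centralizer_singleton_iff] at hx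
      apply h.cent_z3_le
      rw [mem_centralizer_singleton_iff, ← hb]
      exact congrArg Subtype.val hx)
    (by
      intro x hx
      rw [mem_centralizer_singleton_iff] at hx
      apply h.cent_z2_le
      rw [mem_centralizer_singleton_iff, ← z1_mul_z3 h.toBOne, ← ha, ← hb]
      exact congrArg Subtype.val hx)
    (by
      intro g hg
      apply h.hT
      rw [Lib.GoldschmidtFusion.mem_normalizer_iff_map_conj]
      apply h.weakly_closed
      rintro _ ⟨t, ht, rfl⟩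
      obtain ⟨t', ht', rfl⟩ := hTP ht
      exact hPS ⟨g * t' * g⁻¹, (mem_normalizer_iff.mp hg t').mp ht', rfl⟩)
  exact subgroupOf_eq_top.mp key

end ClDat

end Cfsg.Agent.LFourB
end

-- part: LFourB/ClBIn
section
/-!
# Closing of type `B1`: the interface
-/

set_option autoImplicit false

namespace Cfsg.Agent.LFourB

open Subgroup

variable {G : Type*} [Group G] {m : ℕ} {f : R m → R m → R m → G} {u w : G}

namespace ClDat

variable {M : Subgroup G} {P : Sylow 2 G}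

end ClDat

end Cfsg.Agent.LFourB
end

-- part: LFourB/CentXData
section
/-!
# The centraliser of `x4`: the action of an element `ρ` permuting `x1, x2, x3`

`C` is (an abstract copy of) the centraliser of `x4`, `P = T⟨u⟩` with the coordinates `Half`.  `ρ` normalises `T`,
permutes `x1, x2, x3` cyclically and the normaliser of `T` acts faithfully on `x1, .., x4`.
`T = T1 × D` with `T1 = [T, ρ]` homocyclic and `D = C_T(ρ)` cyclic of order `2 ^ (m + 1)`, centralised by `u`.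
-/

set_option autoImplicit false

namespace Cfsg.Agent.LFourB

open Subgroup

/-- Conjugation. -/
def cj {C : Type*} [Group C] (g t : C) : C := g * t * g⁻¹

section cj

variable {C : Type*} [Group C]

theorem cj_mul (g a b : C) : cj g (a * b) = cj g a * cj g b := by simp only [cj, mul_assoc, _root_.inv_mul_cancel_left]
theorem cj_cj (g h a : C) : cj g (cj h a) = cj (g * h) a := by simp only [cj, mul_assoc, _root_.mul_inv_rev]
theorem cj_one (g : C) : cj g 1 = 1 := by simp [cj]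
theorem one_cj (a : C) : cj 1 a = a := by simp [cj]
theorem cj_pow (g a : C) (n : ℕ) : cj g (a ^ n) = (cj g a) ^ n := by simp [cj, conj_pow]
theorem cj_inv_cj (g a : C) : cj g⁻¹ (cj g a) = a := by simp [cj, mul_assoc]
theorem cj_cj_inv (g a : C) : cj g (cj g⁻¹ a) = a := by simp [cj, mul_assoc]
theorem cj_eq_iff {g a : C} : cj g a = a ↔ g * a = a * g := mul_inv_eq_iff_eq_mul

end cj

/-- The data in the centraliser of `x4`. -/
structure XAct {C : Type*} [Group C] (P : Subgroup C) (m : ℕ) (f : R m → R m → R m → C) (u ρ : C) : Prop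
    extends Half P m f u where
  card_Tor : Nat.card (Tor f) = 2 ^ (3 * m + 7)
  ρ_norm : ρ ∈ normalizer (Tor f : Set C)
  ρ_x1 : ρ * x1 f * ρ⁻¹ = x2 f
  ρ_x2 : ρ * x2 f * ρ⁻¹ = x3 f
  ρ_x3 : ρ * x3 f * ρ⁻¹ = x1 f
  x4_cent : ∀ g : C, g * x4 f = x4 f * g
  perm : ∀ g ∈ normalizer (Tor f : Set C), ∃ σ : Equiv.Perm (Fin 4), ∀ i, g * X f i * g⁻¹ = X f (σ i)
  faithful : ∀ g ∈ normalizer (Tor f : Set C), (∀ i, g * X f i = X f i * g) → ∀ t ∈ Tor f, g * t = t * g

/-- In `ZMod (2 ^ (m + 3))` some multiple of a nonzero pair has order two. -/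
theorem exists_pair {m : ℕ} {a b : R m} (h : ¬ (a = 0 ∧ b = 0)) : ∃ k : ℕ,
    ¬ ((k : R m) * a = 0 ∧ (k : R m) * b = 0) ∧ 2 * ((k : R m) * a) = 0 ∧ 2 * ((k : R m) * b) = 0 := by
  classical
  have hex : ∃ j : ℕ, ((2 ^ j : ℕ) : R m) * a = 0 ∧ ((2 ^ j : ℕ) : R m) * b = 0 := by
    refine ⟨m + 3, ?_⟩
    rw [ZMod.natCast_self, zero_mul, zero_mul]
    exact ⟨rfl, rfl⟩
  obtain ⟨j, hj⟩ : ∃ j, j = Nat.find hex := ⟨_, rfl⟩
  have hs := Nat.find_spec hex
  rw [← hj] at hs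
  have hj0 : j ≠ 0 := by
    rintro rfl
    apply h
    simpa using hs
  obtain ⟨i, rfl⟩ := Nat.exists_eq_succ_of_ne_zero hj0
  have e : ((2 ^ i.succ : ℕ) : R m) = 2 * ((2 ^ i : ℕ) : R m) := by
    have : (2 ^ i.succ : ℕ) = 2 * 2 ^ i := by rw [pow_succ, mul_comm]
    rw [this, Nat.cast_mul]; rfl
  rw [e, mul_assoc, mul_assoc] at hs
  exact ⟨2 ^ i, Nat.find_min hex (by rw [← hj]; exact Nat.lt_succ_self i), hs.1, hs.2⟩

/-- The product of the three conjugates. -/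
def nu {C : Type*} [Group C] (ρ t : C) : C := t * cj ρ t * cj ρ (cj ρ t)

/-- `C_T(ρ)`. -/
def Dd {C : Type*} [Group C] {m : ℕ} (f : R m → R m → R m → C) (ρ : C) : Subgroup C :=
  Tor f ⊓ centralizer {ρ}

namespace XAct

variable {C : Type*} [Group C] {P : Subgroup C} {m : ℕ} {f : R m → R m → R m → C} {u ρ : C}

theorem cj_mem (_h : XAct P m f u ρ) {g t : C} (hg : g ∈ normalizer (Tor f : Set C)) (ht : t ∈ Tor f) :
    cj g t ∈ Tor f := (mem_normalizer_iff.1 hg t).1 ht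

theorem u_norm (h : XAct P m f u ρ) : u ∈ normalizer (Tor f : Set C) := by
  rw [mem_normalizer_iff]
  intro t
  constructor
  · intro ht; rw [h.u_inv]; exact h.conj_u_mem ht
  · intro ht
    have h1 := h.conj_u_mem ht
    have e : u * (u * t * u⁻¹) * u = t := by
      rw [h.u_inv]
      calc u * (u * t * u) * u = (u * u) * t * (u * u) := by group
        _ = t := by rw [h.u_u]; group
    rwa [e] at h1

theorem cj_u (h : XAct P m f u ρ) {p q r : R m} (hg : Good p q r) : cj u (f p q r) = f (-p) q (r + p) := by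
  rw [cj, h.u_inv]; exact h.u_f_u hg

theorem x1_mul_x2 (h : XAct P m f u ρ) : x1 f * x2 f = z1 f := by
  rw [x1, x2, z1, h.f_mul _ _ _ _ _ _ BOne.goodx1 BOne.goodx2, N_add_N, add_zero, zero_add]

theorem x2_mul_x3 (h : XAct P m f u ρ) : x2 f * x3 f = z3 f := by
  rw [x2, x3, z3, h.f_mul _ _ _ _ _ _ BOne.goodx2 BOne.goodx3, add_zero, zero_add]

theorem ρ_z1 (h : XAct P m f u ρ) : cj ρ (z1 f) = z3 f := by
  rw [← h.x1_mul_x2, cj_mul]
  change (ρ * x1 f * ρ⁻¹) * (ρ * x2 f * ρ⁻¹) = _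
  rw [h.ρ_x1, h.ρ_x2, h.x2_mul_x3]

theorem z1_ne_z3 (h : XAct P m f u ρ) : z1 f ≠ z3 f := by
  rw [z1, z3, Ne, h.f_eq_iff BOne.good1 BOne.good3]
  rintro ⟨h1, -, -⟩
  exact N_ne_zero h1.symm

theorem z3_ne (h : XAct P m f u ρ) : z3 f ≠ 1 := by
  rw [z3, Ne, h.f_eq_one_iff BOne.good3]
  rintro ⟨h1, -, -⟩
  exact N_ne_zero h1

theorem z1_mul_z3 (h : XAct P m f u ρ) : z1 f * z3 f ≠ 1 := by
  intro e
  have h1 : z3 f = z1 f := by
    calc z3 f = z1 f * z1 f * z3 f := by rw [h.z1_sq, one_mul]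
      _ = z1 f * (z1 f * z3 f) := mul_assoc _ _ _
      _ = z1 f := by rw [e, mul_one]
  exact h.z1_ne_z3 h1.symm

/-- Elements of the normaliser acting in the same way on the `x i` act in the same way on `T`. -/
theorem cj_eq (h : XAct P m f u ρ) {g e : C} (hg : g ∈ normalizer (Tor f : Set C))
    (he : e ∈ normalizer (Tor f : Set C)) (hX : ∀ i, cj g (X f i) = cj e (X f i)) {t : C} (ht : t ∈ Tor f) :
    cj g t = cj e t := by
  have h1 : e⁻¹ * g ∈ normalizer (Tor f : Set C) := mul_mem (inv_mem he) hg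
  have h2 := h.faithful _ h1 (fun i => by
    rw [← cj_eq_iff, ← cj_cj, hX, cj_inv_cj]) t ht
  rw [← cj_eq_iff, ← cj_cj] at h2
  calc cj g t = cj e (cj e⁻¹ (cj g t)) := (cj_cj_inv _ _).symm
    _ = cj e t := by rw [h2]

theorem ρ_x4 (h : XAct P m f u ρ) : cj ρ (x4 f) = x4 f := cj_eq_iff.2 (h.x4_cent ρ)

theorem cj_ρ_X (h : XAct P m f u ρ) (i : Fin 4) :
    cj ρ (X f i) = X f ((Equiv.swap (0 : Fin 4) 1 * Equiv.swap (1 : Fin 4) 2) i) := by
  fin_cases i
  · exact h.ρ_x1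
  · exact h.ρ_x2
  · exact h.ρ_x3
  · exact h.ρ_x4

theorem cj_u_X (h : XAct P m f u ρ) (i : Fin 4) : cj u (X f i) = X f (Equiv.swap (0 : Fin 4) 1 i) := by
  fin_cases i
  · change cj u (x1 f) = x2 f
    rw [x1, h.cj_u BOne.goodx1, neg_N, zero_add]; rfl
  · change cj u (x2 f) = x1 f
    rw [x2, h.cj_u BOne.goodx2, neg_N, N_add_N]; rfl
  · change cj u (x3 f) = x3 f
    rw [x3, h.cj_u BOne.goodx3, neg_zero, zero_add]
  · exact cj_eq_iff.2 (h.x4_cent u)

theorem cube (h : XAct P m f u ρ) {t : C} (ht : t ∈ Tor f) : cj ρ (cj ρ (cj ρ t)) = t := by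
  have h3 : ρ * ρ * ρ ∈ normalizer (Tor f : Set C) := mul_mem (mul_mem h.ρ_norm h.ρ_norm) h.ρ_norm
  have := h.cj_eq h3 (one_mem _) (fun i => by
    rw [one_cj, ← cj_cj, ← cj_cj, h.cj_ρ_X, h.cj_ρ_X, h.cj_ρ_X]
    congr 1
    revert i; decide) ht
  rw [one_cj] at this
  rw [cj_cj, cj_cj]
  exact this

theorem u_ρ (h : XAct P m f u ρ) {t : C} (ht : t ∈ Tor f) : cj u (cj ρ t) = cj ρ (cj ρ (cj u t)) := by
  have := h.cj_eq (mul_mem h.u_norm h.ρ_norm) (mul_mem (mul_mem h.ρ_norm h.ρ_norm) h.u_norm) (fun i => by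
    rw [← cj_cj, ← cj_cj, ← cj_cj, h.cj_ρ_X, h.cj_u_X, h.cj_u_X, h.cj_ρ_X, h.cj_ρ_X]
    congr 1
    revert i; decide) ht
  rw [cj_cj, cj_cj, cj_cj]
  exact this

theorem ρ_mem (h : XAct P m f u ρ) {t : C} (ht : t ∈ Tor f) : cj ρ t ∈ Tor f := h.cj_mem h.ρ_norm ht
theorem u_mem' (h : XAct P m f u ρ) {t : C} (ht : t ∈ Tor f) : cj u t ∈ Tor f := h.cj_mem h.u_norm ht

theorem nu_mem (h : XAct P m f u ρ) {t : C} (ht : t ∈ Tor f) : nu ρ t ∈ Tor f :=
  mul_mem (mul_mem ht (h.ρ_mem ht)) (h.ρ_mem (h.ρ_mem ht))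

theorem comm4 {a b c d : C} (h : b * c = c * b) : a * b * (c * d) = a * c * (b * d) := by
  calc a * b * (c * d) = a * (b * c) * d := by group
    _ = a * c * (b * d) := by rw [h]; group

theorem nu_mul (h : XAct P m f u ρ) {s t : C} (hs : s ∈ Tor f) (ht : t ∈ Tor f) :
    nu ρ (s * t) = nu ρ s * nu ρ t := by
  rw [nu, nu, nu, cj_mul, cj_mul]
  rw [comm4 (h.Tor_comm ht (h.ρ_mem hs)), comm4 (h.Tor_comm (mul_mem ht (h.ρ_mem ht)) (h.ρ_mem (h.ρ_mem hs)))]

theorem nu_one (_h : XAct P m f u ρ) : nu ρ 1 = 1 := by simp [nu, cj_one]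

theorem nu_inv (h : XAct P m f u ρ) {t : C} (ht : t ∈ Tor f) : nu ρ t⁻¹ = (nu ρ t)⁻¹ := by
  rw [eq_inv_iff_mul_eq_one, ← h.nu_mul (inv_mem ht) ht, inv_mul_cancel, h.nu_one]

theorem ρ_nu (h : XAct P m f u ρ) {t : C} (ht : t ∈ Tor f) : cj ρ (nu ρ t) = nu ρ t := by
  rw [nu, cj_mul, cj_mul, h.cube ht, h.Tor_comm (mul_mem (h.ρ_mem ht) (h.ρ_mem (h.ρ_mem ht))) ht, mul_assoc]

theorem nu_ρ (h : XAct P m f u ρ) {t : C} (ht : t ∈ Tor f) : nu ρ (cj ρ t) = nu ρ t := by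
  rw [← h.ρ_nu ht, nu, nu, cj_mul, cj_mul]

theorem u_nu (h : XAct P m f u ρ) {t : C} (ht : t ∈ Tor f) : cj u (nu ρ t) = nu ρ (cj u t) := by
  have h1 := h.u_mem' ht
  rw [nu, nu, cj_mul, cj_mul, h.u_ρ (h.ρ_mem ht), h.u_ρ ht, h.cube (h.ρ_mem h1), mul_assoc, mul_assoc,
    h.Tor_comm (h.ρ_mem (h.ρ_mem h1)) (h.ρ_mem h1)]

/-! ### `D` -/

theorem mem_Dd (_h : XAct P m f u ρ) {t : C} : t ∈ Dd f ρ ↔ t ∈ Tor f ∧ cj ρ t = t := by
  rw [Dd, mem_inf, mem_centralizer_singleton_iff, cj_eq_iff]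
  exact ⟨fun ⟨a, b⟩ => ⟨a, b.symm⟩, fun ⟨a, b⟩ => ⟨a, b.symm⟩⟩

theorem nu_mem_Dd (h : XAct P m f u ρ) {t : C} (ht : t ∈ Tor f) : nu ρ t ∈ Dd f ρ :=
  h.mem_Dd.2 ⟨h.nu_mem ht, h.ρ_nu ht⟩

theorem u_mem_Dd (h : XAct P m f u ρ) {t : C} (ht : t ∈ Dd f ρ) : cj u t ∈ Dd f ρ := by
  obtain ⟨h1, h2⟩ := h.mem_Dd.1 ht
  refine h.mem_Dd.2 ⟨h.u_mem' h1, ?_⟩
  have h3 := h.u_ρ h1
  rw [h2] at h3
  rw [h3, h.cube (h.u_mem' h1)]
  exact h3

theorem goodc (a : R m) : Good (2 * a) 0 (-a) := ⟨0, by ring⟩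

theorem Dd_le_Bu (h : XAct P m f u ρ) : Dd f ρ ≤ Bu f := by
  intro t ht
  obtain ⟨h1, h2⟩ := h.mem_Dd.1 ht
  obtain ⟨p, q, r, hg, rfl⟩ := h.mem_Tor.1 h1
  by_cases hp : p = 0
  · subst hp; exact h.f_mem_Bu hg
  exfalso
  have h3 : cj u (f p q r) * (f p q r)⁻¹ ∈ Dd f ρ := mul_mem (h.u_mem_Dd ht) (inv_mem ht)
  rw [h.cj_u hg, h.f_inv hg, h.f_mul _ _ _ _ _ _ hg.actu hg.neg] at h3
  have e1 : -p + -p = 2 * (-p) := by ring
  have e2 : q + -q = 0 := by ring
  have e3 : r + p + -r = -(-p) := by ring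
  rw [e1, e2, e3] at h3
  obtain ⟨k, hk, hk2, -⟩ := exists_pair (m := m) (a := p) (b := 0) (fun hh => hp hh.1)
  have hkp : (k : R m) * p = N m := by
    rcases eq_of_two_mul hk2 with h4 | h4
    · exact absurd ⟨h4, by rw [mul_zero]⟩ hk
    · exact h4
  have h5 := pow_mem h3 k
  rw [h.f_pow (goodc (-p)) k] at h5
  have e4 : (k : R m) * (2 * -p) = 0 := by linear_combination -2 * hkp - two_mul_N (m := m)
  have e5 : (k : R m) * -(-p) = N m := by linear_combination hkp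
  rw [e4, mul_zero, e5] at h5
  have h6 := (h.mem_Dd.1 h5).2
  have h7 := h.ρ_z1
  rw [z1] at h7
  rw [h7] at h6
  exact h.z1_ne_z3 h6.symm

theorem u_comm_Dd (h : XAct P m f u ρ) {t : C} (ht : t ∈ Dd f ρ) : cj u t = t := by
  obtain ⟨q, r, hg, rfl⟩ := h.mem_Bu.1 (h.Dd_le_Bu ht)
  rw [h.cj_u hg, neg_zero, add_zero]

theorem nu_u (h : XAct P m f u ρ) {t : C} (ht : t ∈ Tor f) : nu ρ (cj u t) = nu ρ t := by
  rw [← h.u_nu ht, h.u_comm_Dd (h.nu_mem_Dd ht)]

theorem comm_Dd (h : XAct P m f u ρ) {s t : C} (hs : s ∈ P) (ht : t ∈ Dd f ρ) : s * t = t * s :=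
  (h.Bu_comm (h.Dd_le_Bu ht) hs).symm

/-- The normaliser of `T` is generated by `ρ`, `u` as far as the action on `T` is concerned. -/
theorem exists_word (h : XAct P m f u ρ) {g : C} (hg : g ∈ normalizer (Tor f : Set C)) :
    ∃ i j : ℕ, ∀ t ∈ Tor f, cj g t = cj (ρ ^ i * u ^ j) t := by
  obtain ⟨σ, hσ⟩ := h.perm g hg
  have hX : ∀ i j : Fin 4, X f i = X f j → i = j := by
    have hN : (N m : R m) ≠ 0 := N_ne_zero
    have e12 : x1 f ≠ x2 f := by
      rw [x1, x2, Ne, h.f_eq_iff BOne.goodx1 BOne.goodx2]; rintro ⟨-, -, h3⟩; exact hN h3.symm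
    have e13 : x1 f ≠ x3 f := by
      rw [x1, x3, Ne, h.f_eq_iff BOne.goodx1 BOne.goodx3]; rintro ⟨h3, -, -⟩; exact hN h3
    have e14 : x1 f ≠ x4 f := by
      rw [x1, x4, Ne, h.f_eq_iff BOne.goodx1 BOne.goodx4]; rintro ⟨h3, -, -⟩; exact hN h3
    have e23 : x2 f ≠ x3 f := by
      rw [x2, x3, Ne, h.f_eq_iff BOne.goodx2 BOne.goodx3]; rintro ⟨h3, -, -⟩; exact hN h3
    have e24 : x2 f ≠ x4 f := by
      rw [x2, x4, Ne, h.f_eq_iff BOne.goodx2 BOne.goodx4]; rintro ⟨h3, -, -⟩; exact hN h3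
    have e34 : x3 f ≠ x4 f := by
      rw [x3, x4, Ne, h.f_eq_iff BOne.goodx3 BOne.goodx4]; rintro ⟨-, -, h3⟩; exact hN h3.symm
    intro i j hij
    fin_cases i <;> fin_cases j <;> simp [X] at hij ⊢
    · exact e12 hij
    · exact e13 hij
    · exact e14 hij
    · exact e12 hij.symm
    · exact e23 hij
    · exact e24 hij
    · exact e13 hij.symm
    · exact e23 hij.symm
    · exact e34 hij
    · exact e14 hij.symm
    · exact e24 hij.symm
    · exact e34 hij.symm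
  have h3 : σ 3 = 3 := by
    apply hX
    rw [← hσ 3]
    exact cj_eq_iff.2 (h.x4_cent g)
  have key : ∀ σ : Equiv.Perm (Fin 4), σ 3 = 3 → ∃ i : Fin 3, ∃ j : Fin 2,
      σ = (Equiv.swap (0 : Fin 4) 1 * Equiv.swap (1 : Fin 4) 2) ^ (i : ℕ) * (Equiv.swap (0 : Fin 4) 1) ^ (j : ℕ) := by
    (set_option synthInstance.maxSize 9000 in open scoped Cfsg.Agent.Lib.FastPerm in decide +kernel)
  obtain ⟨i, j, hij⟩ := key σ h3
  refine ⟨i, j, fun t ht => ?_⟩
  have hpowρ : ∀ (n : ℕ) (k : Fin 4), cj (ρ ^ n) (X f k) =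
      X f (((Equiv.swap (0 : Fin 4) 1 * Equiv.swap (1 : Fin 4) 2) ^ n) k) := by
    intro n
    induction n with
    | zero => intro k; simp [one_cj]
    | succ n ih => intro k; rw [pow_succ', ← cj_cj, ih, h.cj_ρ_X, pow_succ']; rfl
  have hpowu : ∀ (n : ℕ) (k : Fin 4), cj (u ^ n) (X f k) = X f (((Equiv.swap (0 : Fin 4) 1) ^ n) k) := by
    intro n
    induction n with
    | zero => intro k; simp [one_cj]
    | succ n ih => intro k; rw [pow_succ', ← cj_cj, ih, h.cj_u_X, pow_succ']; rfl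
  refine h.cj_eq hg (mul_mem (pow_mem h.ρ_norm _) (pow_mem h.u_norm _)) (fun k => ?_) ht
  rw [← cj_cj, hpowu, hpowρ]
  have := hσ k
  rw [hij] at this
  exact this

theorem cj_Dd (h : XAct P m f u ρ) {g : C} (hg : g ∈ normalizer (Tor f : Set C)) {t : C} (ht : t ∈ Dd f ρ) :
    cj g t = t := by
  obtain ⟨i, j, hij⟩ := h.exists_word hg
  rw [hij t (h.mem_Dd.1 ht).1, ← cj_cj]
  have h1 : ∀ n : ℕ, cj (u ^ n) t = t := by
    intro n
    induction n with
    | zero => simp [one_cj]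
    | succ n ih => rw [pow_succ', ← cj_cj, ih, h.u_comm_Dd ht]
  have h2 : ∀ n : ℕ, cj (ρ ^ n) t = t := by
    intro n
    induction n with
    | zero => simp [one_cj]
    | succ n ih => rw [pow_succ', ← cj_cj, ih, (h.mem_Dd.1 ht).2]
  rw [h1, h2]

theorem nu_cj (h : XAct P m f u ρ) {g : C} (hg : g ∈ normalizer (Tor f : Set C)) {t : C} (ht : t ∈ Tor f) :
    nu ρ (cj g t) = nu ρ t := by
  obtain ⟨i, j, hij⟩ := h.exists_word hg
  rw [hij t ht, ← cj_cj]
  have h1 : ∀ n : ℕ, ∀ s ∈ Tor f, cj (u ^ n) s ∈ Tor f ∧ nu ρ (cj (u ^ n) s) = nu ρ s := by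
    intro n
    induction n with
    | zero => intro s hs; simp [one_cj, hs]
    | succ n ih =>
      intro s hs
      rw [pow_succ', ← cj_cj]
      exact ⟨h.u_mem' (ih s hs).1, by rw [h.nu_u (ih s hs).1, (ih s hs).2]⟩
  have h2 : ∀ n : ℕ, ∀ s ∈ Tor f, nu ρ (cj (ρ ^ n) s) = nu ρ s ∧ cj (ρ ^ n) s ∈ Tor f := by
    intro n
    induction n with
    | zero => intro s hs; simp [one_cj, hs]
    | succ n ih =>
      intro s hs
      rw [pow_succ', ← cj_cj]
      exact ⟨by rw [h.nu_ρ (ih s hs).2, (ih s hs).1], h.ρ_mem (ih s hs).2⟩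
  rw [(h2 i _ (h1 j t ht).1).1, (h1 j t ht).2]

end XAct

end Cfsg.Agent.LFourB
end

-- part: LFourB/CentXDecomp
section
/-!
# The centraliser of `x4`: the decomposition `P = W × D`

`T1 = {t ∈ T | t t^ρ t^(ρ^2) = 1}` is homocyclic of order `2 ^ (2 (m + 3))`, `W = T1 ⟨x4 u⟩` is wreathed and `P = W × D`.
-/

set_option autoImplicit false

namespace Cfsg.Agent.LFourB

open Subgroup

namespace XAct

variable {C : Type*} [Group C] {P : Subgroup C} {m : ℕ} {f : R m → R m → R m → C} {u ρ : C}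

/-- `[T, ρ]` -/
def Tone (h : XAct P m f u ρ) : Subgroup C where
  carrier := {t | t ∈ Tor f ∧ nu ρ t = 1}
  one_mem' := ⟨one_mem _, h.nu_one⟩
  mul_mem' := fun ⟨ha, ha'⟩ ⟨hb, hb'⟩ => ⟨mul_mem ha hb, by rw [h.nu_mul ha hb, ha', hb', one_mul]⟩
  inv_mem' := fun ⟨ha, ha'⟩ => ⟨inv_mem ha, by rw [h.nu_inv ha, ha', inv_one]⟩

theorem Tone_le (h : XAct P m f u ρ) : h.Tone ≤ Tor f := fun _ ht => ht.1

theorem comm_T (h : XAct P m f u ρ) : ∀ {a b : C}, a ∈ Tor f → b ∈ Tor f → a * b = b * a := h.Tor_comm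

/-- `diag (a, -a, 0, 0)` -/
def c0 (f : R m → R m → R m → C) (a : R m) : C := f (2 * a) 0 (-a)

/-- its conjugate -/
def c1 (f : R m → R m → R m → C) (ρ : C) (a : R m) : C := cj ρ (c0 f a)

theorem c0_mem_Tor (h : XAct P m f u ρ) (a : R m) : c0 f a ∈ Tor f := h.f_mem_Tor (goodc a)

theorem c0_add (h : XAct P m f u ρ) (a b : R m) : c0 f (a + b) = c0 f a * c0 f b := by
  rw [c0, c0, c0, h.f_mul _ _ _ _ _ _ (goodc a) (goodc b)]
  congr 1 <;> ring

theorem c0_comm (h : XAct P m f u ρ) (a : R m) {t : C} (ht : t ∈ Tor f) : c0 f a * t = t * c0 f a :=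
  h.Tor_comm (h.c0_mem_Tor a) ht

theorem cj_u_mul_inv (h : XAct P m f u ρ) {p q r : R m} (hg : Good p q r) :
    cj u (f p q r) = c0 f (-p) * f p q r := by
  rw [h.cj_u hg, c0, h.f_mul _ _ _ _ _ _ (goodc (-p)) hg]
  congr 1 <;> ring

theorem exists_cj_u (h : XAct P m f u ρ) {t : C} (ht : t ∈ Tor f) : ∃ a, cj u t = c0 f a * t := by
  obtain ⟨p, q, r, hg, rfl⟩ := h.mem_Tor.1 ht
  exact ⟨_, h.cj_u_mul_inv hg⟩

theorem c0_mem (h : XAct P m f u ρ) (a : R m) : c0 f a ∈ h.Tone := by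
  refine ⟨h.c0_mem_Tor a, ?_⟩
  have hg : Good (-a) a (0 : R m) := ⟨0, by ring⟩
  have ht := h.f_mem_Tor hg
  have h1 := h.cj_u_mul_inv hg
  rw [neg_neg] at h1
  have h2 : c0 f a = cj u (f (-a) a 0) * (f (-a) a 0)⁻¹ := by rw [h1, mul_inv_cancel_right]
  rw [h2, h.nu_mul (h.u_mem' ht) (inv_mem ht), h.nu_u ht, h.nu_inv ht, mul_inv_cancel]

theorem u_c0 (h : XAct P m f u ρ) (a : R m) : cj u (c0 f a) = c0 f (-a) := by
  rw [c0, h.cj_u (goodc a), c0]
  congr 1 <;> ring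

theorem ρ_mem_Tone (h : XAct P m f u ρ) {t : C} (ht : t ∈ h.Tone) : cj ρ t ∈ h.Tone :=
  ⟨h.ρ_mem ht.1, by rw [h.nu_ρ ht.1, ht.2]⟩

theorem u_mem_Tone (h : XAct P m f u ρ) {t : C} (ht : t ∈ h.Tone) : cj u t ∈ h.Tone :=
  ⟨h.u_mem' ht.1, by rw [h.nu_u ht.1, ht.2]⟩

theorem c1_mem (h : XAct P m f u ρ) (a : R m) : c1 f ρ a ∈ h.Tone := h.ρ_mem_Tone (h.c0_mem a)

theorem c1_add (h : XAct P m f u ρ) (a b : R m) : c1 f ρ (a + b) = c1 f ρ a * c1 f ρ b := by
  rw [c1, h.c0_add, cj_mul]; rfl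

theorem c0_zero (h : XAct P m f u ρ) : c0 f (0 : R m) = 1 := by
  rw [c0, mul_zero, neg_zero, h.f_zero]

theorem c1_zero (h : XAct P m f u ρ) : c1 f ρ (0 : R m) = 1 := by
  rw [c1, h.c0_zero, cj_one]

theorem c0_neg (h : XAct P m f u ρ) (a : R m) : c0 f (-a) = (c0 f a)⁻¹ := by
  rw [eq_inv_iff_mul_eq_one, ← h.c0_add, neg_add_cancel, h.c0_zero]

theorem c1_neg (h : XAct P m f u ρ) (a : R m) : c1 f ρ (-a) = (c1 f ρ a)⁻¹ := by
  rw [eq_inv_iff_mul_eq_one, ← h.c1_add, neg_add_cancel, h.c1_zero]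

theorem c2 (h : XAct P m f u ρ) (a : R m) : cj ρ (c1 f ρ a) = c0 f (-a) * c1 f ρ (-a) := by
  have h1 := (h.c0_mem a).2
  rw [nu] at h1
  have h2 := eq_inv_of_mul_eq_one_right h1
  change cj ρ (cj ρ (c0 f a)) = _
  rw [h2, mul_inv_rev, ← h.c0_neg, h.c0_comm (-a) (h.c1_mem (-a)).1, h.c1_neg]
  rfl

/-- Products `c0 a * c1 b`. -/
def Is (f : R m → R m → R m → C) (ρ t : C) : Prop := ∃ a b, t = c0 f a * c1 f ρ b

theorem Is.mul (h : XAct P m f u ρ) {s t : C} (hs : Is f ρ s) (ht : Is f ρ t) : Is f ρ (s * t) := by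
  obtain ⟨a, b, rfl⟩ := hs
  obtain ⟨a', b', rfl⟩ := ht
  refine ⟨a + a', b + b', ?_⟩
  rw [h.c0_add, h.c1_add, comm4 (h.comm_T (h.c1_mem b).1 (h.c0_mem a').1)]

theorem Is.inv (h : XAct P m f u ρ) {s : C} (hs : Is f ρ s) : Is f ρ s⁻¹ := by
  obtain ⟨a, b, rfl⟩ := hs
  refine ⟨-a, -b, ?_⟩
  rw [mul_inv_rev, h.c0_neg, h.c1_neg, h.comm_T (inv_mem (h.c1_mem b).1) (inv_mem (h.c0_mem a).1)]

theorem Is.one (h : XAct P m f u ρ) : Is f ρ 1 := ⟨0, 0, by rw [h.c0_zero, h.c1_zero, one_mul]⟩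

theorem Is.pow (h : XAct P m f u ρ) {s : C} (hs : Is f ρ s) (n : ℕ) : Is f ρ (s ^ n) := by
  induction n with
  | zero => rw [pow_zero]; exact Is.one h
  | succ n ih => rw [pow_succ]; exact Is.mul h ih hs

theorem Is.mem (h : XAct P m f u ρ) {s : C} (hs : Is f ρ s) : s ∈ h.Tone := by
  obtain ⟨a, b, rfl⟩ := hs
  exact mul_mem (h.c0_mem a) (h.c1_mem b)

theorem is_step (h : XAct P m f u ρ) {t : C} (ht : t ∈ Tor f) : ∃ s, Is f ρ s ∧ cj ρ (cj ρ t) = s * cj ρ t := by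
  obtain ⟨x, hx⟩ := h.exists_cj_u ht
  obtain ⟨y, hy⟩ := h.exists_cj_u (h.ρ_mem ht)
  have h1 : cj ρ (cj ρ t) = cj u (cj ρ (cj u t)) := by
    rw [h.u_ρ (h.u_mem' ht), cj_cj u u, h.u_u, one_cj]
  refine ⟨c0 f x * c1 f ρ x * c0 f y, ?_, ?_⟩
  · exact Is.mul h ⟨x, x, rfl⟩ ⟨y, 0, by rw [h.c1_zero, mul_one]⟩
  · rw [h1, hx, cj_mul, cj_mul, hy]
    have h2 : cj u (cj ρ (c0 f x)) = c0 f x * c1 f ρ x := by
      rw [h.u_ρ (h.c0_mem_Tor x), h.u_c0]
      have := h.c2 (-x)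
      rw [neg_neg] at this
      exact this
    rw [h2, mul_assoc (c0 f x * c1 f ρ x)]

theorem is_ρ (h : XAct P m f u ρ) {t : C} (ht : t ∈ Tor f) : ∃ s, Is f ρ s ∧ cj ρ t = s * t := by
  obtain ⟨s, hs, h1⟩ := h.is_step (h.ρ_mem (h.ρ_mem ht))
  rw [h.cube ht] at h1
  exact ⟨s, hs, h1⟩

theorem is_iff (h : XAct P m f u ρ) {t : C} (ht : t ∈ h.Tone) : Is f ρ t := by
  have htT := ht.1
  obtain ⟨s, hs, h1⟩ := h.is_ρ htT
  obtain ⟨s', hs', h2⟩ := h.is_ρ (h.ρ_mem htT)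
  have h3 : nu ρ t = 1 := ht.2
  rw [nu, h2, h1] at h3
  have hsT := (Is.mem h hs).1
  have hsT' := (Is.mem h hs').1
  have h4 : t ^ 3 = (s * s * s')⁻¹ := by
    rw [eq_inv_iff_mul_eq_one, ← h3]
    have e1 : t * (s * t) * (s' * (s * t)) = t * s * t * s' * s * t := by group
    have e2 : t ^ 3 * (s * s * s') = t * t * t * s * s * s' := by rw [pow_succ, pow_two]; group
    rw [e1, e2]
    have ha := h.comm_T htT hsT
    have hb := h.comm_T htT hsT'
    have hc := h.comm_T hsT hsT'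
    calc t * t * t * s * s * s' = t * t * (t * s) * (s * s') := by group
      _ = t * t * (s * t) * (s' * s) := by rw [ha, hc]
      _ = t * (t * s) * (t * s') * s := by group
      _ = t * (s * t) * (s' * t) * s := by rw [ha, hb]
      _ = t * s * t * s' * (t * s) := by group
      _ = t * s * t * s' * (s * t) := by rw [ha]
      _ = t * s * t * s' * s * t := by group
  have h5 : Is f ρ (t ^ 3) := by rw [h4]; exact Is.inv h (Is.mul h (Is.mul h hs hs) hs')
  have hord : orderOf t ∣ 2 ^ (3 * m + 7) := by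
    rw [← h.card_Tor, ← Subgroup.orderOf_mk t htT]
    exact _root_.orderOf_dvd_natCard _
  have hcop : Nat.Coprime 3 (orderOf t) := by
    refine Nat.Coprime.coprime_dvd_right hord ?_
    exact Nat.Coprime.pow_right _ (by norm_num)
  obtain ⟨k, hk⟩ := exists_pow_eq_self_of_coprime hcop
  rw [← hk]
  exact Is.pow h h5 k

theorem orderOf_dvd (h : XAct P m f u ρ) {t : C} (ht : t ∈ Tor f) : orderOf t ∣ 2 ^ (3 * m + 7) := by
  rw [← h.card_Tor, ← Subgroup.orderOf_mk t ht]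
  exact _root_.orderOf_dvd_natCard _

theorem exists_cuberoot (h : XAct P m f u ρ) {t : C} (ht : t ∈ Tor f) : ∃ k : ℕ, (t ^ 3) ^ k = t := by
  have hcop : Nat.Coprime 3 (orderOf t) := by
    refine Nat.Coprime.coprime_dvd_right (h.orderOf_dvd ht) ?_
    exact Nat.Coprime.pow_right _ (by norm_num)
  exact exists_pow_eq_self_of_coprime hcop

theorem c0_pow (h : XAct P m f u ρ) (a : R m) (k : ℕ) : c0 f a ^ k = c0 f ((k : R m) * a) := by
  rw [c0, h.f_pow (goodc a), c0]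
  congr 1 <;> ring

theorem c1_pow (h : XAct P m f u ρ) (a : R m) (k : ℕ) : c1 f ρ a ^ k = c1 f ρ ((k : R m) * a) := by
  rw [c1, ← cj_pow, h.c0_pow]; rfl

theorem c0_N (_h : XAct P m f u ρ) : c0 f (N m) = z1 f := by
  rw [c0, two_mul_N, neg_N]; rfl

theorem c1_N (h : XAct P m f u ρ) : c1 f ρ (N m) = z3 f := by
  rw [c1, h.c0_N, h.ρ_z1]

theorem indep (h : XAct P m f u ρ) {a b : R m} (hab : c0 f a * c1 f ρ b = 1) : a = 0 ∧ b = 0 := by
  by_contra hne
  obtain ⟨k, hk, hk1, hk2⟩ := exists_pair hne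
  have h1 : c0 f ((k : R m) * a) * c1 f ρ ((k : R m) * b) = 1 := by
    rw [← h.c0_pow, ← h.c1_pow, ← (show Commute (c0 f a) (c1 f ρ b) from
      h.comm_T (h.c0_mem a).1 (h.c1_mem b).1).mul_pow, hab, one_pow]
  rcases eq_of_two_mul hk1 with h2 | h2 <;> rcases eq_of_two_mul hk2 with h3 | h3
  · exact hk ⟨h2, h3⟩
  · rw [h2, h3, h.c0_zero, h.c1_N, one_mul] at h1
    exact h.z3_ne h1
  · rw [h2, h3, h.c1_zero, h.c0_N, mul_one] at h1
    exact h.z1_ne h1
  · rw [h2, h3, h.c1_N, h.c0_N] at h1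
    exact h.z1_mul_z3 h1

theorem card_Tone (h : XAct P m f u ρ) : Nat.card h.Tone = 2 ^ (2 * (m + 3)) := by
  let F : R m × R m → h.Tone := fun v => ⟨c0 f v.1 * c1 f ρ v.2, mul_mem (h.c0_mem _) (h.c1_mem _)⟩
  have hF : Function.Bijective F := by
    constructor
    · rintro ⟨a, b⟩ ⟨a', b'⟩ he
      have h1 : c0 f a * c1 f ρ b = c0 f a' * c1 f ρ b' := congrArg Subtype.val he
      have h2 : c0 f (a - a') * c1 f ρ (b - b') = 1 := by
        rw [sub_eq_add_neg, sub_eq_add_neg, h.c0_add, h.c1_add,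
          comm4 (h.comm_T (h.c0_mem (-a')).1 (h.c1_mem b).1), h1, h.c0_neg, h.c1_neg,
          ← comm4 (h.comm_T (inv_mem (h.c0_mem a').1) (h.c1_mem b').1), mul_inv_cancel, mul_inv_cancel, one_mul]
      obtain ⟨h3, h4⟩ := h.indep h2
      rw [Prod.mk.injEq]
      exact ⟨sub_eq_zero.1 h3, sub_eq_zero.1 h4⟩
    · rintro ⟨t, ht⟩
      obtain ⟨a, b, rfl⟩ := h.is_iff ht
      exact ⟨(a, b), rfl⟩
  rw [← Nat.card_congr (Equiv.ofBijective F hF), Nat.card_prod, Nat.card_zmod, ← pow_add]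
  congr 1
  ring

/-! ### `D` -/

theorem nu_Dd (h : XAct P m f u ρ) {t : C} (ht : t ∈ Dd f ρ) : nu ρ t = t ^ 3 := by
  have h1 := (h.mem_Dd.1 ht).2
  rw [nu, h1, h1, pow_succ, pow_two]

theorem Dd_le (h : XAct P m f u ρ) : Dd f ρ ≤ Tor f := fun _ ht => (h.mem_Dd.1 ht).1

theorem Tone_inf_Dd (h : XAct P m f u ρ) {t : C} (h1 : t ∈ h.Tone) (h2 : t ∈ Dd f ρ) : t = 1 := by
  obtain ⟨k, hk⟩ := h.exists_cuberoot h1.1
  rw [← hk, ← h.nu_Dd h2, h1.2, one_pow]

theorem exists_decomp (h : XAct P m f u ρ) {t : C} (ht : t ∈ Tor f) :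
    ∃ a ∈ h.Tone, ∃ d ∈ Dd f ρ, t = a * d := by
  have hd := h.nu_mem_Dd ht
  have ha : t ^ 3 * (nu ρ t)⁻¹ ∈ h.Tone := by
    refine ⟨mul_mem (pow_mem ht 3) (inv_mem (h.nu_mem ht)), ?_⟩
    rw [h.nu_mul (pow_mem ht 3) (inv_mem (h.nu_mem ht)), h.nu_inv (h.nu_mem ht), h.nu_Dd hd]
    have : nu ρ (t ^ 3) = (nu ρ t) ^ 3 := by
      rw [pow_succ, pow_two, h.nu_mul (mul_mem ht ht) ht, h.nu_mul ht ht, pow_succ, pow_two]
    rw [this, mul_inv_cancel]
  obtain ⟨k, hk⟩ := h.exists_cuberoot ht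
  refine ⟨(t ^ 3 * (nu ρ t)⁻¹) ^ k, pow_mem ha k, (nu ρ t) ^ k, pow_mem hd k, ?_⟩
  rw [← (show Commute (t ^ 3 * (nu ρ t)⁻¹) (nu ρ t) from h.comm_T (h.Tone_le ha) (h.Dd_le hd)).mul_pow,
    inv_mul_cancel_right, hk]

theorem card_Dd (h : XAct P m f u ρ) : Nat.card (Dd f ρ) = 2 ^ (m + 1) := by
  let F : h.Tone × Dd f ρ → Tor f := fun v => ⟨v.1 * v.2, mul_mem (h.Tone_le v.1.2) (h.Dd_le v.2.2)⟩
  have hF : Function.Bijective F := by
    constructor
    · rintro ⟨a, b⟩ ⟨a', b'⟩ he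
      have h1 : (a : C) * b = a' * b' := congrArg Subtype.val he
      have h2 : (a' : C)⁻¹ * a = b' * (b : C)⁻¹ := by
        rw [inv_mul_eq_iff_eq_mul, ← mul_assoc, ← h1, mul_inv_cancel_right]
      have h3 : (a' : C)⁻¹ * a = 1 := h.Tone_inf_Dd (mul_mem (inv_mem a'.2) a.2)
        (h2 ▸ mul_mem b'.2 (inv_mem b.2))
      have h4 : (a : C) = a' := by rw [inv_mul_eq_one] at h3; exact h3.symm
      rw [Prod.mk.injEq]
      refine ⟨Subtype.ext h4, Subtype.ext ?_⟩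
      rw [h4] at h1
      exact mul_left_cancel h1
    · rintro ⟨t, ht⟩
      obtain ⟨a, ha, d, hd, rfl⟩ := h.exists_decomp ht
      exact ⟨(⟨a, ha⟩, ⟨d, hd⟩), rfl⟩
  have h1 := Nat.card_congr (Equiv.ofBijective F hF)
  rw [Nat.card_prod, h.card_Tor, h.card_Tone] at h1
  have h2 : 2 ^ (3 * m + 7) = 2 ^ (2 * (m + 3)) * 2 ^ (m + 1) := by rw [← pow_add]; congr 1; ring
  rw [h2] at h1
  exact Nat.eq_of_mul_eq_mul_left (by positivity) h1

/-- The generator of `D`. -/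
def y (f : R m → R m → R m → C) (ρ : C) : C := nu ρ (yy f)

theorem yy_mem (h : XAct P m f u ρ) : yy f ∈ Tor f := h.f_mem_Tor BOne.goodyy

theorem y_mem (h : XAct P m f u ρ) : y f ρ ∈ Dd f ρ := h.nu_mem_Dd h.yy_mem

theorem nu_pow (h : XAct P m f u ρ) {t : C} (ht : t ∈ Tor f) (k : ℕ) : nu ρ (t ^ k) = (nu ρ t) ^ k := by
  induction k with
  | zero => rw [pow_zero, pow_zero, h.nu_one]
  | succ k ih => rw [pow_succ, h.nu_mul (pow_mem ht k) ht, ih, pow_succ]

theorem x4_mem_Dd (h : XAct P m f u ρ) : x4 f ∈ Dd f ρ := h.mem_Dd.2 ⟨h.Bu_le h.x4_mem, h.ρ_x4⟩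

theorem x4_sq (h : XAct P m f u ρ) : x4 f * x4 f = 1 := by
  rw [x4, h.f_mul _ _ _ _ _ _ BOne.goodx4 BOne.goodx4, N_add_N, add_zero, h.f_zero]

theorem x4_ne (h : XAct P m f u ρ) : x4 f ≠ 1 := by
  rw [x4, Ne, h.f_eq_one_iff BOne.goodx4]
  rintro ⟨-, h1, -⟩
  exact N_ne_zero h1

theorem nu_x4 (h : XAct P m f u ρ) : nu ρ (x4 f) = x4 f := by
  rw [h.nu_Dd h.x4_mem_Dd, pow_succ, pow_two, h.x4_sq, one_mul]

theorem y_pow (h : XAct P m f u ρ) : y f ρ ^ 2 ^ m = x4 f := by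
  rw [y, ← h.nu_pow h.yy_mem, yy, h.f_pow BOne.goodyy]
  have h1 : ((2 ^ m : ℕ) : R m) * 4 = N m := by rw [N_eq]; ring
  rw [mul_zero, h1]
  exact h.nu_x4

theorem orderOf_y (h : XAct P m f u ρ) : orderOf (y f ρ) = 2 ^ (m + 1) := by
  have : Fact (Nat.Prime 2) := ⟨Nat.prime_two⟩
  apply orderOf_eq_prime_pow
  · rw [h.y_pow]; exact h.x4_ne
  · rw [pow_succ, pow_mul, h.y_pow, pow_two, h.x4_sq]

/-! ### `W` -/

theorem x4u_sq (h : XAct P m f u ρ) : x4 f * u * (x4 f * u) = 1 := by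
  have h1 := h.x4_cent u
  calc x4 f * u * (x4 f * u) = x4 f * (u * x4 f) * u := by group
    _ = (x4 f * x4 f) * (u * u) := by rw [h1]; group
    _ = 1 := by rw [h.x4_sq, h.u_u, one_mul]

theorem cj_x4u (h : XAct P m f u ρ) (t : C) : cj (x4 f * u) t = cj u t := by
  rw [← cj_cj, cj_eq_iff]
  exact (h.x4_cent _).symm

/-- The wreathed factor. -/
def Wr (h : XAct P m f u ρ) : Subgroup C := h.Tone ⊔ zpowers (x4 f * u)

theorem mem_Wr (h : XAct P m f u ρ) {g : C} : g ∈ h.Wr ↔ ∃ b ∈ h.Tone, g = b ∨ g = b * (x4 f * u) := by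
  refine mem_sup_zpowers h.x4u_sq (fun b hb => ?_)
  have h1 : x4 f * u * b * (x4 f * u) = cj (x4 f * u) b := by
    rw [cj, inv_eq_of_mul_eq_one_left h.x4u_sq]
  rw [h1, h.cj_x4u]
  exact h.u_mem_Tone hb

theorem x4u_mem (h : XAct P m f u ρ) : x4 f * u ∈ h.Wr := mem_sup_right (mem_zpowers _)

theorem Tone_le_Wr (h : XAct P m f u ρ) : h.Tone ≤ h.Wr := le_sup_left

theorem Wr_le (h : XAct P m f u ρ) : h.Wr ≤ P := by
  intro g hg
  obtain ⟨b, hb, rfl | rfl⟩ := h.mem_Wr.1 hg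
  · exact h.Tor_le hb.1
  · exact mul_mem (h.Tor_le hb.1) (mul_mem (h.Tor_le (h.Bu_le h.x4_mem)) h.u_mem)

theorem x4u_notMem (h : XAct P m f u ρ) {t : C} (ht : t ∈ Tor f) : t * (x4 f * u) ∉ Tor f := by
  rw [← mul_assoc]
  exact h.tu_notMem (mul_mem ht (h.Bu_le h.x4_mem))

theorem card_Wr (h : XAct P m f u ρ) : Nat.card h.Wr = 2 ^ (2 * (m + 3) + 1) := by
  let F : Bool × h.Tone → h.Wr := fun v =>
    ⟨if v.1 then (v.2 : C) * (x4 f * u) else v.2, h.mem_Wr.2 ⟨v.2, v.2.2, by cases v.1 <;> simp only [_root_.Bool.false_eq_true, ↓ _root_.reduceIte, _root_.left_eq_mul, _root_.true_or, _root_.mul_eq_left, _root_.or_true]⟩⟩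
  have hF : Function.Bijective F := by
    constructor
    · rintro ⟨i, a⟩ ⟨j, b⟩ he
      have h1 : (if i then (a : C) * (x4 f * u) else a) = if j then (b : C) * (x4 f * u) else b :=
        congrArg Subtype.val he
      cases i <;> cases j
      · simp only [Bool.false_eq_true, ↓reduceIte] at h1
        rw [Prod.mk.injEq]; exact ⟨rfl, Subtype.ext h1⟩
      · simp only [Bool.false_eq_true, ↓reduceIte] at h1
        exact absurd (h1 ▸ h.Tone_le a.2) (h.x4u_notMem (h.Tone_le b.2))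
      · simp only [Bool.false_eq_true, ↓reduceIte] at h1
        exact absurd (h1.symm ▸ h.Tone_le b.2) (h.x4u_notMem (h.Tone_le a.2))
      · simp only [↓reduceIte] at h1
        rw [Prod.mk.injEq]; exact ⟨rfl, Subtype.ext (mul_right_cancel h1)⟩
    · rintro ⟨g, hg⟩
      obtain ⟨b, hb, hb' | hb'⟩ := h.mem_Wr.1 hg
      · exact ⟨(false, ⟨b, hb⟩), by simp [F, hb']⟩
      · exact ⟨(true, ⟨b, hb⟩), by simp [F, hb']⟩
  rw [← Nat.card_congr (Equiv.ofBijective F hF), Nat.card_prod, h.card_Tone, Nat.card_eq_fintype_card,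
    Fintype.card_bool, pow_succ, mul_comm]

theorem isWreathed (h : XAct P m f u ρ) : Cfsg.IsWreathed h.Wr := by
  have : Fact (Nat.Prime 2) := ⟨Nat.prime_two⟩
  have hx := h.Tone_le_Wr (h.c1_mem 1)
  have hy := h.Tone_le_Wr (mul_mem (h.c0_mem 1) (h.c1_mem 1))
  refine ⟨m + 3, by omega, h.card_Wr, ⟨c1 f ρ 1, hx⟩, ⟨c0 f 1 * c1 f ρ 1, hy⟩, ⟨x4 f * u, h.x4u_mem⟩,
    ?_, ?_, ?_, ?_, ?_⟩
  · rw [Subgroup.orderOf_mk]
    have h1 : ∀ k : ℕ, c1 f ρ (1 : R m) ^ k = 1 ↔ (k : R m) = 0 := by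
      intro k
      rw [h.c1_pow, mul_one]
      constructor
      · intro h2
        exact (h.indep (a := 0) (by rw [h.c0_zero, one_mul]; exact h2)).2
      · intro h2; rw [h2, h.c1_zero]
    apply orderOf_eq_prime_pow
    · rw [h1]; exact N_ne_zero
    · rw [h1]; exact ZMod.natCast_self _
  · apply Subtype.ext
    exact h.comm_T (h.c1_mem 1).1 (mul_mem (h.c0_mem 1).1 (h.c1_mem 1).1)
  · rw [eq_bot_iff]
    intro g hg
    obtain ⟨i, hi⟩ := mem_zpowers_iff.1 (mem_inf.1 hg).1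
    obtain ⟨j, hj⟩ := mem_zpowers_iff.1 (mem_inf.1 hg).2
    have hfin : Finite h.Wr := Nat.finite_of_card_ne_zero (by rw [h.card_Wr]; positivity)
    obtain ⟨i', hi'⟩ : ∃ i' : ℕ, (⟨c1 f ρ 1, hx⟩ : h.Wr) ^ i' = g :=
      (mem_powers_iff_mem_zpowers.2 (mem_zpowers_iff.2 ⟨i, hi⟩))
    obtain ⟨j', hj'⟩ : ∃ j' : ℕ, (⟨c0 f 1 * c1 f ρ 1, hy⟩ : h.Wr) ^ j' = g :=
      (mem_powers_iff_mem_zpowers.2 (mem_zpowers_iff.2 ⟨j, hj⟩))
    have e1 : c1 f ρ (1 : R m) ^ i' = (c0 f 1 * c1 f ρ 1) ^ j' :=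
      congrArg Subtype.val (hi'.trans hj'.symm)
    rw [(show Commute (c0 f 1) (c1 f ρ 1) from h.comm_T (h.c0_mem 1).1 (h.c1_mem 1).1).mul_pow,
      h.c0_pow, h.c1_pow, h.c1_pow, mul_one, mul_one] at e1
    have e2 : c0 f ((j' : R m)) * c1 f ρ ((j' : R m) - i') = 1 := by
      rw [sub_eq_add_neg, h.c1_add, ← mul_assoc, ← e1, h.c1_neg, mul_inv_cancel]
    have e3 := (h.indep e2).1
    rw [mem_bot, ← hj']
    apply Subtype.ext
    change (c0 f 1 * c1 f ρ 1) ^ j' = 1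
    rw [(show Commute (c0 f 1) (c1 f ρ 1) from h.comm_T (h.c0_mem 1).1 (h.c1_mem 1).1).mul_pow,
      h.c0_pow, h.c1_pow, mul_one, e3, h.c0_zero, h.c1_zero, one_mul]
  · rw [Subgroup.orderOf_mk]
    refine orderOf_eq_prime (by rw [pow_two, h.x4u_sq]) ?_
    intro e
    have h1 := h.x4u_notMem (one_mem (Tor f))
    rw [one_mul, e] at h1
    exact h1 (one_mem _)
  · apply Subtype.ext
    change cj (x4 f * u) (c1 f ρ 1) = c0 f 1 * c1 f ρ 1
    rw [h.cj_x4u, c1, h.u_ρ (h.c0_mem_Tor 1), h.u_c0]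
    have := h.c2 (-1)
    rw [neg_neg] at this
    exact this

theorem P_eq (h : XAct P m f u ρ) : P = h.Wr ⊔ Dd f ρ := by
  apply le_antisymm
  · intro g hg
    have hT : Tor f ≤ h.Wr ⊔ Dd f ρ := by
      intro t ht
      obtain ⟨a, ha, d, hd, rfl⟩ := h.exists_decomp ht
      exact mul_mem (mem_sup_left (h.Tone_le_Wr ha)) (mem_sup_right hd)
    rcases h.mem_or hg with h1 | ⟨t, ht, rfl⟩
    · exact hT h1
    · have h1 : t * u = t * x4 f * (x4 f * u) := by
        calc t * u = t * (x4 f * x4 f) * u := by rw [h.x4_sq, mul_one]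
          _ = _ := by group
      rw [h1]
      exact mul_mem (hT (mul_mem ht (h.Bu_le h.x4_mem))) (mem_sup_left h.x4u_mem)
  · exact sup_le h.Wr_le (h.Dd_le.trans h.Tor_le)

end XAct

end Cfsg.Agent.LFourB
end

-- part: LFourB/CentXOne
section
/-!
# Essential subgroups of `T ⟨u⟩` not containing the torus

They are conjugate to `B ⟨h1, u⟩`, and an odd automorphism permutes `h1`, `u ..`, `h1 u ..` cyclically.
-/

set_option autoImplicit false

namespace Cfsg.Agent.LFourB.CentXOne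

open Subgroup Cfsg.Agent.Lib.GoldschmidtFusion Cfsg.Agent.Lib.EssentialFusion
open Cfsg.Agent.Lib.EssBridge (exists_isEss mem_of_stab Stab)

/-! ### Generalities -/

section General

variable {C : Type*} [Group C]

/-- two-step chain -/
theorem mem_of_two [Finite C] {P : Sylow 2 C} {X Y : Subgroup C} (hX : Ess P X) (hYX : Y ≤ X)
    (hN : normalizer (X : Set C) ≤ normalizer (Y : Set C)) {y : C} (hy : y ∈ (P : Subgroup C))
    (hyN : y ∈ normalizer (X : Set C)) (h1 : ∀ e ∈ X, y * e * y⁻¹ * e⁻¹ ∈ Y)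
    (h2 : ∀ e ∈ Y, y * e = e * y) : y ∈ X := by
  refine mem_of_stab (exists_isEss hX) (Stab.step hYX le_rfl h1 (Stab.step bot_le hN ?_ Stab.bot)) hy hyN
  intro e he
  rw [mem_bot, h2 e he]
  group

/-- an odd automorphism moving an element by a fixed 2-element is trivial on it -/
theorem comm_of_odd {g a c : C} {k n : ℕ} (hg : g ^ n = 1) (hn : ¬ 2 ∣ n) (hc : g * a * g⁻¹ = a * c)
    (hgc : g * c = c * g) (h2 : c ^ 2 ^ k = 1) : c = 1 := by
  have h1 : ∀ j : ℕ, g ^ j * a * (g ^ j)⁻¹ = a * c ^ j := by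
    intro j
    induction j with
    | zero => simp
    | succ j ih =>
      have e1 : g ^ (j + 1) * a * (g ^ (j + 1))⁻¹ = g * (g ^ j * a * (g ^ j)⁻¹) * g⁻¹ := by
        rw [pow_succ', mul_inv_rev]; group
      have h3 : g * c ^ j * g⁻¹ = c ^ j := by
        have h4 : Commute g (c ^ j) := Commute.pow_right hgc j
        rw [h4.eq, mul_inv_cancel_right]
      have e2 : g * (a * c ^ j) * g⁻¹ = (g * a * g⁻¹) * (g * c ^ j * g⁻¹) := by group
      rw [e1, ih, e2, hc, h3, mul_assoc, ← pow_succ']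
  have h3 := h1 n
  rw [hg, one_mul, inv_one, mul_one, left_eq_mul] at h3
  have h4 : orderOf c ∣ n := orderOf_dvd_of_pow_eq_one h3
  have h5 : orderOf c ∣ 2 ^ k := orderOf_dvd_of_pow_eq_one h2
  have h6 : Nat.Coprime n (2 ^ k) := Nat.Coprime.pow_right _ ((Nat.Prime.coprime_iff_not_dvd Nat.prime_two).2 hn).symm
  exact orderOf_eq_one_iff.1 (Nat.dvd_one.1 (h6 ▸ Nat.dvd_gcd h4 h5))

/-- an odd automorphism of an abelian 2-group `B` fixing the involutions is trivial -/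
theorem comm_of_omega {B : Subgroup C} (hB : ∀ a ∈ B, ∀ b ∈ B, a * b = b * a) {g : C} {n : ℕ} (hg : g ^ n = 1)
    (hn : ¬ 2 ∣ n) (hgB : ∀ b ∈ B, g * b * g⁻¹ ∈ B) (hom : ∀ b ∈ B, b * b = 1 → g * b = b * g) :
    ∀ (k : ℕ), ∀ b ∈ B, b ^ 2 ^ k = 1 → g * b = b * g := by
  intro k
  induction k with
  | zero =>
    intro b _ hb
    rw [pow_zero, pow_one] at hb
    rw [hb, mul_one, one_mul]
  | succ k ih =>
    intro b hb hbk
    have h1 : g * (b * b) = b * b * g := by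
      refine ih (b * b) (mul_mem hb hb) ?_
      rw [← pow_two, ← pow_mul, ← pow_succ']
      exact hbk
    set c := b⁻¹ * (g * b * g⁻¹) with hcd
    have hcB : c ∈ B := mul_mem (inv_mem hb) (hgB b hb)
    have h2 : g * b * g⁻¹ = b * c := by rw [hcd, mul_inv_cancel_left]
    have h3 : (g * b * g⁻¹) * (g * b * g⁻¹) = b * b := by
      have e1 : (g * b * g⁻¹) * (g * b * g⁻¹) = g * (b * b) * g⁻¹ := by group
      rw [e1, h1, mul_inv_cancel_right]
    have h4 : c * c = 1 := by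
      rw [h2] at h3
      have e1 : b * c * (b * c) = b * b * (c * c) := by
        rw [mul_assoc, ← mul_assoc c, hB c hcB b hb]
        group
      rw [e1] at h3
      exact mul_eq_left.1 h3
    have h5 : c = 1 := comm_of_odd (k := 1) hg hn h2 (hom c hcB h4) (by rw [pow_one, pow_two]; exact h4)
    rw [h5, mul_one] at h2
    exact mul_inv_eq_iff_eq_mul.1 h2

theorem pow_orderOf_odd {g : C} (hg : Nat.Coprime (orderOf g) 2) : ¬ 2 ∣ orderOf g := by
  intro h
  have := Nat.dvd_gcd h dvd_rfl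
  rw [hg] at this
  omega

/-- an essential subgroup has an odd automorphism -/
theorem exists_odd [Finite C] {P : Sylow 2 C} {X : Subgroup C} (hX : Ess P X) :
    ∃ g ∈ normalizer (X : Set C), ¬ 2 ∣ orderOf g ∧ g ∉ centralizer (X : Set C) := by
  by_contra hcon
  push Not at hcon
  have h1 := hX.inf_le (A := normalizer (X : Set C)) le_rfl le_normalizer
    (fun g hg hc => hcon g hg (pow_orderOf_odd hc))
  have h2 := lt_inf_normalizer P.isPGroup' hX.lt
  exact absurd (h2.trans_le (by rw [inf_comm]; exact h1)) (lt_irrefl _)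

end General

/-! ### The essential subgroups -/

section Half

variable {C : Type*} [Group C] [Finite C] {P : Sylow 2 C} {m : ℕ} {f : R m → R m → R m → C} {u : C} {X : Subgroup C}

omit [Finite C] in
theorem Bu_le_centralizer (h : Half (P : Subgroup C) m f u) (hX : X ≤ P) : Bu f ≤ centralizer (X : Set C) ⊓ P := by
  intro b hb
  refine mem_inf.2 ⟨mem_centralizer_iff.2 ?_, h.Tor_le (h.Bu_le hb)⟩
  intro e he
  exact (h.Bu_comm hb (hX he)).symm

omit [Finite C] in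
theorem Bu_le (h : Half (P : Subgroup C) m f u) (hX : Ess P X) : Bu f ≤ X :=
  (Bu_le_centralizer h hX.lt.le).trans hX.centric

omit [Finite C] in
theorem exists_notMem (h : Half (P : Subgroup C) m f u) (hX : Ess P X) (hT : ¬ Tor f ≤ X) :
    ∃ t ∈ Tor f, t * u ∈ X := by
  by_contra hcon
  push Not at hcon
  apply hT
  have h1 : ∀ e ∈ X, e ∈ Tor f := by
    intro e he
    rcases h.mem_or (hX.lt.le he) with h2 | ⟨t, ht, rfl⟩
    · exact h2
    · exact absurd he (hcon t ht)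
  refine le_trans ?_ hX.centric
  intro t ht
  refine mem_inf.2 ⟨mem_centralizer_iff.2 ?_, h.Tor_le ht⟩
  intro e he
  exact h.Tor_comm (h1 e he) ht

theorem exists_norm (h : Half (P : Subgroup C) m f u) (hX : Ess P X) {t : C} (ht : t ∈ Tor f) (htu : t * u ∈ X) :
    ∃ y ∈ Tor f, y ∈ normalizer (X : Set C) ∧ y ∉ X := by
  obtain ⟨y, ⟨hyP, hyN⟩, hyX⟩ := SetLike.exists_of_lt (lt_inf_normalizer P.isPGroup' hX.lt)
  rcases h.mem_or hyP with h1 | ⟨t', ht', rfl⟩
  · exact ⟨y, h1, hyN, hyX⟩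
  · have e1 : t' * u * (t * u)⁻¹ = t' * t⁻¹ := by group
    refine ⟨t' * t⁻¹, mul_mem ht' (inv_mem ht), ?_, ?_⟩
    · rw [← e1]
      exact mul_mem hyN (inv_mem (le_normalizer htu))
    · rw [← e1]
      intro h2
      have e2 : t' * u * (t * u)⁻¹ * (t * u) = t' * u := by group
      exact hyX (e2 ▸ mul_mem h2 htu)

/-- Elements of `X ∩ T` have `2 p = 0`. -/
theorem two_mul_eq_zero (h : Half (P : Subgroup C) m f u) (hX : Ess P X) (hT : ¬ Tor f ≤ X) {p q r : R m}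
    (hg : Good p q r) (ha : f p q r ∈ X) : 2 * p = 0 := by
  by_contra hp
  obtain ⟨t, ht, htu⟩ := exists_notMem h hX hT
  obtain ⟨y, hyT, hyN, hyX⟩ := exists_norm h hX ht htu
  apply hyX
  have hXP : X ≤ P := hX.lt.le
  -- a commutator not centralised by elements outside the torus
  have hgc : Good (2 * p) 0 (-p) := BOne.goodq1 p
  have hc : f (2 * p) 0 (-p) = f p q r * ((t * u) * (f p q r)⁻¹ * (t * u)⁻¹) := by
    rw [h.f_inv hg, h.conj_f ht hg.neg, h.f_mul _ _ _ _ _ _ hg hg.neg.actu]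
    congr 1 <;> ring
  have hNinf : ∀ g ∈ normalizer (X : Set C), ∀ a ∈ X ⊓ Tor f, g * a * g⁻¹ ∈ X ⊓ Tor f := by
    rintro g hgN a ⟨haX, haT⟩
    have hgaX : g * a * g⁻¹ ∈ X := (mem_normalizer_iff.1 hgN a).1 haX
    refine ⟨hgaX, ?_⟩
    by_contra hn
    rcases h.mem_or (hXP hgaX) with h1 | ⟨t', ht', h1⟩
    · exact hn h1
    -- `g a g⁻¹` centralises all commutators
    have h2 : ∀ e ∈ X, ∀ e' ∈ X, (g * a * g⁻¹) * (e * e' * e⁻¹ * e'⁻¹) = (e * e' * e⁻¹ * e'⁻¹) * (g * a * g⁻¹) := by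
      intro e he e' he'
      have h3 : g⁻¹ * e * g ∈ X := by
        have := (mem_normalizer_iff.1 (inv_mem hgN) e).1 he
        rwa [inv_inv] at this
      have h4 : g⁻¹ * e' * g ∈ X := by
        have := (mem_normalizer_iff.1 (inv_mem hgN) e').1 he'
        rwa [inv_inv] at this
      have h5 := h.Tor_comm haT (h.commutator_mem (hXP h3) (hXP h4))
      have h6 : (g⁻¹ * e * g) * (g⁻¹ * e' * g) * (g⁻¹ * e * g)⁻¹ * (g⁻¹ * e' * g)⁻¹ =
          g⁻¹ * (e * e' * e⁻¹ * e'⁻¹) * g := by group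
      rw [h6] at h5
      have h7 : g * (a * (g⁻¹ * (e * e' * e⁻¹ * e'⁻¹) * g)) * g⁻¹ =
          g * ((g⁻¹ * (e * e' * e⁻¹ * e'⁻¹) * g) * a) * g⁻¹ := by rw [h5]
      calc (g * a * g⁻¹) * (e * e' * e⁻¹ * e'⁻¹) = g * (a * (g⁻¹ * (e * e' * e⁻¹ * e'⁻¹) * g)) * g⁻¹ := by group
        _ = g * ((g⁻¹ * (e * e' * e⁻¹ * e'⁻¹) * g) * a) * g⁻¹ := h7
        _ = _ := by group
    have h8 := h2 _ ha _ htu
    have h9 : f p q r * (t * u) * (f p q r)⁻¹ * (t * u)⁻¹ = f (2 * p) 0 (-p) := by rw [hc]; group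
    rw [h9, h1] at h8
    have h10 := h.conj_f ht' hgc
    rw [h8, mul_inv_cancel_right, h.f_eq_iff hgc hgc.actu] at h10
    apply hp
    linear_combination -h10.2.2
  have hN : normalizer (X : Set C) ≤ normalizer ((X ⊓ Tor f : Subgroup C) : Set C) := by
    intro g hg
    rw [mem_normalizer_iff]
    intro a
    constructor
    · exact hNinf g hg a
    · intro h1
      have h2 := hNinf g⁻¹ (inv_mem hg) _ h1
      have e1 : g⁻¹ * (g * a * g⁻¹) * g⁻¹⁻¹ = a := by group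
      rwa [e1] at h2
  refine mem_of_two hX inf_le_left hN (h.Tor_le hyT) hyN ?_ ?_
  · intro e he
    refine ⟨?_, h.commutator_mem (h.Tor_le hyT) (hXP he)⟩
    exact X.mul_mem ((mem_normalizer_iff.1 hyN e).1 he) (X.inv_mem he)
  · intro e he
    exact h.Tor_comm hyT he.2

omit [Finite C] in
/-- powers `e ^ (2 ^ (m + 2))` of elements of `B` and `T u` -/
theorem pow_eq (h : Half (P : Subgroup C) m f u) {e : C} (he : e ∈ Bu f ∨ ∃ t ∈ Tor f, e = t * u) :
    ∃ p q r, Good p q r ∧ e ^ 2 ^ (m + 2) = f 0 (N m * q) (N m * r + M m * p) := by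
  have k1 : ((2 ^ (m + 1) : ℕ) : R m) * 2 = N m := by rw [N]; push_cast; ring
  rcases he with he | ⟨t, ht, rfl⟩
  · obtain ⟨q, r, hg, rfl⟩ := h.mem_Bu.1 he
    refine ⟨0, q, r, hg, ?_⟩
    rw [h.f_pow hg, N, mul_zero, mul_zero, add_zero]
  · obtain ⟨p, q, r, hg, rfl⟩ := h.mem_Tor.1 ht
    refine ⟨p, q, r, hg, ?_⟩
    have k2 : (f p q r * u) ^ 2 = f 0 (2 * q) (2 * r + p) := by
      have e1 : (f p q r * u) ^ 2 = f p q r * (u * f p q r * u) := by rw [pow_two]; group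
      rw [e1, h.u_f_u hg, h.f_mul _ _ _ _ _ _ hg hg.actu]
      congr 1 <;> ring
    have hgg : Good 0 (2 * q) (2 * r + p) := by
      have := hg.add hg.actu
      rw [add_neg_cancel] at this
      have e1 : q + q = 2 * q := by ring
      have e2 : r + (r + p) = 2 * r + p := by ring
      rwa [e1, e2] at this
    rw [pow_succ' 2 (m + 1), pow_mul, k2, h.f_pow hgg, mul_zero]
    congr 1
    · rw [← mul_assoc, k1]
    · rw [mul_add, ← mul_assoc, k1]; rfl

theorem exists_two_mul {m : ℕ} {p : R m} (hp : N m * p = 0) : ∃ c, p = 2 * c := by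
  by_contra hcon
  have k1 : par m p ≠ 0 := fun k => hcon (par_eq_zero_iff.1 k)
  have k2 : par m (p - 1) = 0 := by
    rw [map_sub, map_one]
    revert k1
    generalize par m p = x
    revert x
    decide
  obtain ⟨c, hc⟩ := par_eq_zero_iff.1 k2
  have k3 : p = 2 * c + 1 := by linear_combination hc
  rw [k3] at hp
  apply N_ne_zero (m := m)
  have k4 : (2 : R m) * N m = 0 := two_mul_N
  linear_combination hp - c * k4

omit [Finite C] in
theorem pow_eq_z1 (h : Half (P : Subgroup C) m f u) {e : C} (he : e ∈ Bu f ∨ ∃ t ∈ Tor f, e = t * u)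
    (h2 : e ^ 2 ^ (m + 2) * e ^ 2 ^ (m + 2) = 1) : e ^ 2 ^ (m + 2) = 1 ∨ e ^ 2 ^ (m + 2) = z1 f := by
  obtain ⟨p, q, r, ⟨c, hc⟩, hpow⟩ := pow_eq h he
  have k4 : (2 : R m) * N m = 0 := two_mul_N
  have k5 : (2 : R m) * M m = N m := two_mul_M
  have hg : Good 0 (N m * q) (N m * r + M m * p) :=
    ⟨0, by linear_combination N m * hc + k5 * p + (2 * c) * k4⟩
  rw [hpow] at h2 ⊢
  rw [h.f_mul _ _ _ _ _ _ hg hg, h.f_eq_one_iff (hg.add hg)] at h2
  obtain ⟨-, -, h3⟩ := h2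
  have k6 : N m * p = 0 := by linear_combination h3 - k5 * p - r * k4
  obtain ⟨p', rfl⟩ := exists_two_mul k6
  have k7 : N m * q = 0 := by linear_combination N m * hc - k4 * p' - k4 * r + 2 * c * k4
  have k8 : N m * r + M m * (2 * p') = N m * (r + p') := by linear_combination p' * k5
  rw [k7, k8]
  have k9 : 2 * (N m * (r + p')) = 0 := by linear_combination (r + p') * k4
  rcases eq_of_two_mul k9 with k | k
  · left; rw [k, h.f_zero]
  · right; rw [k]; rfl

omit [Finite C] in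
theorem w0_pow (h : Half (P : Subgroup C) m f u) : Good (0 : R m) 2 3 ∧ f 0 2 3 ^ 2 ^ (m + 2) = z1 f := by
  have hg : Good (0 : R m) 2 3 := ⟨2, by ring⟩
  refine ⟨hg, ?_⟩
  rw [h.f_pow hg, z1]
  have k4 : (2 : R m) * N m = 0 := two_mul_N
  have e1 : ((2 ^ (m + 2) : ℕ) : R m) = N m := rfl
  rw [e1, mul_zero]
  congr 1
  · linear_combination k4
  · linear_combination k4

/-- `X` contains `h1`. -/
theorem h1_mem_of (h : Half (P : Subgroup C) m f u) (hX : Ess P X) (hT : ¬ Tor f ≤ X) : h1 f ∈ X := by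
  obtain ⟨t, ht, htu⟩ := exists_notMem h hX hT
  have hXP : X ≤ P := hX.lt.le
  have hB := Bu_le h hX
  by_cases hcase : ∃ p q r, Good p q r ∧ f p q r ∈ X ∧ p ≠ 0
  · obtain ⟨p, q, r, hg, hfX, hp⟩ := hcase
    have k1 := two_mul_eq_zero h hX hT hg hfX
    rcases eq_of_two_mul k1 with k2 | k2
    · exact absurd k2 hp
    subst k2
    have hg' : Good (0 : R m) (-q) (-M m - r) := by
      have := BOne.goodh1.sub hg
      rwa [sub_self, zero_sub] at this
    have k3 : h1 f = f (N m) q r * f 0 (-q) (-M m - r) := by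
      rw [h.f_mul _ _ _ _ _ _ hg hg', h1]
      congr 1 <;> ring
    rw [k3]
    exact mul_mem hfX (hB (h.f_mem_Bu hg'))
  exfalso
  push Not at hcase
  have hXT : ∀ e ∈ X, e ∈ Bu f ∨ ∃ t ∈ Tor f, e = t * u := by
    intro e he
    rcases h.mem_or (hXP he) with k1 | k1
    · obtain ⟨p, q, r, hg, rfl⟩ := h.mem_Tor.1 k1
      have := hcase p q r hg he
      subst this
      exact Or.inl (h.f_mem_Bu hg)
    · exact Or.inr k1
  -- `z1` is invariant
  have hz : ∀ g ∈ normalizer (X : Set C), g * z1 f * g⁻¹ = z1 f := by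
    intro g hg
    obtain ⟨hg0, hw0⟩ := w0_pow h
    have k1 : g * z1 f * g⁻¹ = (g * f 0 2 3 * g⁻¹) ^ 2 ^ (m + 2) := by
      rw [← hw0, conj_pow]
    have k2 : g * f 0 2 3 * g⁻¹ ∈ X := (mem_normalizer_iff.1 hg _).1 (hB (h.f_mem_Bu hg0))
    have k3 := pow_eq_z1 h (hXT _ k2) (by
      rw [← k1]
      have e1 : g * z1 f * g⁻¹ * (g * z1 f * g⁻¹) = g * (z1 f * z1 f) * g⁻¹ := by group
      rw [e1, h.z1_sq, mul_one, mul_inv_cancel])
    rw [← k1] at k3
    rcases k3 with k | k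
    · exfalso
      apply h.z1_ne
      have := congrArg (fun x => g⁻¹ * x * g) k
      simpa [mul_assoc] using this
    · exact k
  have hh : h1 f ∈ X := by
    have hz1X : z1 f ∈ X := hB h.z1_mem
    have hcomm : ∀ e ∈ X, h1 f * e * (h1 f)⁻¹ * e⁻¹ ∈ zpowers (z1 f) := by
      intro e he
      rcases hXT e he with k | ⟨t', ht', rfl⟩
      · rw [h.Tor_comm h.h1_mem (h.Bu_le k), mul_inv_cancel_right, mul_inv_cancel]
        exact one_mem _
      · have e1 : h1 f * (t' * u) * (h1 f)⁻¹ * (t' * u)⁻¹ = h1 f * (t' * (u * h1 f * u)⁻¹ * t'⁻¹) := by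
          have := h.u_inv
          rw [mul_inv_rev, mul_inv_rev, mul_inv_rev, this]; group
        have e2 : t' * (u * h1 f * u)⁻¹ = (u * h1 f * u)⁻¹ * t' :=
          h.Tor_comm ht' (inv_mem (h.conj_u_mem h.h1_mem))
        rw [e1, e2, mul_inv_cancel_right, h.u_h1_u, mul_inv_rev,
          h.Tor_comm (inv_mem (h.Bu_le h.z1_mem)) (inv_mem h.h1_mem), mul_inv_cancel_left]
        exact inv_mem (mem_zpowers _)
    refine mem_of_two hX (Y := zpowers (z1 f)) (by rwa [zpowers_le]) ?_ (h.Tor_le h.h1_mem) ?_ hcomm ?_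
    · intro g hg
      have k1 := hz g hg
      rw [mem_normalizer_iff_map_conj, MonoidHom.map_zpowers]
      simp only [MulEquiv.coe_toMonoidHom, MulAut.conj_apply]
      rw [k1]
    · have hin : ∀ e ∈ X, h1 f * e * (h1 f)⁻¹ ∈ X := by
        intro e he
        have k1 := hcomm e he
        have k2 : h1 f * e * (h1 f)⁻¹ * e⁻¹ ∈ X := (zpowers_le.2 hz1X) k1
        have := mul_mem k2 he
        rwa [inv_mul_cancel_right] at this
      rw [mem_normalizer_iff_map_conj]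
      refine Subgroup.eq_of_le_of_card_ge ?_ (by rw [card_map_conj])
      rintro _ ⟨e, he, rfl⟩
      exact hin e he
    · intro e he
      exact h.Tor_comm h.h1_mem ((zpowers_le.2 (h.Bu_le h.z1_mem)) he)
  have := hcase (N m) 0 (-M m) BOne.goodh1 hh
  exact N_ne_zero this

end Half

end Cfsg.Agent.LFourB.CentXOne
end

-- part: LFourB/CentXTwo
section
/-!
# The odd automorphism of the essential subgroup `B ⟨h1, u⟩`
-/

set_option autoImplicit false

namespace Cfsg.Agent.LFourB.CentXTwo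

open Subgroup Cfsg.Agent.Lib.GoldschmidtFusion Cfsg.Agent.Lib.EssentialFusion Cfsg.Agent.LFourB.CentXOne

section Half

variable {C : Type*} [Group C] [Finite C] {P : Sylow 2 C} {m : ℕ} {f : R m → R m → R m → C} {u : C} {X : Subgroup C}

/-- the elements of `X ∩ T` -/
theorem mem_T (h : Half (P : Subgroup C) m f u) (hX : Ess P X) (hT : ¬ Tor f ≤ X) {e : C} (he : e ∈ X)
    (heT : e ∈ Tor f) : e ∈ Bu f ∨ ∃ b ∈ Bu f, e = h1 f * b := by
  obtain ⟨p, q, r, hg, rfl⟩ := h.mem_Tor.1 heT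
  rcases eq_of_two_mul (two_mul_eq_zero h hX hT hg he) with k | k
  · subst k; exact Or.inl (h.f_mem_Bu hg)
  · subst k
    have hg' : Good (0 : R m) q (r + M m) := by
      have := hg.sub BOne.goodh1
      rwa [sub_self, sub_zero, sub_neg_eq_add] at this
    refine Or.inr ⟨_, h.f_mem_Bu hg', ?_⟩
    rw [h1, h.f_mul _ _ _ _ _ _ BOne.goodh1 hg']
    congr 1 <;> ring

omit [Finite C] in
theorem conj_T (h : Half (P : Subgroup C) m f u) {t : C} (ht : t ∈ Tor f) {a : C}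
    (ha : a ∈ Tor f) : (t * u) * a * (t * u)⁻¹ = u * a * u := by
  obtain ⟨p, q, r, hg, rfl⟩ := h.mem_Tor.1 ha
  rw [h.conj_f ht hg, h.u_f_u hg]

theorem conj_X (h : Half (P : Subgroup C) m f u) (hX : Ess P X) (hT : ¬ Tor f ≤ X) {t : C} (ht : t ∈ Tor f)
    {a : C} (ha : a ∈ X) (haT : a ∈ Tor f) :
    (t * u) * a * (t * u)⁻¹ = a ∨ (t * u) * a * (t * u)⁻¹ = a * z1 f := by
  rw [conj_T h ht haT]
  rcases mem_T h hX hT ha haT with k | ⟨b, hb, rfl⟩
  · left
    rw [← h.Bu_comm k h.u_mem, mul_assoc, h.u_u, mul_one]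
  · right
    have e1 : u * (h1 f * b) * u = (u * h1 f * u) * (u⁻¹ * b * u) := by group
    have e2 : u⁻¹ * b * u = b := by
      rw [mul_assoc, h.Bu_comm hb h.u_mem, inv_mul_cancel_left]
    rw [e1, e2, h.u_h1_u, mul_assoc, mul_assoc, h.Tor_comm (h.Bu_le h.z1_mem) (h.Bu_le hb)]

omit [Finite C] in
theorem z1_inv (h : Half (P : Subgroup C) m f u) : (z1 f)⁻¹ = z1 f := inv_eq_of_mul_eq_one_left h.z1_sq

omit [Finite C] in
theorem z1_comm (h : Half (P : Subgroup C) m f u) {e : C} (he : e ∈ (P : Subgroup C)) : z1 f * e = e * z1 f :=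
  h.Bu_comm h.z1_mem he

/-- commutators of `X` -/
theorem commutator_X (h : Half (P : Subgroup C) m f u) (hX : Ess P X) (hT : ¬ Tor f ≤ X) {e e' : C} (he : e ∈ X)
    (he' : e' ∈ X) : e * e' * e⁻¹ * e'⁻¹ = 1 ∨ e * e' * e⁻¹ * e'⁻¹ = z1 f := by
  have hXP : X ≤ P := hX.lt.le
  -- `a` in `T`, `e` outside
  have key : ∀ t ∈ Tor f, ∀ a ∈ X, a ∈ Tor f →
      (t * u) * a * (t * u)⁻¹ * a⁻¹ = 1 ∨ (t * u) * a * (t * u)⁻¹ * a⁻¹ = z1 f := by
    intro t ht a ha haT
    rcases conj_X h hX hT ht ha haT with k | k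
    · left; rw [k, mul_inv_cancel]
    · right
      rw [k, ← z1_comm h (hXP ha), mul_inv_cancel_right]
  rcases h.mem_or (hXP he) with k | ⟨t, ht, rfl⟩
  · rcases h.mem_or (hXP he') with k' | ⟨t', ht', rfl⟩
    · left
      rw [h.Tor_comm k k', mul_inv_cancel_right, mul_inv_cancel]
    · have e1 : e * (t' * u) * e⁻¹ * (t' * u)⁻¹ = ((t' * u) * e * (t' * u)⁻¹ * e⁻¹)⁻¹ := by group
      rw [e1]
      rcases key t' ht' e he k with k1 | k1
      · left; rw [k1, inv_one]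
      · right; rw [k1, z1_inv h]
  · rcases h.mem_or (hXP he') with k' | ⟨t', ht', rfl⟩
    · exact key t ht e' he' k'
    · have ha : t' * t⁻¹ ∈ X := by
        have := mul_mem he' (inv_mem he)
        have e1 : t' * u * (t * u)⁻¹ = t' * t⁻¹ := by group
        rwa [e1] at this
      have e1 : (t * u) * (t' * u) * (t * u)⁻¹ * (t' * u)⁻¹ =
          (t * u) * (t' * t⁻¹) * (t * u)⁻¹ * (t' * t⁻¹)⁻¹ := by group
      rw [e1]
      exact key t ht _ ha (mul_mem ht' (inv_mem ht))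

theorem conj_z1 (h : Half (P : Subgroup C) m f u) (hX : Ess P X) (hT : ¬ Tor f ≤ X) {g : C}
    (hg : g ∈ normalizer (X : Set C)) : g * z1 f = z1 f * g := by
  obtain ⟨t, ht, htu⟩ := exists_notMem h hX hT
  have hh := h1_mem_of h hX hT
  have k1 : (t * u) * h1 f * (t * u)⁻¹ * (h1 f)⁻¹ = z1 f := by
    rw [conj_T h ht h.h1_mem, h.u_h1_u, ← z1_comm h (h.Tor_le h.h1_mem), mul_inv_cancel_right]
  have k2 : g * z1 f * g⁻¹ = (g * (t * u) * g⁻¹) * (g * h1 f * g⁻¹) * (g * (t * u) * g⁻¹)⁻¹ * (g * h1 f * g⁻¹)⁻¹ := by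
    rw [← k1]; group
  rcases commutator_X h hX hT ((mem_normalizer_iff.1 hg _).1 htu) ((mem_normalizer_iff.1 hg _).1 hh) with k | k
  · rw [k] at k2
    exfalso
    apply h.z1_ne
    have := congrArg (fun x => g⁻¹ * x * g) k2
    simpa [mul_assoc] using this
  · rw [k] at k2
    exact mul_inv_eq_iff_eq_mul.1 k2

/-- the centre of `X` -/
theorem mem_Bu_of_comm (h : Half (P : Subgroup C) m f u) (hX : Ess P X) (hT : ¬ Tor f ≤ X) {e : C} (he : e ∈ X)
    (hc : ∀ x ∈ X, x * e = e * x) : e ∈ Bu f := by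
  obtain ⟨t, ht, htu⟩ := exists_notMem h hX hT
  have hh := h1_mem_of h hX hT
  rcases h.mem_or (hX.lt.le he) with k | ⟨t', ht', rfl⟩
  · obtain ⟨p, q, r, hg, rfl⟩ := h.mem_Tor.1 k
    have k1 := h.conj_f ht hg
    rw [hc _ htu, mul_inv_cancel_right, h.f_eq_iff hg hg.actu] at k1
    have : p = 0 := by linear_combination -k1.2.2
    subst this
    exact h.f_mem_Bu hg
  · exfalso
    have k1 := conj_T h ht' h.h1_mem
    rw [← hc _ hh, mul_inv_cancel_right, h.u_h1_u] at k1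
    exact h.z1_ne (left_eq_mul.1 k1)

theorem conj_Bu (h : Half (P : Subgroup C) m f u) (hX : Ess P X) (hT : ¬ Tor f ≤ X) {g : C}
    (hg : g ∈ normalizer (X : Set C)) {b : C} (hb : b ∈ Bu f) : g * b * g⁻¹ ∈ Bu f := by
  have hbX := Bu_le h hX hb
  refine mem_Bu_of_comm h hX hT ((mem_normalizer_iff.1 hg _).1 hbX) ?_
  intro x hx
  have k1 : g⁻¹ * x * g ∈ X := by
    have := (mem_normalizer_iff.1 (inv_mem hg) x).1 hx
    rwa [inv_inv] at this
  have k2 := h.Bu_comm hb (hX.lt.le k1)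
  have k3 : g * (b * (g⁻¹ * x * g)) * g⁻¹ = g * (g⁻¹ * x * g * b) * g⁻¹ := by rw [k2]
  calc x * (g * b * g⁻¹) = g * (g⁻¹ * x * g * b) * g⁻¹ := by group
    _ = g * (b * (g⁻¹ * x * g)) * g⁻¹ := k3.symm
    _ = _ := by group

omit [Finite C] in
theorem Bu_pow (h : Half (P : Subgroup C) m f u) {b : C} (hb : b ∈ Bu f) : b ^ 2 ^ (m + 3) = 1 := by
  obtain ⟨q, r, hg, rfl⟩ := h.mem_Bu.1 hb
  have k : ((2 ^ (m + 3) : ℕ) : R m) = 0 := ZMod.natCast_self _
  rw [h.f_pow hg, k, zero_mul, zero_mul, zero_mul, h.f_zero]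

/-- an odd element of `N(X)` centralises `B` -/
theorem odd_comm_Bu (h : Half (P : Subgroup C) m f u) (hx : ∀ g : C, g * x4 f = x4 f * g) (hX : Ess P X)
    (hT : ¬ Tor f ≤ X) {g : C} (hg : g ∈ normalizer (X : Set C)) (ho : ¬ 2 ∣ orderOf g) {b : C} (hb : b ∈ Bu f) :
    g * b = b * g := by
  refine comm_of_omega (B := Bu f) (fun a ha b hb => h.Tor_comm (h.Bu_le ha) (h.Bu_le hb)) (pow_orderOf_eq_one g) ho
    (fun b hb => conj_Bu h hX hT hg hb) ?_ (m + 3) b hb (Bu_pow h hb)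
  intro b hb hbb
  have kz := conj_z1 h hX hT hg
  rcases h.omega hb hbb with rfl | rfl | rfl | rfl
  · rw [mul_one, one_mul]
  · exact kz
  · exact hx g
  · rw [← mul_assoc, hx g, mul_assoc, kz, mul_assoc]

/-- the elements of `X` -/
theorem mem_cases (h : Half (P : Subgroup C) m f u) (hX : Ess P X) (hT : ¬ Tor f ≤ X) {e : C} (he : e ∈ X)
    {t : C} (ht : t ∈ Tor f) (htu : t * u ∈ X) :
    ∃ b ∈ Bu f, e = b ∨ e = h1 f * b ∨ e = (t * u) * b ∨ e = h1 f * (t * u) * b := by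
  rcases h.mem_or (hX.lt.le he) with k | ⟨t', ht', rfl⟩
  · rcases mem_T h hX hT he k with k1 | ⟨b, hb, k1⟩
    · exact ⟨e, k1, Or.inl rfl⟩
    · exact ⟨b, hb, Or.inr (Or.inl k1)⟩
  · have e1 : t' * u * (t * u)⁻¹ = t' * t⁻¹ := by group
    have ha : t' * t⁻¹ ∈ X := by
      have := mul_mem he (inv_mem htu)
      rwa [e1] at this
    have e2 : t' * u = (t' * t⁻¹) * (t * u) := by group
    rcases mem_T h hX hT ha (mul_mem ht' (inv_mem ht)) with k1 | ⟨b, hb, k1⟩
    · refine ⟨t' * t⁻¹, k1, Or.inr (Or.inr (Or.inl ?_))⟩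
      rw [← h.Bu_comm k1 (mul_mem (h.Tor_le ht) h.u_mem)]
      exact e2
    · refine ⟨b, hb, Or.inr (Or.inr (Or.inr ?_))⟩
      rw [e2, k1, mul_assoc, mul_assoc, h.Bu_comm hb (mul_mem (h.Tor_le ht) h.u_mem)]

/-- The odd automorphism moves `h1` outside the torus. -/
theorem conj_h1_notMem (h : Half (P : Subgroup C) m f u) (hx : ∀ g : C, g * x4 f = x4 f * g) (hX : Ess P X)
    (hT : ¬ Tor f ≤ X) {g : C} (hg : g ∈ normalizer (X : Set C)) (ho : ¬ 2 ∣ orderOf g)
    (hgc : g ∉ centralizer (X : Set C)) : g * h1 f * g⁻¹ ∉ Tor f := by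
  intro hmem
  obtain ⟨t, ht, htu⟩ := exists_notMem h hX hT
  have hh := h1_mem_of h hX hT
  have hcB := fun {b : C} (hb : b ∈ Bu f) => odd_comm_Bu h hx hX hT hg ho hb
  have hgh : g * h1 f = h1 f * g := by
    rcases mem_T h hX hT ((mem_normalizer_iff.1 hg _).1 hh) hmem with k | ⟨b, hb, k⟩
    · have k1 := hcB k
      have k2 : g * h1 f * g⁻¹ = h1 f := by
        have e1 : g * (g * h1 f * g⁻¹) = g * h1 f * g⁻¹ * g := k1
        rw [inv_mul_cancel_right] at e1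
        exact mul_left_cancel e1
      exact mul_inv_eq_iff_eq_mul.1 k2
    · have k1 := comm_of_odd (pow_orderOf_eq_one g) ho k (hcB hb) (Bu_pow h hb)
      rw [k1, mul_one] at k
      exact mul_inv_eq_iff_eq_mul.1 k
  have hcT : ∀ a ∈ X, a ∈ Tor f → g * a = a * g := by
    intro a ha haT
    rcases mem_T h hX hT ha haT with k | ⟨b, hb, rfl⟩
    · exact hcB k
    · rw [← mul_assoc, hgh, mul_assoc, hcB hb, mul_assoc]
  have hgt : g * (t * u) = (t * u) * g := by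
    have hmX : g * (t * u) * g⁻¹ ∈ X := (mem_normalizer_iff.1 hg _).1 htu
    have hnT : g * (t * u) * g⁻¹ ∉ Tor f := by
      intro k
      have k1 := hcT _ hmX k
      have k2 : g * (t * u) * g⁻¹ = t * u := by
        have e1 : g * (g * (t * u) * g⁻¹) = g * (t * u) * g⁻¹ * g := k1
        rw [inv_mul_cancel_right] at e1
        exact mul_left_cancel e1
      rw [k2] at k
      exact h.tu_notMem ht k
    set c := (t * u)⁻¹ * (g * (t * u) * g⁻¹) with hc
    have hcX : c ∈ X := mul_mem (inv_mem htu) hmX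
    have hcT' : c ∈ Tor f := by
      rw [hc, h.mul_mem_iff (hX.lt.le (inv_mem htu)) (hX.lt.le hmX), inv_mem_iff]
      have := h.tu_notMem ht
      (clear * - hnT this; tauto)
    have k1 : g * (t * u) * g⁻¹ = (t * u) * c := by rw [hc, mul_inv_cancel_left]
    have k2 : c ^ 2 ^ (m + 3) = 1 := by
      obtain ⟨p, q, r, hgd, k3⟩ := h.mem_Tor.1 hcT'
      have k : ((2 ^ (m + 3) : ℕ) : R m) = 0 := ZMod.natCast_self _
      rw [k3, h.f_pow hgd, k, zero_mul, zero_mul, zero_mul, h.f_zero]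
    have k3 := comm_of_odd (pow_orderOf_eq_one g) ho k1 (hcT _ hcX hcT') k2
    rw [k3, mul_one] at k1
    exact mul_inv_eq_iff_eq_mul.1 k1
  apply hgc
  rw [mem_centralizer_iff]
  intro e he
  obtain ⟨b, hb, k | k | k | k⟩ := mem_cases h hX hT he ht htu
  · rw [k]; exact (hcB hb).symm
  · rw [k]; exact (Commute.mul_right (show Commute g _ from hgh) (hcB hb)).eq.symm
  · rw [k]; exact (Commute.mul_right (show Commute g _ from hgt) (hcB hb)).eq.symm
  · rw [k]
    exact (Commute.mul_right (Commute.mul_right (show Commute g _ from hgh) hgt) (hcB hb)).eq.symm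

/-! ### 2-elements of `N(X)` acting trivially on `X / B` -/

/-- the subgroup of the elements of `N(X)` acting trivially on `X / B` -/
def triv (h : Half (P : Subgroup C) m f u) (hX : Ess P X) (hT : ¬ Tor f ≤ X) : Subgroup C where
  carrier := {k | k ∈ normalizer (X : Set C) ∧ ∀ e ∈ X, k * e * k⁻¹ * e⁻¹ ∈ Bu f}
  one_mem' := ⟨one_mem _, fun e _ => by simp⟩
  mul_mem' := by
    rintro a b ⟨ha, ha'⟩ ⟨hb, hb'⟩
    refine ⟨mul_mem ha hb, fun e he => ?_⟩
    have e1 : a * b * e * (a * b)⁻¹ * e⁻¹ = a * (b * e * b⁻¹ * e⁻¹) * a⁻¹ * (a * e * a⁻¹ * e⁻¹) := by group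
    rw [e1]
    exact mul_mem (conj_Bu h hX hT ha (hb' e he)) (ha' e he)
  inv_mem' := by
    rintro a ⟨ha, ha'⟩
    refine ⟨inv_mem ha, fun e he => ?_⟩
    have k1 : a⁻¹ * e * a ∈ X := by
      have := (mem_normalizer_iff.1 (inv_mem ha) e).1 he
      rwa [inv_inv] at this
    have k2 := inv_mem (ha' _ k1)
    have e1 : (a * (a⁻¹ * e * a) * a⁻¹ * (a⁻¹ * e * a)⁻¹)⁻¹ = a⁻¹ * e * a⁻¹⁻¹ * e⁻¹ := by group
    rwa [e1] at k2

theorem conj_mem_triv (h : Half (P : Subgroup C) m f u) (hX : Ess P X) (hT : ¬ Tor f ≤ X) {k g : C}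
    (hg : g ∈ normalizer (X : Set C)) (hk : k ∈ triv h hX hT) : g * k * g⁻¹ ∈ triv h hX hT := by
  refine ⟨mul_mem (mul_mem hg hk.1) (inv_mem hg), fun e he => ?_⟩
  have k1 : g⁻¹ * e * g ∈ X := by
    have := (mem_normalizer_iff.1 (inv_mem hg) e).1 he
    rwa [inv_inv] at this
  have k2 := conj_Bu h hX hT hg (hk.2 _ k1)
  have e1 : g * (k * (g⁻¹ * e * g) * k⁻¹ * (g⁻¹ * e * g)⁻¹) * g⁻¹ = g * k * g⁻¹ * e * (g * k * g⁻¹)⁻¹ * e⁻¹ := by
    group
  rwa [e1] at k2

/-- a 2-element of `N(X)` is conjugate into `P` -/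
theorem exists_conj_mem (hX : Ess P X) {k : C} (hk : k ∈ normalizer (X : Set C)) {n : ℕ} (h2 : k ^ 2 ^ n = 1) :
    ∃ g ∈ normalizer (X : Set C), g * k * g⁻¹ ∈ (P : Subgroup C) := by
  have hp : IsPGroup 2 (zpowers k) := by
    intro x
    obtain ⟨j, hj⟩ := mem_zpowers_iff.1 x.2
    refine ⟨n, Subtype.ext ?_⟩
    change (x : C) ^ 2 ^ n = 1
    rw [← hj, ← zpow_natCast, ← zpow_mul, mul_comm, zpow_mul, zpow_natCast, h2, one_zpow]
  obtain ⟨g, hg, hgP⟩ := exists_conj_le_in (p := 2) (R := (P : Subgroup C) ⊓ normalizer (X : Set C))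
    (N := normalizer (X : Set C)) (P.isPGroup'.to_le inf_le_left) hX.full (zpowers_le.2 hk) hp
  refine ⟨g, hg, ?_⟩
  exact (hgP ⟨k, mem_zpowers k, rfl⟩).1

theorem mem_X_of_triv (h : Half (P : Subgroup C) m f u) (hX : Ess P X) (hT : ¬ Tor f ≤ X) {k : C}
    (hk : k ∈ triv h hX hT) {n : ℕ} (h2 : k ^ 2 ^ n = 1) : k ∈ X := by
  obtain ⟨t, ht, htu⟩ := exists_notMem h hX hT
  have hXT : ∀ k' ∈ triv h hX hT, k' ∈ Tor f → k' ∈ X := by
    intro k' hk' hkT
    obtain ⟨p, q, r, hg, rfl⟩ := h.mem_Tor.1 hkT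
    have k1 := hk'.2 _ htu
    have k2 : f p q r * (t * u) * (f p q r)⁻¹ * (t * u)⁻¹ = f (2 * p) 0 (-p) := by
      have e1 : f p q r * (t * u) * (f p q r)⁻¹ * (t * u)⁻¹ = f p q r * ((t * u) * (f p q r)⁻¹ * (t * u)⁻¹) := by
        group
      rw [e1, h.f_inv hg, h.conj_f ht hg.neg, h.f_mul _ _ _ _ _ _ hg hg.neg.actu]
      congr 1 <;> ring
    rw [k2] at k1
    obtain ⟨q', r', hg', k3⟩ := h.mem_Bu.1 k1
    have k4 := ((h.f_eq_iff (BOne.goodq1 p) hg').1 k3).1
    rcases eq_of_two_mul k4 with rfl | rfl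
    · exact Bu_le h hX (h.f_mem_Bu hg)
    · have hg' : Good (0 : R m) q (r + M m) := by
        have := hg.sub BOne.goodh1
        rwa [sub_self, sub_zero, sub_neg_eq_add] at this
      have e1 : f (N m) q r = h1 f * f 0 q (r + M m) := by
        rw [h1, h.f_mul _ _ _ _ _ _ BOne.goodh1 hg']
        congr 1 <;> ring
      rw [e1]
      exact mul_mem (h1_mem_of h hX hT) (Bu_le h hX (h.f_mem_Bu hg'))
  obtain ⟨g, hg, hgP⟩ := exists_conj_mem hX hk.1 h2
  have k1 := conj_mem_triv h hX hT hg hk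
  have k2 : g * k * g⁻¹ ∈ X := by
    rcases h.mem_or hgP with k3 | ⟨t', ht', k3⟩
    · exact hXT _ k1 k3
    · have htu' : t * u ∈ triv h hX hT := by
        refine ⟨le_normalizer htu, fun e he => ?_⟩
        rcases commutator_X h hX hT htu he with k4 | k4
        · rw [k4]; exact one_mem _
        · rw [k4]; exact h.z1_mem
      have k4 := mul_mem k1 (inv_mem htu')
      have e1 : g * k * g⁻¹ * (t * u)⁻¹ = t' * t⁻¹ := by rw [k3]; group
      rw [e1] at k4
      have k5 := hXT _ k4 (mul_mem ht' (inv_mem ht))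
      rw [← e1] at k5
      have := mul_mem k5 htu
      rwa [inv_mul_cancel_right] at this
  exact (mem_normalizer_iff.1 hg k).2 k2

theorem conj_pow_eq {k a b : C} (hk : k * a * k⁻¹ = a * b) (hkb : k * b = b * k) (j : ℕ) :
    k ^ j * a * (k ^ j)⁻¹ = a * b ^ j := by
  induction j with
  | zero => simp
  | succ j ih =>
    have e1 : k ^ (j + 1) * a * (k ^ (j + 1))⁻¹ = k * (k ^ j * a * (k ^ j)⁻¹) * k⁻¹ := by
      rw [pow_succ', mul_inv_rev]; group
    have h3 : k * b ^ j * k⁻¹ = b ^ j := by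
      have h4 : Commute k (b ^ j) := Commute.pow_right hkb j
      rw [h4.eq, mul_inv_cancel_right]
    have e2 : k * (a * b ^ j) * k⁻¹ = (k * a * k⁻¹) * (k * b ^ j * k⁻¹) := by group
    rw [e1, ih, e2, hk, h3, mul_assoc, ← pow_succ']

/-- The main point: an element acting trivially on `X / B` and on `B` moves `h1` by `z1` at most. -/
theorem triv_h1 (h : Half (P : Subgroup C) m f u) (hX : Ess P X) (hT : ¬ Tor f ≤ X) {k : C}
    (hk : k ∈ triv h hX hT) {b : C} (hb : b ∈ Bu f) (hkb : k * b = b * k) (hk1 : k * h1 f * k⁻¹ = h1 f * b) :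
    b = 1 ∨ b = z1 f := by
  have hbb : b * b = 1 := by
    have k1 : k * z1 f * k⁻¹ = z1 f := by
      rw [conj_z1 h hX hT hk.1, mul_inv_cancel_right]
    have k2 : k * z1 f * k⁻¹ = (k * h1 f * k⁻¹) * (k * h1 f * k⁻¹) := by
      rw [← h.h1_sq]; group
    rw [k1, hk1] at k2
    have e1 : h1 f * b * (h1 f * b) = h1 f * h1 f * (b * b) := by
      have := h.Tor_comm (h.Bu_le hb) h.h1_mem
      calc h1 f * b * (h1 f * b) = h1 f * (b * h1 f) * b := by group
        _ = h1 f * (h1 f * b) * b := by rw [this]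
        _ = _ := by group
    rw [e1, h.h1_sq] at k2
    exact left_eq_mul.1 k2
  obtain ⟨n, o, ho, hno⟩ := Nat.exists_eq_pow_mul_and_not_dvd (orderOf_pos k).ne' 2 (by norm_num)
  have hk' : k ^ o ∈ triv h hX hT := pow_mem hk o
  have h2 : (k ^ o) ^ 2 ^ n = 1 := by
    rw [← pow_mul, mul_comm, ← hno, pow_orderOf_eq_one]
  have k1 := mem_X_of_triv h hX hT hk' h2
  have k2 := conj_pow_eq hk1 hkb o
  have k3 : b ^ o = b := by
    obtain ⟨j, rfl⟩ : ∃ j, o = 2 * j + 1 := by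
      rcases Nat.even_or_odd' o with ⟨j, rfl | rfl⟩
      · exact absurd (dvd_mul_right 2 j) ho
      · exact ⟨j, rfl⟩
    rw [pow_succ, pow_mul, pow_two, hbb, one_pow, one_mul]
  rw [k3] at k2
  have k4 := commutator_X h hX hT k1 (h1_mem_of h hX hT)
  have k5 : k ^ o * h1 f * (k ^ o)⁻¹ * (h1 f)⁻¹ = b := by
    rw [k2, ← h.Tor_comm (h.Bu_le hb) h.h1_mem, mul_inv_cancel_right]
  rwa [k5] at k4

theorem good_t0 (m : ℕ) : Good (M m) 0 (-((2 ^ m : ℕ) : R m)) :=
  ⟨0, by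
    have : (M m : R m) = 2 * ((2 ^ m : ℕ) : R m) := by rw [M]; push_cast; ring
    rw [this]; ring⟩

omit [Finite C] in
/-- the element `t0 = diag (ζ, ζ⁻¹, 1, 1)` moves `t u` to `h1 t u` -/
theorem conj_t0 (h : Half (P : Subgroup C) m f u) {t : C} (ht : t ∈ Tor f) :
    f (M m) 0 (-((2 ^ m : ℕ) : R m)) * (t * u) * (f (M m) 0 (-((2 ^ m : ℕ) : R m)))⁻¹ = h1 f * (t * u) := by
  set t0 := f (M m) 0 (-((2 ^ m : ℕ) : R m)) with ht0
  have hg := good_t0 m
  have ht0T : t0 ∈ Tor f := h.f_mem_Tor hg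
  have e1 : t0 * (t * u) * t0⁻¹ = (t0 * (u * t0⁻¹ * u)) * (t * u) := by
    have k1 : t * (u * t0⁻¹ * u) = (u * t0⁻¹ * u) * t := h.Tor_comm ht (h.conj_u_mem (inv_mem ht0T))
    have k2 : t0 * (t * u) * t0⁻¹ = t0 * (t * (u * t0⁻¹ * u)) * u⁻¹ := by group
    rw [k2, k1, h.u_inv]
    group
  have e2 : t0 * (u * t0⁻¹ * u) = h1 f := by
    rw [ht0, h.f_inv hg, h.u_f_u hg.neg, h.f_mul _ _ _ _ _ _ hg hg.neg.actu, h1]
    have k1 : (M m : R m) + M m = N m := M_add_M
    congr 1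
    · rw [neg_neg]; exact k1
    · rw [neg_zero, add_zero]
    · ring
  rw [e1, e2]

theorem mem_normalizer_of {g : C} (hg : ∀ e ∈ X, g * e * g⁻¹ ∈ X) : g ∈ normalizer (X : Set C) := by
  rw [mem_normalizer_iff_map_conj]
  refine Subgroup.eq_of_le_of_card_ge ?_ (by rw [card_map_conj])
  rintro _ ⟨e, he, rfl⟩
  exact hg e he

end Half

end Cfsg.Agent.LFourB.CentXTwo
end

-- part: LFourB/CentXEss
section
/-!
# All odd automorphisms of the essential subgroups of `T ⟨u⟩` not containing `T`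
-/

set_option autoImplicit false

namespace Cfsg.Agent.LFourB.CentXEss

open Subgroup Cfsg.Agent.Lib.GoldschmidtFusion Cfsg.Agent.Lib.EssentialFusion Cfsg.Agent.LFourB.CentXOne
open Cfsg.Agent.LFourB.CentXTwo

variable {C : Type*} [Group C] [Finite C] {P : Sylow 2 C} {m : ℕ} {f : R m → R m → R m → C} {u : C} {X : Subgroup C}

/-- **The odd automorphisms.** -/
theorem odd_form (h : Half (P : Subgroup C) m f u) (hx : ∀ g : C, g * x4 f = x4 f * g) (hX : Ess P X)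
    (hT : ¬ Tor f ≤ X) {g : C} (hg : g ∈ normalizer (X : Set C)) (ho : ¬ 2 ∣ orderOf g)
    (hgc : g ∉ centralizer (X : Set C)) :
    ∃ (y : C) (q : R m), y ∈ Tor f ∧ (q = 0 ∨ q = N m) ∧ (∀ b ∈ Bu f, g * b = b * g) ∧
      y * (f 0 q (M m) * u) * y⁻¹ ∈ X ∧
      g * h1 f * g⁻¹ = y * (f 0 q (M m) * u) * y⁻¹ ∧
      (g * (y * (f 0 q (M m) * u) * y⁻¹) * g⁻¹ = h1 f * (y * (f 0 q (M m) * u) * y⁻¹) ∨
        g * (y * (f 0 q (M m) * u) * y⁻¹) * g⁻¹ = h1 f * (y * (f 0 q (M m) * u) * y⁻¹) * z1 f) := by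
  have hXP : X ≤ P := hX.lt.le
  have hB := Bu_le h hX
  have hh := h1_mem_of h hX hT
  have hcB : ∀ b ∈ Bu f, g * b = b * g := fun b hb => odd_comm_Bu h hx hX hT hg ho hb
  have hgz : g * z1 f = z1 f * g := hcB _ h.z1_mem
  -- `e1`
  have hnm := conj_h1_notMem h hx hX hT hg ho hgc
  have he1X : g * h1 f * g⁻¹ ∈ X := (mem_normalizer_iff.1 hg _).1 hh
  obtain ⟨t, ht, het⟩ : ∃ t ∈ Tor f, g * h1 f * g⁻¹ = t * u := by
    rcases h.mem_or (hXP he1X) with k | k
    · exact absurd k hnm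
    · exact k
  have htu : t * u ∈ X := by rw [← het]; exact he1X
  have htP : t * u ∈ (P : Subgroup C) := hXP htu
  have hsq : (t * u) * (t * u) = z1 f := by
    have e1 : g * h1 f * g⁻¹ * (g * h1 f * g⁻¹) = g * (h1 f * h1 f) * g⁻¹ := by group
    rw [← het, e1, h.h1_sq, hgz, mul_inv_cancel_right]
  -- conjugation relations
  have hzc : ∀ e ∈ (P : Subgroup C), z1 f * e = e * z1 f := fun e he => z1_comm h he
  have hht : (t * u) * h1 f = h1 f * (t * u) * z1 f := by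
    have k1 := conj_T h ht h.h1_mem
    rw [h.u_h1_u] at k1
    have k2 := mul_inv_eq_iff_eq_mul.1 k1
    rw [k2, mul_assoc, hzc _ htP, ← mul_assoc]
  -- `e2`
  have he2X : g * (t * u) * g⁻¹ ∈ X := (mem_normalizer_iff.1 hg _).1 htu
  obtain ⟨b, hb, hcase⟩ := mem_cases h hX hT he2X ht htu
  have hbP : b ∈ (P : Subgroup C) := h.Tor_le (h.Bu_le hb)
  have hbc : ∀ e ∈ (P : Subgroup C), b * e = e * b := fun e he => h.Bu_comm hb he
  have he2 : g * (t * u) * g⁻¹ = h1 f * (t * u) * b := by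
    rcases hcase with k | k | k | k
    · exfalso
      have k1 := hcB b hb
      rw [← k, inv_mul_cancel_right] at k1
      have k2 := mul_left_cancel k1
      rw [k] at k2
      exact h.tu_notMem ht (k2 ▸ h.Bu_le hb)
    · exfalso
      have k1 : (g ^ 2) * h1 f * (g ^ 2)⁻¹ = h1 f * b := by
        rw [← k, ← het, pow_two]; group
      have k2 : (g ^ 2) * b = b * g ^ 2 := (Commute.pow_left (hcB b hb) 2).eq
      have k3 : (g ^ 2) ^ orderOf g = 1 := by rw [← pow_mul, mul_comm, pow_mul, pow_orderOf_eq_one, one_pow]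
      have k4 := comm_of_odd k3 ho k1 k2 (Bu_pow h hb)
      rw [k4, mul_one, mul_inv_eq_iff_eq_mul] at k1
      apply hnm
      obtain ⟨j, hj⟩ : ∃ j, orderOf g = 2 * j + 1 := by
        rcases Nat.even_or_odd' (orderOf g) with ⟨j, h0 | h0⟩
        · exact absurd ⟨j, h0⟩ ho
        · exact ⟨j, h0⟩
      have k5 : (g ^ 2) ^ (j + 1) = g := by
        rw [← pow_mul]
        have : 2 * (j + 1) = orderOf g + 1 := by omega
        rw [this, pow_succ, pow_orderOf_eq_one, one_mul]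
      have k6 : g * h1 f = h1 f * g := by
        have := (Commute.pow_left (show Commute (g ^ 2) (h1 f) from k1) (j + 1)).eq
        rwa [k5] at this
      rw [k6, mul_inv_cancel_right]
      exact h.h1_mem
    · exfalso
      have k4 := comm_of_odd (pow_orderOf_eq_one g) ho k (hcB b hb) (Bu_pow h hb)
      rw [k4, mul_one, mul_inv_eq_iff_eq_mul, ← het] at k
      have k5 : g * h1 f * g⁻¹ = h1 f := by
        have e2 : g * (g * h1 f * g⁻¹) = g * h1 f := by rw [k, inv_mul_cancel_right]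
        exact mul_left_cancel e2
      apply hnm
      rw [k5]
      exact h.h1_mem
    · exact k
  have hbb : b * b = 1 := by
    have k1 : (g * (t * u) * g⁻¹) * (g * (t * u) * g⁻¹) = z1 f := by
      have e1 : (g * (t * u) * g⁻¹) * (g * (t * u) * g⁻¹) = g * ((t * u) * (t * u)) * g⁻¹ := by group
      rw [e1, hsq, hgz, mul_inv_cancel_right]
    rw [he2] at k1
    have k2 : h1 f * (t * u) * b * (h1 f * (t * u) * b) = z1 f * (b * b) := by
      calc h1 f * (t * u) * b * (h1 f * (t * u) * b)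
          = h1 f * (t * u) * (b * (h1 f * (t * u))) * b := by group
        _ = h1 f * (t * u) * ((h1 f * (t * u)) * b) * b := by
            rw [hbc _ (mul_mem (h.Tor_le h.h1_mem) htP)]
        _ = h1 f * ((t * u) * h1 f) * (t * u) * (b * b) := by group
        _ = h1 f * (h1 f * (t * u) * z1 f) * (t * u) * (b * b) := by rw [hht]
        _ = (h1 f * h1 f) * (t * u) * (z1 f * (t * u)) * (b * b) := by group
        _ = (h1 f * h1 f) * (t * u) * ((t * u) * z1 f) * (b * b) := by rw [hzc _ htP]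
        _ = (h1 f * h1 f) * ((t * u) * (t * u)) * z1 f * (b * b) := by group
        _ = z1 f * (b * b) := by rw [h.h1_sq, hsq, h.z1_sq, one_mul]
    rw [k2] at k1
    exact mul_eq_left.1 k1
  -- the element `t0`
  set t0 := f (M m) 0 (-((2 ^ m : ℕ) : R m)) with ht0d
  have ht0T : t0 ∈ Tor f := h.f_mem_Tor (good_t0 m)
  have ht0 : t0 * (t * u) * t0⁻¹ = h1 f * (t * u) := conj_t0 h ht
  have ht0' : t0 * (t * u) = h1 f * (t * u) * t0 := mul_inv_eq_iff_eq_mul.1 ht0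
  have ht0h : t0 * h1 f = h1 f * t0 := h.Tor_comm ht0T h.h1_mem
  have ht0B : ∀ b ∈ Bu f, t0 * b = b * t0 := fun b hb => h.Tor_comm ht0T (h.Bu_le hb)
  have ht0N : t0 ∈ normalizer (X : Set C) := by
    refine mem_normalizer_of ?_
    intro e he
    obtain ⟨b', hb', k | k | k | k⟩ := mem_cases h hX hT he ht htu
    · rw [k, ht0B b' hb', mul_inv_cancel_right]; exact hB hb'
    · have e1 : t0 * (h1 f * b') * t0⁻¹ = (t0 * h1 f * t0⁻¹) * (t0 * b' * t0⁻¹) := by group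
      rw [k, e1, ht0h, ht0B b' hb', mul_inv_cancel_right, mul_inv_cancel_right]
      exact mul_mem hh (hB hb')
    · have e1 : t0 * (t * u * b') * t0⁻¹ = (t0 * (t * u) * t0⁻¹) * (t0 * b' * t0⁻¹) := by group
      rw [k, e1, ht0, ht0B b' hb', mul_inv_cancel_right]
      exact mul_mem (mul_mem hh htu) (hB hb')
    · have e1 : t0 * (h1 f * (t * u) * b') * t0⁻¹ = (t0 * h1 f * t0⁻¹) * (t0 * (t * u) * t0⁻¹) * (t0 * b' * t0⁻¹) := by
        group
      rw [k, e1, ht0h, ht0, ht0B b' hb', mul_inv_cancel_right, mul_inv_cancel_right]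
      exact mul_mem (mul_mem hh (mul_mem hh htu)) (hB hb')
  -- `k = t0 g t0⁻¹ g`
  have hkB : ∀ b ∈ Bu f, (t0 * g * t0⁻¹ * g) * b = b * (t0 * g * t0⁻¹ * g) := by
    intro b' hb'
    have c1 : Commute t0 b' := ht0B b' hb'
    have c2 : Commute g b' := hcB b' hb'
    exact (((c1.mul_left c2).mul_left c1.inv_left).mul_left c2).eq
  have hk1 : (t0 * g * t0⁻¹ * g) * h1 f * (t0 * g * t0⁻¹ * g)⁻¹ = h1 f * (z1 f * b) := by
    have e1 : (t0 * g * t0⁻¹ * g) * h1 f * (t0 * g * t0⁻¹ * g)⁻¹ =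
        t0 * (g * (t0⁻¹ * (g * h1 f * g⁻¹) * t0) * g⁻¹) * t0⁻¹ := by group
    have e2 : t0⁻¹ * (t * u) * t0 = (h1 f)⁻¹ * (t * u) := by
      have k1 : t0⁻¹ * (t * u) * t0 = t0⁻¹ * ((h1 f)⁻¹ * (h1 f * (t * u) * t0)) := by group
      rw [k1, ← ht0']
      have k2 : t0⁻¹ * ((h1 f)⁻¹ * (t0 * (t * u))) = (t0⁻¹ * (h1 f)⁻¹ * t0) * (t * u) := by group
      have k3 : t0⁻¹ * (h1 f)⁻¹ * t0 = (h1 f)⁻¹ := by
        have : (h1 f)⁻¹ * t0 = t0 * (h1 f)⁻¹ := h.Tor_comm (inv_mem h.h1_mem) ht0T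
        rw [mul_assoc, this, inv_mul_cancel_left]
      rw [k2, k3]
    have e3 : g * ((h1 f)⁻¹ * (t * u)) * g⁻¹ = (t * u)⁻¹ * (h1 f * (t * u) * b) := by
      have k1 : g * ((h1 f)⁻¹ * (t * u)) * g⁻¹ = (g * h1 f * g⁻¹)⁻¹ * (g * (t * u) * g⁻¹) := by group
      rw [k1, het, he2]
    have e4 : t0 * ((t * u)⁻¹ * (h1 f * (t * u) * b)) * t0⁻¹ =
        (t0 * (t * u) * t0⁻¹)⁻¹ * ((t0 * h1 f * t0⁻¹) * (t0 * (t * u) * t0⁻¹) * (t0 * b * t0⁻¹)) := by group
    rw [e1, het, e2, e3, e4, ht0, ht0h, ht0B b hb, mul_inv_cancel_right, mul_inv_cancel_right]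
    have e5 : (h1 f * (t * u))⁻¹ * (h1 f * (h1 f * (t * u)) * b) = (t * u)⁻¹ * (h1 f * (t * u)) * b := by group
    rw [e5]
    have e6 : h1 f * (t * u) = (t * u) * h1 f * z1 f := by
      rw [hht, mul_assoc, h.z1_sq, mul_one]
    rw [e6]
    group
  have hk2 : (t0 * g * t0⁻¹ * g) * (t * u) * (t0 * g * t0⁻¹ * g)⁻¹ = z1 f * (t * u) := by
    have e1 : (t0 * g * t0⁻¹ * g) * (t * u) * (t0 * g * t0⁻¹ * g)⁻¹ =
        t0 * (g * (t0⁻¹ * (g * (t * u) * g⁻¹) * t0) * g⁻¹) * t0⁻¹ := by group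
    have e2 : t0⁻¹ * (h1 f * (t * u) * b) * t0 = (t * u) * b := by
      have k1 : t0⁻¹ * (h1 f * (t * u) * b) * t0 = t0⁻¹ * (h1 f * (t * u) * (b * t0)) := by group
      rw [k1, ← ht0B b hb]
      have k2 : t0⁻¹ * (h1 f * (t * u) * (t0 * b)) = t0⁻¹ * (h1 f * (t * u) * t0) * b := by group
      rw [k2, ← ht0', inv_mul_cancel_left]
    have e3 : g * ((t * u) * b) * g⁻¹ = h1 f * (t * u) := by
      have k1 : g * ((t * u) * b) * g⁻¹ = (g * (t * u) * g⁻¹) * (g * b * g⁻¹) := by group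
      rw [k1, he2, hcB b hb, mul_inv_cancel_right, mul_assoc _ b b, hbb, mul_one]
    have e4 : t0 * (h1 f * (t * u)) * t0⁻¹ = (t0 * h1 f * t0⁻¹) * (t0 * (t * u) * t0⁻¹) := by group
    rw [e1, he2, e2, e3, e4, ht0, ht0h, mul_inv_cancel_right, ← mul_assoc, h.h1_sq]
  have hkN : t0 * g * t0⁻¹ * g ∈ normalizer (X : Set C) :=
    mul_mem (mul_mem (mul_mem ht0N hg) (inv_mem ht0N)) hg
  have hktriv : t0 * g * t0⁻¹ * g ∈ triv h hX hT := by
    set k := t0 * g * t0⁻¹ * g with hk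
    have hkB' : ∀ b ∈ Bu f, k * b * k⁻¹ = b := fun b hb => by rw [hkB b hb, mul_inv_cancel_right]
    refine ⟨hkN, fun e he => ?_⟩
    obtain ⟨b', hb', k1 | k1 | k1 | k1⟩ := mem_cases h hX hT he ht htu
    · rw [k1, hkB' b' hb', mul_inv_cancel]; exact one_mem _
    · have e1 : k * (h1 f * b') * k⁻¹ * (h1 f * b')⁻¹ = (k * h1 f * k⁻¹) * (k * b' * k⁻¹) * b'⁻¹ * (h1 f)⁻¹ := by
        group
      rw [k1, e1, hk1, hkB' b' hb', mul_inv_cancel_right,
        ← h.Tor_comm (h.Bu_le (mul_mem h.z1_mem hb)) h.h1_mem, mul_inv_cancel_right]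
      exact mul_mem h.z1_mem hb
    · have e1 : k * (t * u * b') * k⁻¹ * (t * u * b')⁻¹ = (k * (t * u) * k⁻¹) * (k * b' * k⁻¹) * b'⁻¹ * (t * u)⁻¹ := by
        group
      rw [k1, e1, hk2, hkB' b' hb', mul_inv_cancel_right, mul_inv_cancel_right]
      exact h.z1_mem
    · have e1 : k * (h1 f * (t * u) * b') * k⁻¹ * (h1 f * (t * u) * b')⁻¹ =
          (k * h1 f * k⁻¹) * (k * (t * u) * k⁻¹) * (k * b' * k⁻¹) * b'⁻¹ * (t * u)⁻¹ * (h1 f)⁻¹ := by
        group
      rw [k1, e1, hk1, hk2, hkB' b' hb', mul_inv_cancel_right]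
      have e2 : h1 f * (z1 f * b) * (z1 f * (t * u)) * (t * u)⁻¹ * (h1 f)⁻¹ =
          h1 f * (z1 f * (b * z1 f)) * (h1 f)⁻¹ := by group
      have e3 : b * z1 f = z1 f * b := hbc _ (h.Tor_le (h.Bu_le h.z1_mem))
      rw [e2, e3, ← mul_assoc (z1 f), h.z1_sq, one_mul, ← h.Tor_comm (h.Bu_le hb) h.h1_mem, mul_inv_cancel_right]
      exact hb
  have hbz : b = 1 ∨ b = z1 f := by
    rcases triv_h1 h hX hT hktriv (mul_mem h.z1_mem hb) (hkB _ (mul_mem h.z1_mem hb)) hk1 with k | k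
    · right
      have := eq_inv_of_mul_eq_one_right k
      rw [z1_inv h] at this
      exact this
    · left
      exact mul_eq_left.1 k
  -- normalising by conjugation in the torus
  obtain ⟨p, q, r, hgd, htf⟩ := h.mem_Tor.1 ht
  have hcoord : 2 * q = 0 ∧ 2 * r + p = N m := by
    have k1 : (t * u) * (t * u) = f 0 (2 * q) (2 * r + p) := by
      have e1 : (t * u) * (t * u) = t * (u * t * u) := by group
      rw [e1, htf, h.u_f_u hgd, h.f_mul _ _ _ _ _ _ hgd hgd.actu]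
      congr 1 <;> ring
    have hgg : Good 0 (2 * q) (2 * r + p) := by
      have := hgd.add hgd.actu
      rw [add_neg_cancel] at this
      have e1 : q + q = 2 * q := by ring
      have e2 : r + (r + p) = 2 * r + p := by ring
      rwa [e1, e2] at this
    rw [hsq, z1, h.f_eq_iff BOne.good1 hgg] at k1
    exact ⟨k1.2.1.symm, k1.2.2.symm⟩
  have k5 : (2 : R m) * M m = N m := two_mul_M
  set c : R m := M m - r with hc
  have hgy : Good c (-c) 0 := ⟨0, by ring⟩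
  set y := f c (-c) 0 with hy
  have hyT : y ∈ Tor f := h.f_mem_Tor hgy
  have hyt : y⁻¹ * (t * u) * y = f 0 q (M m) * u := by
    have e1 : y⁻¹ * (t * u) * y = (t * (y⁻¹ * (u * y * u))) * u := by
      have k1 : y⁻¹ * t = t * y⁻¹ := h.Tor_comm (inv_mem hyT) ht
      have k2 : y⁻¹ * (t * u) * y = (y⁻¹ * t) * u * y := by group
      rw [k2, k1]
      have k4 : t * (y⁻¹ * (u * y * u)) * u = t * y⁻¹ * u * y * (u * u) := by group
      rw [k4, h.u_u, mul_one]
    rw [e1, hy, h.f_inv hgy, h.u_f_u hgy, h.f_mul _ _ _ _ _ _ hgy.neg hgy.actu, htf,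
      h.f_mul _ _ _ _ _ _ hgd (hgy.neg.add hgy.actu)]
    congr 2
    · rw [hc]; linear_combination hcoord.2 - k5
    · ring
    · rw [hc]; ring
  have hty : y * (f 0 q (M m) * u) * y⁻¹ = t * u := by rw [← hyt]; group
  refine ⟨y, q, hyT, eq_of_two_mul hcoord.1, hcB, ?_, ?_, ?_⟩
  · rw [hty]; exact htu
  · rw [hty]; exact het
  · rw [hty, he2]
    rcases hbz with k | k
    · left; rw [k, mul_one]
    · right; rw [k]

/-- `g` is an odd automorphism of `X = (B⟨h1, u⟩)^y` with `h1 → (f 0 q M * u)^y`. -/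
structure OddA {C : Type*} [Group C] {m : ℕ} (f : R m → R m → R m → C) (u : C) (X : Subgroup C) (g y : C)
    (q : R m) : Prop where
  y_mem : y ∈ Tor f
  q_eq : q = 0 ∨ q = N m
  g_norm : g ∈ normalizer (X : Set C)
  g_odd : ¬ 2 ∣ orderOf g
  cent : ∀ b ∈ Bu f, g * b = b * g
  e_mem : y * (f 0 q (M m) * u) * y⁻¹ ∈ X
  g_h1 : g * h1 f * g⁻¹ = y * (f 0 q (M m) * u) * y⁻¹
  g_e : g * (y * (f 0 q (M m) * u) * y⁻¹) * g⁻¹ = h1 f * (y * (f 0 q (M m) * u) * y⁻¹) ∨
    g * (y * (f 0 q (M m) * u) * y⁻¹) * g⁻¹ = h1 f * (y * (f 0 q (M m) * u) * y⁻¹) * z1 f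

theorem exists_oddA (h : Half (P : Subgroup C) m f u) (hx : ∀ g : C, g * x4 f = x4 f * g) (hX : Ess P X)
    (hT : ¬ Tor f ≤ X) {g : C} (hg : g ∈ normalizer (X : Set C)) (ho : ¬ 2 ∣ orderOf g)
    (hgc : g ∉ centralizer (X : Set C)) : ∃ y q, OddA f u X g y q := by
  obtain ⟨y, q, h1, h2, h3, h4, h5, h6⟩ := odd_form h hx hX hT hg ho hgc
  exact ⟨y, q, h1, h2, hg, ho, h3, h4, h5, h6⟩

omit [Finite C] in
theorem good_e {q : R m} (hq : q = 0 ∨ q = N m) : Good (0 : R m) q (M m) :=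
  good_of_N (Or.inl rfl) hq four_mul_M

omit [Finite C] in
theorem e_form (h : Half (P : Subgroup C) m f u) {y : C} (hy : y ∈ Tor f) {q : R m} (hq : q = 0 ∨ q = N m) :
    ∃ t ∈ Tor f, y * (f 0 q (M m) * u) * y⁻¹ = t * u := by
  refine ⟨y * f 0 q (M m) * (u * y⁻¹ * u), mul_mem (mul_mem hy (h.f_mem_Tor (good_e hq)))
    (h.conj_u_mem (inv_mem hy)), ?_⟩
  calc y * (f 0 q (M m) * u) * y⁻¹ = y * f 0 q (M m) * (u * y⁻¹) * 1 := by group
    _ = y * f 0 q (M m) * (u * y⁻¹) * (u * u) := by rw [h.u_u]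
    _ = _ := by group

/-- the elements of `X` -/
theorem OddA.cases (h : Half (P : Subgroup C) m f u) (hX : Ess P X) (hT : ¬ Tor f ≤ X) {g y : C} {q : R m}
    (ha : OddA f u X g y q) {e : C} (he : e ∈ X) : ∃ b ∈ Bu f, e = b ∨ e = h1 f * b ∨
      e = (y * (f 0 q (M m) * u) * y⁻¹) * b ∨ e = h1 f * (y * (f 0 q (M m) * u) * y⁻¹) * b := by
  obtain ⟨t, ht, hte⟩ := e_form h ha.y_mem ha.q_eq
  have htu := ha.e_mem
  rw [hte] at htu ⊢
  exact mem_cases h hX hT he ht htu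

omit [Finite C] in
theorem f_comm_y (h : Half (P : Subgroup C) m f u) {y a : C} (hy : y ∈ Tor f) (ha : a ∈ Tor f) :
    y * a * y⁻¹ = a := by rw [h.Tor_comm hy ha, mul_inv_cancel_right]

/-- conjugation by `y` -/
theorem OddA.mem_iff (h : Half (P : Subgroup C) m f u) (hX : Ess P X) (hT : ¬ Tor f ≤ X) {g y : C} {q : R m}
    (ha : OddA f u X g y q) (r : C) : y * r * y⁻¹ ∈ X ↔ r ∈ Ru f u := by
  have hB := CentXOne.Bu_le h hX
  have hh := h1_mem_of h hX hT
  have hBy : ∀ b ∈ Bu f, y * b * y⁻¹ = b := fun b hb => f_comm_y h ha.y_mem (h.Bu_le hb)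
  have hfe : f 0 q (M m) ∈ Bu f := h.f_mem_Bu (good_e ha.q_eq)
  have hRB : Bu f ≤ Ru f u := le_sup_left
  have hRh : h1 f ∈ Ru f u := (le_sup_right : _ ≤ Ru f u) (_root_.Subgroup.subset_closure (by simp))
  have hRu : u ∈ Ru f u := (le_sup_right : _ ≤ Ru f u) (_root_.Subgroup.subset_closure (by simp))
  constructor
  · intro hr
    obtain ⟨b, hb, k | k | k | k⟩ := ha.cases h hX hT hr
    · have : r = b := by rw [← hBy b hb, mul_left_inj, mul_right_inj] at k; exact k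
      rw [this]; exact hRB hb
    · have : r = h1 f * b := by
        rw [← f_comm_y h ha.y_mem (mul_mem h.h1_mem (h.Bu_le hb)), mul_left_inj, mul_right_inj] at k; exact k
      rw [this]; exact mul_mem hRh (hRB hb)
    · have : r = f 0 q (M m) * u * b := by
        have e1 : y * (f 0 q (M m) * u) * y⁻¹ * b = y * (f 0 q (M m) * u * b) * y⁻¹ := by
          conv_lhs => rw [← hBy b hb]
          group
        rw [e1, mul_left_inj, mul_right_inj] at k; exact k
      rw [this]; exact mul_mem (mul_mem (hRB hfe) hRu) (hRB hb)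
    · have : r = h1 f * (f 0 q (M m) * u) * b := by
        have e1 : h1 f * (y * (f 0 q (M m) * u) * y⁻¹) * b = y * (h1 f * (f 0 q (M m) * u) * b) * y⁻¹ := by
          conv_lhs => rw [← hBy b hb, ← f_comm_y h ha.y_mem h.h1_mem]
          group
        rw [e1, mul_left_inj, mul_right_inj] at k; exact k
      rw [this]; exact mul_mem (mul_mem hRh (mul_mem (hRB hfe) hRu)) (hRB hb)
  · intro hr
    have hle : Ru f u ≤ X.comap (MulAut.conj y).toMonoidHom := by
      refine sup_le ?_ ?_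
      · intro b hb
        change y * b * y⁻¹ ∈ X
        rw [hBy b hb]; exact hB hb
      · rw [closure_le]
        rintro a (k | k)
        · change y * a * y⁻¹ ∈ X
          rw [k, f_comm_y h ha.y_mem h.h1_mem]; exact hh
        · change y * a * y⁻¹ ∈ X
          have k : a = u := k
          rw [k]
          have e1 : y * u * y⁻¹ = (y * f 0 q (M m) * y⁻¹)⁻¹ * (y * (f 0 q (M m) * u) * y⁻¹) := by group
          rw [e1, hBy _ hfe]
          exact mul_mem (inv_mem (hB hfe)) ha.e_mem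
    exact hle hr

omit [Finite C] in
theorem eq_of_gooda (h : Half (P : Subgroup C) m f u) {q q' : R m} (hq : q = 0 ∨ q = N m) (hq' : q' = 0 ∨ q' = N m)
    (hne : q ≠ q') : f 0 q' (M m) * u = x3 f * (f 0 q (M m) * u) ∧ x3 f * x3 f = 1 ∧ x3 f ∈ Bu f ∧
      f 0 q (M m) * u = x3 f * (f 0 q' (M m) * u) := by
  have g3 : Good (0 : R m) (N m) 0 := BOne.goodx3
  have hqq : q' = N m + q ∧ q = N m + q' := by
    rcases hq with rfl | rfl <;> rcases hq' with rfl | rfl
    · exact absurd rfl hne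
    · exact ⟨by rw [add_zero], N_add_N.symm⟩
    · exact ⟨N_add_N.symm, by rw [add_zero]⟩
    · exact absurd rfl hne
  refine ⟨?_, ?_, h.f_mem_Bu g3, ?_⟩
  · rw [x3, ← mul_assoc, h.f_mul _ _ _ _ _ _ g3 (good_e hq), zero_add, zero_add, ← hqq.1]
  · rw [x3, h.f_mul _ _ _ _ _ _ g3 g3, N_add_N, add_zero, h.f_zero]
  · rw [x3, ← mul_assoc, h.f_mul _ _ _ _ _ _ g3 (good_e hq'), zero_add, zero_add, ← hqq.2]

/-- the element `y⁻¹ g y` -/
theorem OddA.down (h : Half (P : Subgroup C) m f u) {g y : C} {q : R m} (ha : OddA f u X g y q) :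
    (∀ b ∈ Bu f, (y⁻¹ * g * y) * b = b * (y⁻¹ * g * y)) ∧
      (y⁻¹ * g * y) * h1 f * (y⁻¹ * g * y)⁻¹ = f 0 q (M m) * u ∧
      ∃ z, (z = 1 ∨ z = z1 f) ∧
        (y⁻¹ * g * y) * (f 0 q (M m) * u) * (y⁻¹ * g * y)⁻¹ = h1 f * (f 0 q (M m) * u) * z := by
  have hyh := f_comm_y h ha.y_mem h.h1_mem
  have hyz := f_comm_y h ha.y_mem (h.Bu_le h.z1_mem)
  refine ⟨?_, ?_, ?_⟩
  · intro b hb
    have c1 : Commute y b := h.Tor_comm ha.y_mem (h.Bu_le hb)
    have c2 : Commute g b := ha.cent b hb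
    exact ((c1.inv_left.mul_left c2).mul_left c1).eq
  · have e1 : (y⁻¹ * g * y) * h1 f * (y⁻¹ * g * y)⁻¹ = y⁻¹ * (g * (y * h1 f * y⁻¹) * g⁻¹) * y := by group
    rw [e1, hyh, ha.g_h1]; group
  · have e1 : (y⁻¹ * g * y) * (f 0 q (M m) * u) * (y⁻¹ * g * y)⁻¹ =
        y⁻¹ * (g * (y * (f 0 q (M m) * u) * y⁻¹) * g⁻¹) * y := by group
    rcases ha.g_e with k | k
    · refine ⟨1, Or.inl rfl, ?_⟩
      rw [e1, k]
      have e2 : y⁻¹ * (h1 f * (y * (f 0 q (M m) * u) * y⁻¹)) * y =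
          y⁻¹ * (h1 f) * y * (f 0 q (M m) * u) := by group
      have e4 : y⁻¹ * h1 f * y = h1 f := by
        conv_lhs => rw [← hyh]
        group
      rw [e2, mul_one, e4]
    · refine ⟨z1 f, Or.inr rfl, ?_⟩
      rw [e1, k]
      have e2 : y⁻¹ * (h1 f * (y * (f 0 q (M m) * u) * y⁻¹) * z1 f) * y =
          y⁻¹ * (h1 f) * y * (f 0 q (M m) * u) * (y⁻¹ * z1 f * y) := by group
      have e3 : y⁻¹ * z1 f * y = z1 f := by
        conv_lhs => rw [← hyz]
        group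
      have e4 : y⁻¹ * h1 f * y = h1 f := by
        conv_lhs => rw [← hyh]
        group
      rw [e2, e3, e4]

theorem OddA.norm_Ru (h : Half (P : Subgroup C) m f u) (hX : Ess P X) (hT : ¬ Tor f ≤ X) {g y : C} {q : R m}
    (ha : OddA f u X g y q) : y⁻¹ * g * y ∈ normalizer (Ru f u : Set C) := by
  rw [mem_normalizer_iff]
  intro r
  rw [← ha.mem_iff h hX hT r, ← ha.mem_iff h hX hT (y⁻¹ * g * y * r * (y⁻¹ * g * y)⁻¹)]
  have e1 : y * (y⁻¹ * g * y * r * (y⁻¹ * g * y)⁻¹) * y⁻¹ = g * (y * r * y⁻¹) * g⁻¹ := by group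
  rw [e1]
  exact mem_normalizer_iff.1 ha.g_norm _

/-- The value `q` is the same for all odd automorphisms. -/
theorem unique (h : Half (P : Subgroup C) m f u) {X' : Subgroup C} {g g' y y' : C} {q q' : R m}
    (ha : OddA f u X g y q) (hX' : Ess P X') (hT' : ¬ Tor f ≤ X')
    (ha' : OddA f u X' g' y' q') (hXg : y⁻¹ * g * y ∈ normalizer (Ru f u : Set C)) : q = q' := by
  by_contra hne
  obtain ⟨ee, hxx, hxB, ee'⟩ := eq_of_gooda h ha.q_eq ha'.q_eq hne
  obtain ⟨dB, d1, z, hz, d2⟩ := ha.down h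
  obtain ⟨dB', d1', z', hz', d2'⟩ := ha'.down h
  have hzB : z ∈ Bu f := by rcases hz with rfl | rfl; exacts [one_mem _, h.z1_mem]
  have hzB' : z' ∈ Bu f := by rcases hz' with rfl | rfl; exacts [one_mem _, h.z1_mem]
  have hBP : ∀ b ∈ Bu f, ∀ a ∈ (P : Subgroup C), Commute b a := fun b hb a hab => h.Bu_comm hb hab
  set d := y⁻¹ * g * y with hd
  set d' := y'⁻¹ * g' * y' with hd'
  set e := f 0 q (M m) * u with he
  set e' := f 0 q' (M m) * u with he'
  set x := x3 f with hx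
  have heP : e ∈ (P : Subgroup C) := mul_mem (h.Tor_le (h.f_mem_Tor (good_e ha.q_eq))) h.u_mem
  have heP' : e' ∈ (P : Subgroup C) := mul_mem (h.Tor_le (h.f_mem_Tor (good_e ha'.q_eq))) h.u_mem
  have hhP : h1 f ∈ (P : Subgroup C) := h.Tor_le h.h1_mem
  have cdx : Commute d' x := dB' x hxB
  have cdz : Commute d' z := dB' z hzB
  have cdz' : Commute d' z' := dB' z' hzB'
  have cx : Commute x (h1 f) := hBP x hxB _ hhP
  have cxe' : Commute x e' := hBP x hxB _ heP'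
  have cz : Commute z (h1 f) := hBP z hzB _ hhP
  have cz' : Commute z' (h1 f) := hBP z' hzB' _ hhP
  have czx : Commute z' x := h.Tor_comm (h.Bu_le hzB') (h.Bu_le hxB)
  have kB : ∀ b ∈ Bu f, Commute (d'⁻¹ * d) b := by
    intro b hb
    have c1 : Commute d b := dB b hb
    have c2 : Commute d' b := dB' b hb
    exact c2.inv_left.mul_left c1
  have a1 : d'⁻¹ * e' * d' = h1 f := by rw [← d1']; group
  have K1 : (d'⁻¹ * d) * h1 f * (d'⁻¹ * d)⁻¹ = h1 f * x := by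
    have e1 : (d'⁻¹ * d) * h1 f * (d'⁻¹ * d)⁻¹ = d'⁻¹ * (d * h1 f * d⁻¹) * d' := by group
    rw [e1, d1, ee']
    have e2 : d'⁻¹ * (x * e') * d' = (d'⁻¹ * x * d') * (d'⁻¹ * e' * d') := by group
    have e3 : d'⁻¹ * x * d' = x := by rw [mul_assoc, ← cdx.eq, inv_mul_cancel_left]
    rw [e2, e3, a1, cx.eq]
  have a2 : d'⁻¹ * h1 f * d' = e' * z'⁻¹ * (h1 f)⁻¹ := by
    have e1 : d'⁻¹ * (d' * e' * d'⁻¹) * d' = d'⁻¹ * (h1 f * e' * z') * d' := by rw [d2']
    have e2 : d'⁻¹ * (h1 f * e' * z') * d' = (d'⁻¹ * h1 f * d') * (d'⁻¹ * e' * d') * (d'⁻¹ * z' * d') := by group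
    have e3 : d'⁻¹ * z' * d' = z' := by rw [mul_assoc, ← cdz'.eq, inv_mul_cancel_left]
    have e4 : d'⁻¹ * (d' * e' * d'⁻¹) * d' = e' := by group
    rw [e4, e2, e3, a1] at e1
    rw [e1]
    have e5 : d'⁻¹ * h1 f * d' * h1 f * z' * z'⁻¹ * (h1 f)⁻¹ = d'⁻¹ * h1 f * d' := by group
    exact e5.symm
  have hzz : z'⁻¹ * z = 1 ∨ z'⁻¹ * z = z1 f := by
    rcases hz with rfl | rfl <;> rcases hz' with rfl | rfl
    · left; simp
    · right; rw [z1_inv h, mul_one]
    · right; rw [inv_one, one_mul]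
    · left; rw [inv_mul_cancel]
  have K2 : (d'⁻¹ * d) * e' * (d'⁻¹ * d)⁻¹ = e' * (z'⁻¹ * z) := by
    have e1 : (d'⁻¹ * d) * e' * (d'⁻¹ * d)⁻¹ = d'⁻¹ * (d * (x * e) * d⁻¹) * d' := by rw [ee]; group
    have e2 : d * (x * e) * d⁻¹ = x * (h1 f * e * z) := by
      have c : Commute d x := dB x hxB
      calc d * (x * e) * d⁻¹ = (d * x) * e * d⁻¹ := by group
        _ = x * (d * e * d⁻¹) := by rw [c.eq]; group
        _ = _ := by rw [d2]
    have e3 : d'⁻¹ * (x * (h1 f * e * z)) * d' =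
        (d'⁻¹ * x * d') * (d'⁻¹ * h1 f * d') * (d'⁻¹ * e * d') * (d'⁻¹ * z * d') := by group
    have e4 : d'⁻¹ * x * d' = x := by rw [mul_assoc, ← cdx.eq, inv_mul_cancel_left]
    have e5 : d'⁻¹ * z * d' = z := by rw [mul_assoc, ← cdz.eq, inv_mul_cancel_left]
    have e6 : d'⁻¹ * e * d' = x * h1 f := by
      rw [ee']
      have : d'⁻¹ * (x * e') * d' = (d'⁻¹ * x * d') * (d'⁻¹ * e' * d') := by group
      rw [this, e4, a1]
    rw [e1, e2, e3, e4, e5, e6, a2]
    calc x * (e' * z'⁻¹ * (h1 f)⁻¹) * (x * h1 f) * z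
        = x * (e' * z'⁻¹ * (h1 f)⁻¹) * (h1 f * x) * z := by rw [cx.eq]
      _ = (x * e') * (z'⁻¹ * x) * z := by group
      _ = (e' * x) * (x * z'⁻¹) * z := by rw [cxe'.eq, czx.inv_left.eq]
      _ = e' * (x * x) * (z'⁻¹ * z) := by group
      _ = _ := by rw [hxx, mul_one]
  -- transport to `X'`
  have hyB : ∀ b ∈ Bu f, Commute y' b := fun b hb => h.Tor_comm ha'.y_mem (h.Bu_le hb)
  have hyh : Commute y' (h1 f) := h.Tor_comm ha'.y_mem h.h1_mem
  set k := y' * (d'⁻¹ * d) * y'⁻¹ with hk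
  have kB' : ∀ b ∈ Bu f, Commute k b := fun b hb => ((hyB b hb).mul_left (kB b hb)).mul_left (hyB b hb).inv_left
  have k1 : k * h1 f * k⁻¹ = h1 f * x := by
    have e1 : k * h1 f * k⁻¹ = y' * ((d'⁻¹ * d) * (y'⁻¹ * h1 f * y') * (d'⁻¹ * d)⁻¹) * y'⁻¹ := by
      rw [hk]; group
    have e2 : y'⁻¹ * h1 f * y' = h1 f := by rw [mul_assoc, ← hyh.eq, inv_mul_cancel_left]
    rw [e1, e2, K1]
    have e3 : y' * (h1 f * x) * y'⁻¹ = h1 f * x := by
      rw [(hyh.mul_right (hyB x hxB)).eq, mul_inv_cancel_right]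
    exact e3
  have k2 : k * (y' * e' * y'⁻¹) * k⁻¹ = (y' * e' * y'⁻¹) * (z'⁻¹ * z) := by
    have e1 : k * (y' * e' * y'⁻¹) * k⁻¹ = y' * ((d'⁻¹ * d) * e' * (d'⁻¹ * d)⁻¹) * y'⁻¹ := by rw [hk]; group
    rw [e1, K2]
    have hzzB : z'⁻¹ * z ∈ Bu f := mul_mem (inv_mem hzB') hzB
    have e3 : y' * (e' * (z'⁻¹ * z)) * y'⁻¹ = (y' * e' * y'⁻¹) * (y' * (z'⁻¹ * z) * y'⁻¹) := by group
    rw [e3, (hyB _ hzzB).eq, mul_inv_cancel_right]
  have hkN : k ∈ normalizer (X' : Set C) := by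
    have h1 : d'⁻¹ * d ∈ normalizer (Ru f u : Set C) := mul_mem (inv_mem (ha'.norm_Ru h hX' hT')) hXg
    rw [mem_normalizer_iff]
    intro r
    have e1 : r = y' * (y'⁻¹ * r * y') * y'⁻¹ := by group
    have e2 : k * r * k⁻¹ = y' * ((d'⁻¹ * d) * (y'⁻¹ * r * y') * (d'⁻¹ * d)⁻¹) * y'⁻¹ := by rw [hk]; group
    rw [e2, ha'.mem_iff h hX' hT']
    conv_lhs => rw [e1, ha'.mem_iff h hX' hT']
    exact mem_normalizer_iff.1 h1 _
  have hktriv : k ∈ triv h hX' hT' := by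
    refine ⟨hkN, fun a haX => ?_⟩
    have hzzB : z'⁻¹ * z ∈ Bu f := mul_mem (inv_mem hzB') hzB
    have hyeP : y' * e' * y'⁻¹ ∈ (P : Subgroup C) := hX'.lt.le ha'.e_mem
    obtain ⟨b, hb, q1 | q1 | q1 | q1⟩ := ha'.cases h hX' hT' haX
    · rw [q1, (kB' b hb).eq, mul_inv_cancel_right, mul_inv_cancel]; exact one_mem _
    · have e1 : k * (h1 f * b) * k⁻¹ * (h1 f * b)⁻¹ = (k * h1 f * k⁻¹) * (k * b * k⁻¹) * b⁻¹ * (h1 f)⁻¹ := by group
      rw [q1, e1, k1, (kB' b hb).eq, mul_inv_cancel_right, mul_inv_cancel_right, ← cx.eq, mul_inv_cancel_right]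
      exact hxB
    · have e1 : k * (y' * e' * y'⁻¹ * b) * k⁻¹ * (y' * e' * y'⁻¹ * b)⁻¹ =
          (k * (y' * e' * y'⁻¹) * k⁻¹) * (k * b * k⁻¹) * b⁻¹ * (y' * e' * y'⁻¹)⁻¹ := by group
      rw [q1, e1, k2, (kB' b hb).eq, mul_inv_cancel_right, mul_inv_cancel_right,
        ← (hBP _ hzzB _ hyeP).eq, mul_inv_cancel_right]
      exact hzzB
    · have e1 : k * (h1 f * (y' * e' * y'⁻¹) * b) * k⁻¹ * (h1 f * (y' * e' * y'⁻¹) * b)⁻¹ =
          (k * h1 f * k⁻¹) * (k * (y' * e' * y'⁻¹) * k⁻¹) * (k * b * k⁻¹) * b⁻¹ * (y' * e' * y'⁻¹)⁻¹ * (h1 f)⁻¹ := by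
        group
      rw [q1, e1, k1, k2, (kB' b hb).eq, mul_inv_cancel_right, mul_inv_cancel_right,
        ← (hBP _ hzzB _ hyeP).eq]
      have e2 : h1 f * x * (z'⁻¹ * z * (y' * e' * y'⁻¹)) * (y' * e' * y'⁻¹)⁻¹ * (h1 f)⁻¹ =
          h1 f * (x * (z'⁻¹ * z)) * (h1 f)⁻¹ := by group
      have hm : x * (z'⁻¹ * z) ∈ Bu f := mul_mem hxB hzzB
      rw [e2, ← (hBP _ hm _ hhP).eq, mul_inv_cancel_right]
      exact hm
  rcases triv_h1 h hX' hT' hktriv hxB (kB' x hxB).eq k1 with c | c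
  · rw [hx, x3, h.f_eq_one_iff BOne.goodx3] at c
    exact N_ne_zero c.2.1
  · rw [hx, x3, z1, h.f_eq_iff BOne.goodx3 BOne.good1] at c
    exact N_ne_zero c.2.1

end Cfsg.Agent.LFourB.CentXEss
end

-- part: LFourB/OddInv
section
/-!
# Fusion invariance from elements of order prime to `p`

A function on a Sylow `p`-subgroup `P`, invariant under `P` and under the `p'`-elements of the normalizers of the
centric subgroups of `P`, is invariant under fusion.
-/

set_option autoImplicit false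

namespace Cfsg.Agent.LFourB.OddInv

open Subgroup Cfsg.Agent.Lib.GoldschmidtFusion Cfsg.Agent.Lib.EssentialFusion

/-- The same with the essential subgroups and `P` only. -/
theorem invariant_ess {G : Type*} [Group G] [Finite G] {p : ℕ} [hp : Fact p.Prime] (P : Sylow p G) {α : Sort*}
    (φ : G → α) (hP : ∀ s ∈ (P : Subgroup G), ∀ x ∈ (P : Subgroup G), φ (s * x * s⁻¹) = φ x)
    (hodd : ∀ X : Subgroup G, X = (P : Subgroup G) ∨ Ess P X →
      ∀ g ∈ normalizer (X : Set G), Nat.Coprime (orderOf g) p → g ∉ centralizer (X : Set G) →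
      ∀ x ∈ X, φ (g * x * g⁻¹) = φ x)
    {x g : G} (hx : x ∈ (P : Subgroup G)) (hg : g * x * g⁻¹ ∈ (P : Subgroup G)) :
    φ (g * x * g⁻¹) = φ x := by
  let F : Subgroup G → Prop := fun X => X = (P : Subgroup G) ∨ Ess P X
  have hgen := gen_of_conj_ess P F (Or.inl rfl) (fun X h => Or.inr h) (A := zpowers x)
    ((zpowers_le).2 hx) (g := g) (zpowers_map_conj_le hg)
  refine hgen.invariant φ ?_ x (mem_zpowers x)
  intro X hX hFX
  have hfull : ¬ p ∣ ((P : Subgroup G) ⊓ normalizer (X : Set G)).relIndex (normalizer (X : Set G)) := by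
    rcases hFX with rfl | h
    · rw [inf_eq_left.2 le_normalizer]
      intro hd
      exact P.not_dvd_index (hd.trans (relIndex_dvd_index_of_le le_normalizer))
    · exact h.full
  -- the elements of the normalizer preserving `φ`
  let M : Subgroup (normalizer (X : Set G)) :=
    { carrier := {n | ∀ y ∈ X, φ ((n : G) * y * (n : G)⁻¹) = φ y}
      one_mem' := by
        intro y _
        simp
      mul_mem' := by
        intro a b ha hb y hy
        have hy' : (b : G) * y * (b : G)⁻¹ ∈ X := (mem_normalizer_iff.1 b.2 y).1 hy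
        have e : ((a * b : normalizer (X : Set G)) : G) * y * ((a * b : normalizer (X : Set G)) : G)⁻¹ =
            (a : G) * ((b : G) * y * (b : G)⁻¹) * (a : G)⁻¹ := by
          rw [Subgroup.coe_mul]; group
        rw [e, ha _ hy', hb y hy]
      inv_mem' := by
        intro a ha y hy
        have hy' : (a : G)⁻¹ * y * (a : G) ∈ X := by
          have := (mem_normalizer_iff.1 (inv_mem a.2) y).1 hy
          rwa [inv_inv] at this
        have h1 := ha _ hy'
        have e : (a : G) * ((a : G)⁻¹ * y * (a : G)) * (a : G)⁻¹ = y := by group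
        rw [e] at h1
        rw [h1]
        simp }
  have hM1 : Cfsg.pResidual p (normalizer (X : Set G)) ≤ M := by
    rw [Cfsg.pResidual, closure_le]
    intro n hn y hy
    by_cases hc : (n : G) ∈ centralizer (X : Set G)
    · rw [conj_eq_of_mem_centralizer hc hy]
    · refine hodd X hFX n n.2 ?_ hc y hy
      have : Nat.Coprime (orderOf n) p := hn
      rwa [← Subgroup.orderOf_coe] at this
  have hM2 : ¬ p ∣ M.index := by
    intro hd
    apply hfull
    have h1 : ((P : Subgroup G) ⊓ normalizer (X : Set G)).subgroupOf (normalizer (X : Set G)) ≤ M := by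
      intro n hn y hy
      exact hP n (mem_subgroupOf.1 hn).1 y (hX hy)
    exact hd.trans (index_dvd_of_le h1)
  have hM3 := Transfer.Residual.pResidual_sup_of_not_dvd_index (p := p) hM2
  have hM4 : M = ⊤ := by
    rw [eq_top_iff, ← hM3]
    exact sup_le hM1 le_rfl
  intro n hn y hy
  have : (⟨n, hn⟩ : normalizer (X : Set G)) ∈ M := by rw [hM4]; exact mem_top _
  exact this y hy

end Cfsg.Agent.LFourB.OddInv
end

-- part: LFourB/CentXMain
section
/-!
# The centraliser of `x4`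

From the essential subgroups of `P = T⟨u⟩` in `C = C(x4)`: the projection `P → D` is invariant under fusion, `D` is
isolated, `O^2(C) ∩ P = W` is wreathed; the structure of `C / O(C)`.
-/

set_option autoImplicit false

namespace Cfsg.Agent.LFourB

open Subgroup Cfsg.Agent.Lib.EssentialFusion CentXEss

universe v

/-- The data in the centraliser of `x4`, with the essential subgroups. -/
structure XDat {C : Type v} [Group C] [Finite C] (P : Sylow 2 C) (m : ℕ) (f : R m → R m → R m → C) (u ρ : C) : Prop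
    extends XAct (P : Subgroup C) m f u ρ where
  ρ_odd : Nat.Coprime (orderOf ρ) 2
  norm_P : normalizer ((P : Subgroup C) : Set C) ≤ normalizer (Tor f : Set C)
  val : ∃ (X : Subgroup C) (g y : C), Ess P X ∧ ¬ Tor f ≤ X ∧ OddA f u X g y 0

namespace Half

open BOne (goodx1 goodx2 goodx3 goodx4)

variable {C : Type v} [Group C] {P : Subgroup C} {m : ℕ} {f : R m → R m → R m → C} {u : C}

theorem X_injective (h : Half P m f u) : Function.Injective (X f) := by
  have hN : (N m : R m) ≠ 0 := N_ne_zero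
  have e12 : x1 f ≠ x2 f := by
    rw [x1, x2, Ne, h.f_eq_iff goodx1 goodx2]; rintro ⟨-, -, h3⟩; exact hN h3.symm
  have e13 : x1 f ≠ x3 f := by
    rw [x1, x3, Ne, h.f_eq_iff goodx1 goodx3]; rintro ⟨h3, -, -⟩; exact hN h3
  have e14 : x1 f ≠ x4 f := by
    rw [x1, x4, Ne, h.f_eq_iff goodx1 goodx4]; rintro ⟨h3, -, -⟩; exact hN h3
  have e23 : x2 f ≠ x3 f := by
    rw [x2, x3, Ne, h.f_eq_iff goodx2 goodx3]; rintro ⟨h3, -, -⟩; exact hN h3
  have e24 : x2 f ≠ x4 f := by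
    rw [x2, x4, Ne, h.f_eq_iff goodx2 goodx4]; rintro ⟨h3, -, -⟩; exact hN h3
  have e34 : x3 f ≠ x4 f := by
    rw [x3, x4, Ne, h.f_eq_iff goodx3 goodx4]; rintro ⟨-, -, h3⟩; exact hN h3.symm
  intro i j hij
  fin_cases i <;> fin_cases j <;> simp [X] at hij ⊢
  · exact e12 hij
  · exact e13 hij
  · exact e14 hij
  · exact e12 hij.symm
  · exact e23 hij
  · exact e24 hij
  · exact e13 hij.symm
  · exact e23 hij.symm
  · exact e34 hij
  · exact e14 hij.symm
  · exact e24 hij.symm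
  · exact e34 hij.symm

theorem X_mem (h : Half P m f u) (i : Fin 4) : X f i ∈ Tor f := by
  fin_cases i
  · exact h.f_mem_Tor goodx1
  · exact h.f_mem_Tor goodx2
  · exact h.f_mem_Tor goodx3
  · exact h.f_mem_Tor goodx4

end Half

open Classical in
/-- The projection `P → D` (composed with cubing). -/
noncomputable def phi {C : Type v} [Group C] {m : ℕ} (f : R m → R m → R m → C) (u ρ s : C) : C :=
  if s ∈ Tor f then nu ρ s else nu ρ (s * u) * x4 f

namespace XAct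

variable {C : Type v} [Group C] {P : Subgroup C} {m : ℕ} {f : R m → R m → R m → C} {u ρ : C}

theorem phi_T (_h : XAct P m f u ρ) {t : C} (ht : t ∈ Tor f) : phi f u ρ t = nu ρ t := by
  rw [phi, if_pos ht]

theorem phi_Tu (h : XAct P m f u ρ) {t : C} (ht : t ∈ Tor f) : phi f u ρ (t * u) = nu ρ t * x4 f := by
  rw [phi, if_neg (h.tu_notMem ht), mul_assoc, h.u_u, mul_one]

theorem x4_comm (h : XAct P m f u ρ) (g : C) : x4 f * g = g * x4 f := (h.x4_cent g).symm

theorem tu_mul (_h : XAct P m f u ρ) (t s : C) : t * u * s = t * cj u s * u := by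
  rw [cj]; group

theorem phi_mul (h : XAct P m f u ρ) {a b : C} (ha : a ∈ P) (hb : b ∈ P) :
    phi f u ρ (a * b) = phi f u ρ a * phi f u ρ b := by
  rcases h.mem_or ha with ha | ⟨s, hs, rfl⟩ <;> rcases h.mem_or hb with hb | ⟨t, ht, rfl⟩
  · rw [h.phi_T ha, h.phi_T hb, h.phi_T (mul_mem ha hb), h.nu_mul ha hb]
  · rw [← mul_assoc, h.phi_Tu (mul_mem ha ht), h.phi_T ha, h.phi_Tu ht, h.nu_mul ha ht, mul_assoc]
  · rw [h.tu_mul, h.phi_Tu (mul_mem hs (h.u_mem' hb)), h.phi_Tu hs, h.phi_T hb, h.nu_mul hs (h.u_mem' hb),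
      h.nu_u hb, mul_assoc, mul_assoc, h.x4_comm]
  · have e : s * u * (t * u) = s * cj u t := by
      rw [← mul_assoc, h.tu_mul, mul_assoc _ u u, h.u_u, mul_one]
    rw [e, h.phi_T (mul_mem hs (h.u_mem' ht)), h.phi_Tu hs, h.phi_Tu ht, h.nu_mul hs (h.u_mem' ht), h.nu_u ht,
      mul_assoc (nu ρ s), ← mul_assoc (x4 f), h.x4_comm (nu ρ t), mul_assoc (nu ρ t), h.x4_sq, mul_one]

theorem phi_mem (h : XAct P m f u ρ) {a : C} (ha : a ∈ P) : phi f u ρ a ∈ Dd f ρ := by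
  rcases h.mem_or ha with ha | ⟨s, hs, rfl⟩
  · rw [h.phi_T ha]; exact h.nu_mem_Dd ha
  · rw [h.phi_Tu hs]; exact mul_mem (h.nu_mem_Dd hs) h.x4_mem_Dd

theorem phi_conj (h : XAct P m f u ρ) {s x : C} (hs : s ∈ P) (hx : x ∈ P) :
    phi f u ρ (s * x * s⁻¹) = phi f u ρ x := by
  have h1 : phi f u ρ (s * x * s⁻¹) * phi f u ρ s = phi f u ρ x * phi f u ρ s := by
    rw [← h.phi_mul (mul_mem (mul_mem hs hx) (inv_mem hs)) hs, inv_mul_cancel_right, h.phi_mul hs hx]
    exact h.comm_T (h.Dd_le (h.phi_mem hs)) (h.Dd_le (h.phi_mem hx))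
  exact mul_right_cancel h1

theorem nu_x2x4 (h : XAct P m f u ρ) : nu ρ (x2 f * x4 f) = 1 := by
  have h2 : x2 f ∈ Tor f := h.f_mem_Tor BOne.goodx2
  have h1 : x1 f ∈ Tor f := h.f_mem_Tor BOne.goodx1
  rw [h.nu_mul h2 (h.Dd_le h.x4_mem_Dd), h.nu_x4]
  have e : nu ρ (x2 f) = x4 f := by
    have a2 : cj ρ (x2 f) = x3 f := h.ρ_x2
    have a3 : cj ρ (x3 f) = x1 f := h.ρ_x3
    rw [nu, a2, a3, h.x2_mul_x3, z3, x1, h.f_mul _ _ _ _ _ _ BOne.good3 BOne.goodx1, N_add_N, add_zero]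
    rfl
  rw [e, h.x4_sq]

theorem h1_eq (_h : XAct P m f u ρ) : h1 f = c0 f (M m) := by
  rw [h1, c0, two_mul_M]

theorem h1_mem_Tone (h : XAct P m f u ρ) : h1 f ∈ h.Tone := h.h1_eq ▸ h.c0_mem (M m)

theorem ux1_eq (h : XAct P m f u ρ) : u * x1 f = x2 f * u := by
  have h1 : cj u (x1 f) = x2 f := h.cj_u_X 0
  rw [← h1, cj, inv_mul_cancel_right]

theorem closure_le_ker (h : XAct P m f u ρ) {q : C} (hq : q ∈ _root_.Subgroup.closure {h1 f, u * x1 f}) :
    q ∈ P ∧ phi f u ρ q = 1 := by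
  have hone : phi f u ρ 1 = 1 := by rw [h.phi_T (one_mem _), h.nu_one]
  induction hq using closure_induction with
  | mem x hx =>
    rcases hx with rfl | rfl
    · exact ⟨h.Tor_le h.h1_mem_Tone.1, by rw [h.phi_T h.h1_mem_Tone.1]; exact h.h1_mem_Tone.2⟩
    · have h2 : x2 f ∈ Tor f := h.f_mem_Tor BOne.goodx2
      rw [h.ux1_eq]
      refine ⟨mul_mem (h.Tor_le h2) h.u_mem, ?_⟩
      have := h.nu_x2x4
      rw [h.nu_mul h2 (h.Dd_le h.x4_mem_Dd), h.nu_x4] at this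
      rw [h.phi_Tu h2, this]
  | one => exact ⟨one_mem _, hone⟩
  | mul a b _ _ ha hb => exact ⟨mul_mem ha.1 hb.1, by rw [h.phi_mul ha.1 hb.1, ha.2, hb.2, one_mul]⟩
  | inv a _ ha =>
    refine ⟨inv_mem ha.1, ?_⟩
    have h1 := h.phi_mul ha.1 (inv_mem ha.1)
    rw [mul_inv_cancel, hone, ha.2, one_mul] at h1
    exact h1.symm

theorem mem_Wr_of_phi (h : XAct P m f u ρ) {s : C} (hs : s ∈ P) (h1 : phi f u ρ s = 1) : s ∈ h.Wr := by
  rcases h.mem_or hs with hs | ⟨t, ht, rfl⟩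
  · rw [h.phi_T hs] at h1
    exact h.Tone_le_Wr ⟨hs, h1⟩
  · rw [h.phi_Tu ht] at h1
    have h2 : t * x4 f ∈ h.Tone := ⟨mul_mem ht (h.Dd_le h.x4_mem_Dd), by
      rw [h.nu_mul ht (h.Dd_le h.x4_mem_Dd), h.nu_x4, h1]⟩
    have e : t * u = t * x4 f * (x4 f * u) := by
      calc t * u = t * (x4 f * x4 f) * u := by rw [h.x4_sq, mul_one]
        _ = _ := by group
    rw [e]
    exact mul_mem (h.Tone_le_Wr h2) h.x4u_mem

end XAct

namespace XDat

variable {C : Type v} [Group C] [Finite C] {P : Sylow 2 C} {m : ℕ} {f : R m → R m → R m → C} {u ρ : C}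

omit [Finite C] in
theorem odd_orderOf {g : C} (ho : Nat.Coprime (orderOf g) 2) : ¬ 2 ∣ orderOf g := CentXOne.pow_orderOf_odd ho

/-- Odd elements normalising `P` centralise `P`. -/
theorem odd_norm_P (h : XDat P m f u ρ) {g : C} (hg : g ∈ normalizer ((P : Subgroup C) : Set C))
    (ho : Nat.Coprime (orderOf g) 2) : g ∈ centralizer ((P : Subgroup C) : Set C) := by
  have hgT := h.norm_P hg
  obtain ⟨σ, hσ⟩ := h.perm g hgT
  have hinj := h.X_injective
  have hu1 : g * u * g⁻¹ ∈ (P : Subgroup C) := (mem_normalizer_iff.1 hg u).1 h.u_mem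
  obtain ⟨s, hs, hsu⟩ : ∃ s ∈ Tor f, g * u * g⁻¹ = s * u := by
    rcases h.mem_or hu1 with k | k
    · exfalso
      exact h.u_notMem ((mem_normalizer_iff.1 hgT u).2 k)
    · exact k
  have hX : ∀ i, X f i ∈ Tor f := h.X_mem
  -- the permutation
  have h3 : σ 3 = 3 := by
    apply hinj
    rw [← hσ 3]
    have e : X f 3 = x4 f := rfl
    rw [e, h.x4_cent, mul_inv_cancel_right]
  have hcomm : ∀ i, σ (Equiv.swap (0 : Fin 4) 1 i) = Equiv.swap (0 : Fin 4) 1 (σ i) := by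
    intro i
    apply hinj
    rw [← hσ, ← h.cj_u_X i, ← h.cj_u_X (σ i), ← hσ i]
    have e1 : g * cj u (X f i) * g⁻¹ = cj (g * u * g⁻¹) (g * X f i * g⁻¹) := by simp only [cj]; group
    rw [e1, hsu, ← cj_cj]
    have hm : cj u (g * X f i * g⁻¹) ∈ Tor f := h.u_mem' ((mem_normalizer_iff.1 hgT _).1 (hX i))
    exact cj_eq_iff.2 (h.Tor_comm hs hm)
  have hσ1 : σ = 1 ∨ σ = Equiv.swap (0 : Fin 4) 1 := by
    revert h3 hcomm
    clear hσ
    revert σ
    decide +kernel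
  have hpow : ∀ n : ℕ, ∀ i, g ^ n * X f i * (g ^ n)⁻¹ = X f ((σ ^ n) i) := by
    intro n
    induction n with
    | zero => intro i; simp
    | succ n ih =>
      intro i
      have e1 : g ^ (n + 1) * X f i * (g ^ (n + 1))⁻¹ = g ^ n * (g * X f i * g⁻¹) * (g ^ n)⁻¹ := by
        rw [pow_succ]; group
      rw [e1, hσ, ih, pow_succ, Equiv.Perm.mul_apply]
  have hσ2 : σ = 1 := by
    rcases hσ1 with k | k
    · exact k
    · exfalso
      have h1 : σ ^ orderOf g = 1 := by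
        ext i
        have h2 := hpow (orderOf g) i
        rw [pow_orderOf_eq_one, one_mul, inv_one, mul_one] at h2
        rw [← hinj h2]; rfl
      have h2 : orderOf σ ∣ orderOf g := orderOf_dvd_of_pow_eq_one h1
      have h3 : orderOf σ = 2 := by
        rw [k]
        exact orderOf_eq_prime (by decide) (by decide)
      rw [h3] at h2
      exact odd_orderOf ho h2
  have hcT : ∀ t ∈ Tor f, g * t = t * g := by
    refine h.faithful g hgT fun i => ?_
    have := hσ i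
    rw [hσ2, Equiv.Perm.one_apply] at this
    exact mul_inv_eq_iff_eq_mul.1 this
  have hu : g * u = u * g := by
    have e1 : g * u * g⁻¹ = u * (u * s * u) := by
      rw [hsu]
      calc s * u = (u * u) * s * u := by rw [h.u_u, one_mul]
        _ = _ := by group
    have hm : u * s * u ∈ Tor f := h.conj_u_mem hs
    have e2 : (u * s * u) ^ 2 ^ (m + 3) = 1 := by
      obtain ⟨p, q, r, hgd, k3⟩ := h.mem_Tor.1 hm
      have k : ((2 ^ (m + 3) : ℕ) : R m) = 0 := ZMod.natCast_self _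
      rw [k3, h.f_pow hgd, k, zero_mul, zero_mul, zero_mul, h.f_zero]
    have e3 := CentXOne.comm_of_odd (pow_orderOf_eq_one g) (odd_orderOf ho) e1 (hcT _ hm) e2
    rw [e3, mul_one] at e1
    exact mul_inv_eq_iff_eq_mul.1 e1
  rw [mem_centralizer_iff]
  intro x hx
  rcases h.mem_or hx with k | ⟨t, ht, rfl⟩
  · exact (hcT x k).symm
  · exact ((show Commute g t from hcT t ht).mul_right hu).eq.symm

/-- Reduction to the two kinds of essential subgroups. -/
theorem odd_cases (h : XDat P m f u ρ) {X : Subgroup C} (hX : X = (P : Subgroup C) ∨ Ess P X) {g : C}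
    (hg : g ∈ normalizer (X : Set C)) (hodd : Nat.Coprime (orderOf g) 2) (hgc : g ∉ centralizer (X : Set C)) :
    X = Tor f ∨ Ess P X ∧ ¬ Tor f ≤ X ∧ ∃ y, OddA f u X g y 0 := by
  rcases hX with rfl | hX
  · exact absurd (h.odd_norm_P hg hodd) hgc
  by_cases hT : Tor f ≤ X
  · left
    refine le_antisymm ?_ hT
    intro x hx
    rcases h.mem_or (hX.lt.le hx) with k | ⟨t, ht, rfl⟩
    · exact k
    · exfalso
      apply hX.lt.not_ge
      have hu : u ∈ X := by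
        have := mul_mem (inv_mem (hT ht)) hx
        rwa [inv_mul_cancel_left] at this
      intro s hs
      rcases h.mem_or hs with k | ⟨t', ht', rfl⟩
      · exact hT k
      · exact mul_mem (hT ht') hu
  · right
    refine ⟨hX, hT, ?_⟩
    obtain ⟨y, q, ha⟩ := exists_oddA h.toHalf h.x4_cent hX hT hg (odd_orderOf hodd) hgc
    obtain ⟨X', g', y', hX', hT', ha'⟩ := h.val
    have hq := unique h.toHalf ha' hX hT ha (ha'.norm_Ru h.toHalf hX' hT')
    rw [← hq] at ha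
    exact ⟨y, ha⟩

theorem phi_z1 (h : XDat P m f u ρ) : phi f u ρ (z1 f) = 1 := by
  have h1 := (h.closure_le_ker (mul_mem (_root_.Subgroup.subset_closure (by simp)) (_root_.Subgroup.subset_closure (by simp)) :
    h1 f * h1 f ∈ _root_.Subgroup.closure {h1 f, u * x1 f})).2
  rwa [h.h1_sq] at h1

theorem phi_h1 (h : XDat P m f u ρ) : phi f u ρ (h1 f) = 1 :=
  (h.closure_le_ker (_root_.Subgroup.subset_closure (by simp) : h1 f ∈ _root_.Subgroup.closure {h1 f, u * x1 f})).2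

theorem ux1_e (h : XDat P m f u ρ) : f 0 0 (M m) * u = h1 f * (u * x1 f) := by
  have g2 : Good (N m : R m) 0 (N m) := BOne.goodx2
  rw [h.ux1_eq, ← mul_assoc, h1, x2, h.f_mul _ _ _ _ _ _ BOne.goodh1 g2, N_add_N, add_zero]
  congr 2
  rw [← two_mul_M]; ring

theorem phi_e (h : XDat P m f u ρ) {y : C} (hy : y ∈ Tor f) :
    phi f u ρ (y * (f 0 0 (M m) * u) * y⁻¹) = 1 := by
  have h1 : h1 f * (u * x1 f) ∈ _root_.Subgroup.closure {h1 f, u * x1 f} :=
    mul_mem (_root_.Subgroup.subset_closure (by simp)) (_root_.Subgroup.subset_closure (by simp))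
  obtain ⟨h2, h3⟩ := h.closure_le_ker h1
  rw [h.ux1_e, h.phi_conj (h.Tor_le hy) h2, h3]

/-- The projection is invariant under fusion. -/
theorem phi_inv (h : XDat P m f u ρ) {x g : C} (hx : x ∈ (P : Subgroup C))
    (hg : g * x * g⁻¹ ∈ (P : Subgroup C)) : phi f u ρ (g * x * g⁻¹) = phi f u ρ x := by
  have : Fact (Nat.Prime 2) := ⟨Nat.prime_two⟩
  refine OddInv.invariant_ess P (phi f u ρ) (fun s hs x hx => h.phi_conj hs hx) ?_ hx hg
  intro X hX g hg hodd hgc x hx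
  rcases h.odd_cases hX hg hodd hgc with rfl | ⟨hX, hT, y, ha⟩
  · rw [h.phi_T hx, h.phi_T ((mem_normalizer_iff.1 hg x).1 hx)]
    exact h.nu_cj hg hx
  · set e := y * (f 0 0 (M m) * u) * y⁻¹ with he
    have hXP : X ≤ (P : Subgroup C) := hX.lt.le
    have heX : e ∈ X := ha.e_mem
    have hhX : h1 f ∈ X := CentXOne.h1_mem_of h.toHalf hX hT
    have hgX : ∀ a ∈ X, g * a * g⁻¹ ∈ (P : Subgroup C) := fun a haX => hXP ((mem_normalizer_iff.1 hg a).1 haX)
    have pm : ∀ a ∈ X, ∀ b ∈ X, phi f u ρ (g * (a * b) * g⁻¹) = phi f u ρ (g * a * g⁻¹) * phi f u ρ (g * b * g⁻¹) := by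
      intro a haX b hbX
      have : g * (a * b) * g⁻¹ = (g * a * g⁻¹) * (g * b * g⁻¹) := by group
      rw [this, h.phi_mul (hgX a haX) (hgX b hbX)]
    have pb : ∀ b ∈ Bu f, phi f u ρ (g * b * g⁻¹) = phi f u ρ b := fun b hb => by
      rw [ha.cent b hb, mul_inv_cancel_right]
    have ph : phi f u ρ (g * h1 f * g⁻¹) = phi f u ρ (h1 f) := by
      rw [ha.g_h1, h.phi_e ha.y_mem, h.phi_h1]
    have pe : phi f u ρ (g * e * g⁻¹) = phi f u ρ e := by
      have h2 : phi f u ρ e = 1 := h.phi_e ha.y_mem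
      rcases ha.g_e with k | k
      · rw [k, h.phi_mul (hXP hhX) (hXP heX), h.phi_h1, one_mul]
      · rw [k, h.phi_mul (mul_mem (hXP hhX) (hXP heX)) (h.Tor_le (h.Bu_le h.z1_mem)),
          h.phi_mul (hXP hhX) (hXP heX), h.phi_h1, h.phi_z1, one_mul, mul_one]
    have hB : Bu f ≤ X := CentXOne.Bu_le h.toHalf hX
    obtain ⟨b, hb, rfl | rfl | rfl | rfl⟩ := ha.cases h.toHalf hX hT hx
    · exact pb _ hb
    · rw [pm _ hhX _ (hB hb), ph, pb b hb, h.phi_mul (hXP hhX) (hXP (hB hb))]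
    · rw [pm _ heX _ (hB hb), pe, pb b hb, h.phi_mul (hXP heX) (hXP (hB hb))]
    · rw [pm _ (mul_mem hhX heX) _ (hB hb), pm _ hhX _ heX, ph, pe, pb b hb,
        h.phi_mul (hXP (mul_mem hhX heX)) (hXP (hB hb)), h.phi_mul (hXP hhX) (hXP heX)]

/-- `D` is isolated. -/
theorem isolated (h : XDat P m f u ρ) {x : C} (hx : x ∈ Dd f ρ) (g : C)
    (hg : g * x * g⁻¹ ∈ (P : Subgroup C)) : g * x * g⁻¹ = x := by
  classical
  have : Fact (Nat.Prime 2) := ⟨Nat.prime_two⟩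
  let ψ : C → C := fun s => if s ∈ Dd f ρ then s else 1
  have hψ : ∀ g : C, (∀ d ∈ Dd f ρ, g * d * g⁻¹ = d) → ∀ x : C, ψ (g * x * g⁻¹) = ψ x := by
    intro g hg x
    by_cases hx : x ∈ Dd f ρ
    · rw [hg x hx]
    · have h1 : g * x * g⁻¹ ∉ Dd f ρ := by
        intro h1
        apply hx
        have h2 := hg _ h1
        rw [mul_left_inj, mul_right_inj] at h2
        rwa [h2] at h1
      change (if g * x * g⁻¹ ∈ Dd f ρ then _ else _) = (if x ∈ Dd f ρ then _ else _)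
      rw [if_neg hx, if_neg h1]
  have hP : ∀ s ∈ (P : Subgroup C), ∀ d ∈ Dd f ρ, s * d * s⁻¹ = d := by
    intro s hs d hd
    rw [h.comm_Dd hs hd, mul_inv_cancel_right]
  have h1 : ψ (g * x * g⁻¹) = ψ x := by
    refine OddInv.invariant_ess P ψ (fun s hs x _ => hψ s (hP s hs) x) ?_ (h.Tor_le (h.Dd_le hx)) hg
    intro X hX g hg hodd hgc x hx
    refine hψ g ?_ x
    intro d hd
    rcases h.odd_cases hX hg hodd hgc with rfl | ⟨hX, hT, y, ha⟩
    · exact h.cj_Dd hg hd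
    · rw [ha.cent d (h.Dd_le_Bu hd), mul_inv_cancel_right]
  by_cases hx1 : x = 1
  · rw [hx1, mul_one, mul_inv_cancel]
  · change (if g * x * g⁻¹ ∈ Dd f ρ then _ else _) = (if x ∈ Dd f ρ then _ else _) at h1
    rw [if_pos hx] at h1
    by_cases h2 : g * x * g⁻¹ ∈ Dd f ρ
    · rwa [if_pos h2] at h1
    · rw [if_neg h2] at h1
      exact absurd h1.symm hx1

theorem Tone_le_residual (h : XDat P m f u ρ) : h.Tone ≤ Cfsg.pResidual 2 C := by
  intro t ht
  have hn : (Cfsg.pResidual 2 C).Normal := Transfer.Residual.pResidual_normal 2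
  have hρ : (QuotientGroup.mk' (Cfsg.pResidual 2 C)) ρ = 1 :=
    (QuotientGroup.eq_one_iff _).2 (Transfer.Residual.mem_pResidual_of_coprime h.ρ_odd)
  have hcj : ∀ s, (QuotientGroup.mk' (Cfsg.pResidual 2 C)) (cj ρ s) = (QuotientGroup.mk' (Cfsg.pResidual 2 C)) s := by
    intro s
    rw [cj, map_mul, map_mul, map_inv, hρ, one_mul, inv_one, mul_one]
  have h1 : (QuotientGroup.mk' (Cfsg.pResidual 2 C)) (t ^ 3) = 1 := by
    have h2 : nu ρ t = 1 := ht.2
    have h3 := congrArg (QuotientGroup.mk' (Cfsg.pResidual 2 C)) h2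
    rw [nu, map_mul, map_mul, hcj, hcj, hcj, map_one] at h3
    rw [pow_succ, pow_two, map_mul, map_mul, h3]
  have h2 : t ^ 3 ∈ Cfsg.pResidual 2 C := (QuotientGroup.eq_one_iff _).1 h1
  obtain ⟨k, hk⟩ := h.exists_cuberoot ht.1
  rw [← hk]
  exact pow_mem h2 k

/-- `⟨h1, u x1⟩ ≤ O^2(C)`. -/
theorem u_x1 (h : XDat P m f u ρ) : u * x1 f ∈ Cfsg.pResidual 2 C ∧ h1 f ∈ Cfsg.pResidual 2 C := by
  have hn : (Cfsg.pResidual 2 C).Normal := Transfer.Residual.pResidual_normal 2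
  obtain ⟨X, g, y, hX, hT, ha⟩ := h.val
  obtain ⟨dB, d1, z, hz, d2⟩ := ha.down h.toHalf
  set d := y⁻¹ * g * y with hd
  have ho : ¬ 2 ∣ orderOf d := by
    have h2 : d = MulAut.conj y⁻¹ g := by simp only [hd, _root_.map_inv, _root_.MulAut.inv_apply, _root_.MulAut.conj_symm_apply]
    rw [h2, (MulAut.conj y⁻¹).orderOf_eq g]
    exact ha.g_odd
  have hdm : d ∈ Cfsg.pResidual 2 C := Transfer.Residual.mem_pResidual_of_coprime
    (((Nat.Prime.coprime_iff_not_dvd Nat.prime_two).2 ho).symm)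
  have hcm : ∀ a, a⁻¹ * (d * a * d⁻¹) ∈ Cfsg.pResidual 2 C := by
    intro a
    have e1 : a⁻¹ * (d * a * d⁻¹) = (a⁻¹ * d * a⁻¹⁻¹) * d⁻¹ := by group
    rw [e1]
    exact mul_mem (hn.conj_mem _ hdm _) (inv_mem hdm)
  have hcm' : ∀ a, (d * a * d⁻¹) * a⁻¹ ∈ Cfsg.pResidual 2 C := by
    intro a
    have e1 : (d * a * d⁻¹) * a⁻¹ = d * (a * d⁻¹ * a⁻¹) := by group
    rw [e1]
    exact mul_mem hdm (hn.conj_mem _ (inv_mem hdm) _)
  set e := f 0 0 (M m) * u with he
  have heP : e ∈ (P : Subgroup C) := mul_mem (h.Tor_le (h.f_mem_Tor (good_e (Or.inl rfl)))) h.u_mem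
  have hzB : z ∈ Bu f := by rcases hz with rfl | rfl; exacts [one_mem _, h.z1_mem]
  have k1 : h1 f * z ∈ Cfsg.pResidual 2 C := by
    have := hcm' e
    rw [d2] at this
    have e1 : h1 f * e * z * e⁻¹ = h1 f * z := by
      rw [mul_assoc (h1 f), ← h.Bu_comm hzB heP, mul_assoc, mul_inv_cancel_right]
    rwa [e1] at this
  have k2 : z1 f ∈ Cfsg.pResidual 2 C := by
    have := mul_mem k1 k1
    have e1 : h1 f * z * (h1 f * z) = z1 f := by
      have c := h.Bu_comm hzB (h.Tor_le h.h1_mem)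
      have hzz : z * z = 1 := by rcases hz with rfl | rfl; exacts [one_mul _, h.z1_sq]
      calc h1 f * z * (h1 f * z) = h1 f * (z * h1 f) * z := by group
        _ = (h1 f * h1 f) * (z * z) := by rw [c]; group
        _ = _ := by rw [hzz, h.h1_sq, mul_one]
    rwa [e1] at this
  have k3 : h1 f ∈ Cfsg.pResidual 2 C := by
    rcases hz with rfl | rfl
    · rwa [mul_one] at k1
    · have := mul_mem k1 (inv_mem k2)
      rwa [mul_inv_cancel_right] at this
  have k4 : e ∈ Cfsg.pResidual 2 C := by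
    have := mul_mem k3 (hcm (h1 f))
    rwa [mul_inv_cancel_left, d1] at this
  refine ⟨?_, k3⟩
  have := mul_mem (inv_mem k3) k4
  rwa [he, h.ux1_e, inv_mul_cancel_left] at this

theorem Wr_le_residual (h : XDat P m f u ρ) : h.Wr ≤ Cfsg.pResidual 2 C := by
  refine sup_le h.Tone_le_residual ?_
  rw [zpowers_le]
  have h2 : x2 f ∈ Tor f := h.f_mem_Tor BOne.goodx2
  have h3 : x2 f * x4 f ∈ Cfsg.pResidual 2 C :=
    h.Tone_le_residual ⟨mul_mem h2 (h.Dd_le h.x4_mem_Dd), h.nu_x2x4⟩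
  have h4 := h.u_x1.1
  rw [h.ux1_eq] at h4
  have h5 : x2 f * x2 f = 1 := by
    rw [x2, h.f_mul _ _ _ _ _ _ BOne.goodx2 BOne.goodx2, N_add_N, add_zero, h.f_zero]
  have e : x4 f * u = (x2 f * x4 f) * (x2 f * u) := by
    calc x4 f * u = x4 f * (x2 f * x2 f) * u := by rw [h5, mul_one]
      _ = (x4 f * x2 f) * (x2 f * u) := by group
      _ = (x2 f * x4 f) * (x2 f * u) := by rw [h.x4_comm]
  rw [e]
  exact mul_mem h3 h4

theorem dat (h : XDat P m f u ρ) : CentXTail.Dat P h.Wr := by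
  have : Fact (Nat.Prime 2) := ⟨Nat.prime_two⟩
  refine ⟨h.Wr_le, Or.inr h.isWreathed, ?_⟩
  letI : CommGroup (Dd f ρ) :=
    { (inferInstance : Group (Dd f ρ)) with
      mul_comm := fun a b => Subtype.ext (h.comm_T (h.Dd_le a.2) (h.Dd_le b.2)) }
  let χ : (P : Subgroup C) →* Dd f ρ :=
    { toFun := fun s => ⟨phi f u ρ s, h.phi_mem s.2⟩
      map_one' := Subtype.ext (h.closure_le_ker (one_mem _)).2
      map_mul' := fun a b => Subtype.ext (h.phi_mul a.2 b.2) }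
  have hp : IsPGroup 2 (Dd f ρ) := IsPGroup.of_card h.card_Dd
  refine CentXTail.residual_inf (A := Dd f ρ) hp χ ?_ h.Wr_le ?_ h.Wr_le_residual
  · intro x y g hxy
    apply Subtype.ext
    change phi f u ρ x = phi f u ρ y
    rw [← hxy]
    exact (h.phi_inv x.2 (by rw [hxy]; exact y.2)).symm
  · intro x hx
    exact h.mem_Wr_of_phi x.2 (congrArg Subtype.val hx)

/-- The structure of `C / O(C)`. -/
theorem exists_out (h : XDat P m f u ρ) :
    ∃ L, CentXTail.Out P h.Wr (Dd f ρ) L :=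
  CentXTail.exists_out P h.Wr (Dd f ρ) h.dat h.P_eq (fun _ hx g hg => h.isolated hx g hg)

end XDat

end Cfsg.Agent.LFourB
end

-- part: LFourB/CentXBridge
section
/-!
# From `BOne` to the data in `C(x4)`
-/

set_option autoImplicit false
set_option linter.unusedSectionVars false

namespace Cfsg.Agent.LFourB

open Subgroup Cfsg.Agent.Lib.EssentialFusion CentXEss

universe v

variable {G : Type v} [Group G] {m : ℕ} {f : R m → R m → R m → G} {u w : G}

open Classical in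
/-- Coordinates in a subgroup. -/
noncomputable def lft (C : Subgroup G) (f : R m → R m → R m → G) (p q r : R m) : C :=
  if h : f p q r ∈ C then ⟨f p q r, h⟩ else 1

namespace BOne

section Lift

variable {S C : Subgroup G}

theorem cx_lft_coe (h : BOne S m f u w) (hT : Tor f ≤ C) {p q r : R m} (hg : Good p q r) :
    ((lft C f p q r : C) : G) = f p q r := by
  rw [lft, dif_pos (hT (h.f_mem_Tor hg))]

theorem cx_conj_u_mem (h : BOne S m f u w) {t : G} (ht : t ∈ Tor f) : u * t * u ∈ Tor f := by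
  obtain ⟨p, q, r, hg, rfl⟩ := h.mem_Tor.mp ht
  rw [h.u_f _ _ _ hg, mul_assoc, h.u_u, mul_one]
  exact h.f_mem_Tor hg.actu

theorem cx_mem_Sx (h : BOne S m f u w) {g : G} :
    g ∈ Sx f u ↔ ∃ p q r, Good p q r ∧ (g = f p q r ∨ g = f p q r * u) := by
  rw [Sx, mem_sup_zpowers h.u_u (fun b hb => h.cx_conj_u_mem hb)]
  constructor
  · rintro ⟨b, hb, hg⟩
    obtain ⟨p, q, r, hgd, rfl⟩ := h.mem_Tor.mp hb
    exact ⟨p, q, r, hgd, hg⟩
  · rintro ⟨p, q, r, hgd, hg⟩
    exact ⟨_, h.f_mem_Tor hgd, hg⟩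

theorem cx_half (h : BOne S m f u w) (hT : Tor f ≤ C) (hu : u ∈ C) :
    Half ((Sx f u).subgroupOf C) m (lft C f) ⟨u, hu⟩ := by
  refine ⟨?_, ?_, ?_, ?_, ?_⟩
  · intro p q r p' q' r' hg hg'
    apply Subtype.ext
    rw [Subgroup.coe_mul, h.cx_lft_coe hT hg, h.cx_lft_coe hT hg', h.cx_lft_coe hT (hg.add hg')]
    exact h.f_mul _ _ _ _ _ _ hg hg'
  · intro p q r hg h1
    have h2 := congrArg Subtype.val h1
    rw [h.cx_lft_coe hT hg] at h2
    exact h.f_inj _ _ _ hg h2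
  · exact Subtype.ext h.u_u
  · intro p q r hg
    apply Subtype.ext
    rw [Subgroup.coe_mul, Subgroup.coe_mul, h.cx_lft_coe hT hg, h.cx_lft_coe hT hg.actu]
    exact h.u_f _ _ _ hg
  · intro g
    rw [mem_subgroupOf, h.cx_mem_Sx]
    constructor
    · rintro ⟨p, q, r, hg, h1 | h1⟩
      · exact ⟨p, q, r, hg, Or.inl (Subtype.ext (by rw [h1, h.cx_lft_coe hT hg]))⟩
      · exact ⟨p, q, r, hg, Or.inr (Subtype.ext (by rw [h1, Subgroup.coe_mul, h.cx_lft_coe hT hg]))⟩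
    · rintro ⟨p, q, r, hg, h1 | h1⟩
      · exact ⟨p, q, r, hg, Or.inl (by rw [h1, h.cx_lft_coe hT hg])⟩
      · exact ⟨p, q, r, hg, Or.inr (by rw [h1, Subgroup.coe_mul, h.cx_lft_coe hT hg])⟩

theorem cx_Tor_lft (h : BOne S m f u w) (hT : Tor f ≤ C) (hu : u ∈ C) : Tor (lft C f) = (Tor f).subgroupOf C := by
  ext g
  rw [(h.cx_half hT hu).mem_Tor, mem_subgroupOf, h.mem_Tor]
  constructor
  · rintro ⟨p, q, r, hg, rfl⟩
    exact ⟨p, q, r, hg, h.cx_lft_coe hT hg⟩
  · rintro ⟨p, q, r, hg, h1⟩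
    exact ⟨p, q, r, hg, Subtype.ext (by rw [h1, h.cx_lft_coe hT hg])⟩

theorem cx_mem_Tor_lft (h : BOne S m f u w) (hT : Tor f ≤ C) (hu : u ∈ C) {t : C} :
    t ∈ Tor (lft C f) ↔ (t : G) ∈ Tor f := by
  rw [h.cx_Tor_lft hT hu, mem_subgroupOf]

theorem cx_X_lft (h : BOne S m f u w) (hT : Tor f ≤ C) (i : Fin 4) : ((X (lft C f) i : C) : G) = X f i := by
  fin_cases i
  · exact h.cx_lft_coe hT goodx1
  · exact h.cx_lft_coe hT goodx2
  · exact h.cx_lft_coe hT goodx3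
  · exact h.cx_lft_coe hT goodx4

theorem cx_card_Tor_lft (h : BOne S m f u w) (hT : Tor f ≤ C) (hu : u ∈ C) :
    Nat.card (Tor (lft C f)) = 2 ^ (3 * m + 7) := by
  rw [h.cx_Tor_lft hT hu, ← h.card_Tor]
  exact Nat.card_congr (Subgroup.subgroupOfEquivOfLe hT).toEquiv

theorem cx_mem_norm_lft (h : BOne S m f u w) (hT : Tor f ≤ C) (hu : u ∈ C) {n : C} :
    n ∈ normalizer (Tor (lft C f) : Set C) ↔ (n : G) ∈ normalizer (Tor f : Set G) := by
  rw [mem_normalizer_iff, mem_normalizer_iff]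
  constructor
  · intro h1 t
    constructor
    · intro ht
      exact (h.cx_mem_Tor_lft hT hu).1 ((h1 ⟨t, hT ht⟩).1 ((h.cx_mem_Tor_lft hT hu).2 ht))
    · intro ht
      have htC : t ∈ C := by
        have := mul_mem (mul_mem (inv_mem n.2) (hT ht)) n.2
        have e : (n : G)⁻¹ * ((n : G) * t * (n : G)⁻¹) * (n : G) = t := by group
        rwa [e] at this
      exact (h.cx_mem_Tor_lft hT hu (t := ⟨t, htC⟩)).1 ((h1 ⟨t, htC⟩).2 ((h.cx_mem_Tor_lft hT hu).2 ht))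
  · intro h1 t
    rw [h.cx_mem_Tor_lft hT hu, h.cx_mem_Tor_lft hT hu]
    exact h1 t

end Lift

section Sylow

variable [Finite G] {P : Sylow 2 G}

theorem cx_T_le_cent (h : BOne (P : Subgroup G) m f u w) : Tor f ≤ centralizer ({x4 f} : Set G) := fun _ ht =>
  mem_centralizer_singleton_iff.2 (h.Tor_comm ht (h.f_mem_Tor goodx4))

theorem cx_u_mem_cent (h : BOne (P : Subgroup G) m f u w) : u ∈ centralizer ({x4 f} : Set G) :=
  mem_centralizer_singleton_iff.2 h.u_x4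

theorem cx_pi_fix : ∀ i j l : Bool,
    ((if i then Equiv.swap (0 : Fin 4) 1 else 1) * (if j then Equiv.swap (2 : Fin 4) 3 else 1) *
      (if l then Equiv.swap (0 : Fin 4) 2 * Equiv.swap (1 : Fin 4) 3 else 1) : Equiv.Perm (Fin 4)) 3 = 3 → j = false ∧ l = false := by
  decide

/-- the centraliser of `x4` in `S` -/
theorem cx_mem_Sx_of_comm (h : BOne (P : Subgroup G) m f u w) {s : G} (hs : s ∈ (P : Subgroup G))
    (hc : s * x4 f = x4 f * s) : s ∈ Sx f u := by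
  obtain ⟨t, ht, i, j, l, rfl⟩ := h.exists_rep hs
  have h1 := h.pi_spec ⟨_, hs⟩ 3
  have h2 : X f 3 = x4 f := rfl
  rw [h2, hc, mul_inv_cancel_right, ← h2] at h1
  have h3 := h.X_injective h1
  have h4 := h.pi_mul_rep ht i j l
  rw [h4, h.pi_rep] at h3
  obtain ⟨rfl, rfl⟩ := cx_pi_fix i j l h3.symm
  rw [h.cx_mem_Sx]
  obtain ⟨p, q, r, hg, rfl⟩ := h.mem_Tor.mp ht
  refine ⟨p, q, r, hg, ?_⟩
  cases i
  · left; simp [rep]
  · right; simp [rep]

theorem cx_Sx_le (h : BOne (P : Subgroup G) m f u w) : Sx f u ≤ (P : Subgroup G) :=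
  sup_le h.Tor_le (zpowers_le.2 h.u_mem)

theorem cx_Sx_le_cent (h : BOne (P : Subgroup G) m f u w) : Sx f u ≤ centralizer ({x4 f} : Set G) :=
  sup_le h.cx_T_le_cent (zpowers_le.2 h.cx_u_mem_cent)

/-- `S` is transitive on `x1, .., x4`. -/
theorem cx_exists_to_x4 (h : BOne (P : Subgroup G) m f u w) (i : Fin 4) :
    ∃ s ∈ (P : Subgroup G), s * X f i * s⁻¹ = x4 f := by
  have hub := h.pi_ub
  have hw := h.conj_X_w
  have h2 := h.pi_spec ⟨_, h.ub_mem⟩ 2
  rw [hub] at h2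
  have hu := h.conj_X_u 0
  fin_cases i
  · refine ⟨w * u, mul_mem h.w_mem h.u_mem, ?_⟩
    have h3 := hw 1
    have e : w * u * X f 0 * (w * u)⁻¹ = w * (u * X f 0 * u⁻¹) * w⁻¹ := by group
    change w * u * X f 0 * (w * u)⁻¹ = _
    rw [e, hu]
    exact h3
  · exact ⟨w, h.w_mem, hw 1⟩
  · exact ⟨_, h.ub_mem, h2⟩
  · exact ⟨1, one_mem _, by simp [X]⟩

/-- `T` is weakly closed: elementwise form. -/
theorem cx_norm_of_conj (h : BOne (P : Subgroup G) m f u w) {g : G}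
    (hg : ∀ t ∈ Tor f, g * t * g⁻¹ ∈ (P : Subgroup G)) : g ∈ normalizer (Tor f : Set G) := by
  have h1 : (Tor f).map (MulAut.conj g).toMonoidHom ≤ (P : Subgroup G) := by
    rintro _ ⟨t, ht, rfl⟩
    exact hg t ht
  exact Cfsg.Agent.Lib.GoldschmidtFusion.mem_normalizer_iff_map_conj.2 (h.weakly_closed h1)

/-- `C_S(x4)` is a Sylow 2-subgroup of `C(x4)`. -/
theorem cx_exists_sylow (h : BOne (P : Subgroup G) m f u w) :
    ∃ Q : Sylow 2 (centralizer ({x4 f} : Set G)),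
      (Q : Subgroup (centralizer ({x4 f} : Set G))) = (Sx f u).subgroupOf (centralizer ({x4 f} : Set G)) := by
  set C := centralizer ({x4 f} : Set G) with hC
  have hp : IsPGroup 2 ((Sx f u).subgroupOf C) := by
    have h1 : IsPGroup 2 (Sx f u) := P.isPGroup'.to_le h.cx_Sx_le
    exact h1.comap_subtype
  obtain ⟨Q, hQ⟩ := hp.exists_le_sylow
  refine ⟨Q, le_antisymm ?_ hQ⟩
  -- conjugate `Q` into `P`
  have hR : IsPGroup 2 ((Q : Subgroup C).map C.subtype) := Q.isPGroup'.map _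
  obtain ⟨P', hP'⟩ := hR.exists_le_sylow
  obtain ⟨g, hg⟩ := MulAction.exists_smul_eq G P' P
  have hgQ : ∀ r : C, r ∈ (Q : Subgroup C) → g * r * g⁻¹ ∈ (P : Subgroup G) := by
    intro r hr
    have h1 : (r : G) ∈ (P' : Subgroup G) := hP' ⟨r, hr, rfl⟩
    rw [← hg]
    exact ⟨r, h1, by simp [MulAut.conj_apply]⟩
  have hTQ : ∀ t (ht : t ∈ Tor f), (⟨t, h.cx_T_le_cent ht⟩ : C) ∈ (Q : Subgroup C) := by
    intro t ht
    apply hQ
    rw [mem_subgroupOf]
    exact (le_sup_left : Tor f ≤ Sx f u) ht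
  have hgN : g ∈ normalizer (Tor f : Set G) := h.cx_norm_of_conj fun t ht => hgQ ⟨t, h.cx_T_le_cent ht⟩ (hTQ t ht)
  obtain ⟨σ, hσ⟩ := FusA.exists_perm h.e_sf hgN
  obtain ⟨s, hs, hsx⟩ := h.cx_exists_to_x4 (σ 3)
  have hsg : s * g * x4 f * (s * g)⁻¹ = x4 f := by
    have e : s * g * x4 f * (s * g)⁻¹ = s * (g * X f 3 * g⁻¹) * s⁻¹ := by
      change s * g * x4 f * (s * g)⁻¹ = s * (g * x4 f * g⁻¹) * s⁻¹
      group
    rw [e, hσ, hsx]
  have hsg' : s * g ∈ C := mem_centralizer_singleton_iff.2 (mul_inv_eq_iff_eq_mul.1 hsg)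
  have hmem : ∀ r : C, r ∈ (Q : Subgroup C) → (⟨s * g, hsg'⟩ : C) * r * (⟨s * g, hsg'⟩ : C)⁻¹ ∈ (Sx f u).subgroupOf C := by
    intro r hr
    rw [mem_subgroupOf]
    refine h.cx_mem_Sx_of_comm ?_ ?_
    · have e : (((⟨s * g, hsg'⟩ : C) * r * (⟨s * g, hsg'⟩ : C)⁻¹ : C) : G) = s * (g * r * g⁻¹) * s⁻¹ := by
        simp only [Subgroup.coe_mul, Subgroup.coe_inv]
        group
      rw [e]
      exact mul_mem (mul_mem hs (hgQ r hr)) (inv_mem hs)
    · exact mem_centralizer_singleton_iff.1 ((⟨s * g, hsg'⟩ : C) * r * (⟨s * g, hsg'⟩ : C)⁻¹).2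
  have hcard : Nat.card (Q : Subgroup C) ≤ Nat.card ((Sx f u).subgroupOf C) := by
    refine Nat.card_le_card_of_injective
      (fun r : (Q : Subgroup C) => (⟨_, hmem r.1 r.2⟩ : (Sx f u).subgroupOf C)) ?_
    intro a b hab
    have h1 := congrArg Subtype.val hab
    exact Subtype.ext (mul_left_cancel (mul_right_cancel h1))
  exact (Subgroup.eq_of_le_of_card_ge hQ hcard).ge

/-- an odd power congruent to `1` modulo 3 -/
theorem cx_exists_odd_pow {g : G} : ∃ j : ℕ, Nat.Coprime (orderOf (g ^ j)) 2 ∧ j % 3 = 1 := by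
  obtain ⟨a, k, hk, hak⟩ := Nat.exists_eq_pow_mul_and_not_dvd (orderOf_pos g).ne' 2 (by norm_num)
  refine ⟨4 ^ a, ?_, ?_⟩
  · have h1 : (g ^ 4 ^ a) ^ k = 1 := by
      have e : 4 ^ a * k = (2 ^ a * k) * 2 ^ a := by
        have : (4 : ℕ) ^ a = 2 ^ a * 2 ^ a := by rw [← mul_pow]; norm_num
        rw [this]; ring
      rw [← pow_mul, e, ← hak, pow_mul, pow_orderOf_eq_one, one_pow]
    have h2 := orderOf_dvd_of_pow_eq_one h1
    exact Nat.Coprime.coprime_dvd_left h2 (((Nat.Prime.coprime_iff_not_dvd Nat.prime_two).2 hk).symm)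
  · rw [Nat.pow_mod]
    simp

/-- An odd element of `N(T)` permuting `x1, x2, x3`. -/
theorem cx_exists_ρ (h : BOne (P : Subgroup G) m f u w) (hz : ∃ g : G, g * z1 f * g⁻¹ = z2 f) :
    ∃ ρ ∈ centralizer ({x4 f} : Set G), ρ ∈ normalizer (Tor f : Set G) ∧ Nat.Coprime (orderOf ρ) 2 ∧
      ρ * x1 f * ρ⁻¹ = x2 f ∧ ρ * x2 f * ρ⁻¹ = x3 f ∧ ρ * x3 f * ρ⁻¹ = x1 f := by
  obtain ⟨n, hn, hnX⟩ := h.fus_perm hz (Equiv.swap (0 : Fin 4) 1 * Equiv.swap (1 : Fin 4) 2)
  obtain ⟨j, hj, hj3⟩ := cx_exists_odd_pow (g := n)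
  obtain ⟨σ, hσ⟩ : ∃ σ : Equiv.Perm (Fin 4), σ = Equiv.swap (0 : Fin 4) 1 * Equiv.swap (1 : Fin 4) 2 := ⟨_, rfl⟩
  rw [← hσ] at hnX
  have hpow : ∀ k : ℕ, ∀ i, n ^ k * X f i * (n ^ k)⁻¹ = X f ((σ ^ k) i) := by
    intro k
    induction k with
    | zero => intro i; simp
    | succ k ih =>
      intro i
      have e1 : n ^ (k + 1) * X f i * (n ^ (k + 1))⁻¹ = n ^ k * (n * X f i * n⁻¹) * (n ^ k)⁻¹ := by
        rw [pow_succ]; group
      rw [e1, hnX, ih, pow_succ, Equiv.Perm.mul_apply]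
  have hσj : σ ^ j = σ := by
    have h3 : σ ^ 3 = 1 := by rw [hσ]; decide
    obtain ⟨l, hl⟩ : ∃ l, j = 3 * l + 1 := ⟨j / 3, by omega⟩
    rw [hl, pow_succ, pow_mul, h3, one_pow, one_mul]
  have hj' : ∀ i, n ^ j * X f i * (n ^ j)⁻¹ = X f (σ i) := by
    intro i
    rw [hpow, hσj]
  subst hσ
  refine ⟨n ^ j, ?_, pow_mem hn j, hj, hj' 0, hj' 1, hj' 2⟩
  exact mem_centralizer_singleton_iff.2 (mul_inv_eq_iff_eq_mul.1 (hj' 3))

theorem cx_coe_lft (h : BOne (P : Subgroup G) m f u w) {p q r : R m} (hg : Good p q r) :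
    ((lft (centralizer ({x4 f} : Set G)) f p q r : centralizer ({x4 f} : Set G)) : G) = f p q r :=
  h.cx_lft_coe h.cx_T_le_cent hg

/-- The action of `ρ`. -/
theorem cx_xact (h : BOne (P : Subgroup G) m f u w) {ρ : G} (hρ : ρ ∈ centralizer ({x4 f} : Set G))
    (hn : ρ ∈ normalizer (Tor f : Set G)) (h1 : ρ * x1 f * ρ⁻¹ = x2 f) (h2 : ρ * x2 f * ρ⁻¹ = x3 f)
    (h3 : ρ * x3 f * ρ⁻¹ = x1 f) :
    XAct ((Sx f u).subgroupOf (centralizer ({x4 f} : Set G))) m (lft (centralizer ({x4 f} : Set G)) f)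
      ⟨u, h.cx_u_mem_cent⟩ ⟨ρ, hρ⟩ := by
  have hh := h.cx_half h.cx_T_le_cent h.cx_u_mem_cent
  refine { hh with
    card_Tor := h.cx_card_Tor_lft h.cx_T_le_cent h.cx_u_mem_cent
    ρ_norm := (h.cx_mem_norm_lft h.cx_T_le_cent h.cx_u_mem_cent).2 hn
    ρ_x1 := ?_
    ρ_x2 := ?_
    ρ_x3 := ?_
    x4_cent := ?_
    perm := ?_
    faithful := ?_ }
  · apply Subtype.ext
    change ρ * (lft _ f (N m) 0 0 : centralizer ({x4 f} : Set G)) * ρ⁻¹ = (lft _ f (N m) 0 (N m) : centralizer ({x4 f} : Set G))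
    rw [h.cx_coe_lft goodx1, h.cx_coe_lft goodx2]; exact h1
  · apply Subtype.ext
    change ρ * (lft _ f (N m) 0 (N m) : centralizer ({x4 f} : Set G)) * ρ⁻¹ = (lft _ f 0 (N m) 0 : centralizer ({x4 f} : Set G))
    rw [h.cx_coe_lft goodx2, h.cx_coe_lft goodx3]; exact h2
  · apply Subtype.ext
    change ρ * (lft _ f 0 (N m) 0 : centralizer ({x4 f} : Set G)) * ρ⁻¹ = (lft _ f (N m) 0 0 : centralizer ({x4 f} : Set G))
    rw [h.cx_coe_lft goodx3, h.cx_coe_lft goodx1]; exact h3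
  · intro g
    apply Subtype.ext
    change (g : G) * (lft _ f 0 (N m) (N m) : centralizer ({x4 f} : Set G)) =
      (lft _ f 0 (N m) (N m) : centralizer ({x4 f} : Set G)) * (g : G)
    rw [h.cx_coe_lft goodx4]
    exact mem_centralizer_singleton_iff.1 g.2
  · intro g hg
    obtain ⟨σ, hσ⟩ := FusA.exists_perm h.e_sf ((h.cx_mem_norm_lft h.cx_T_le_cent h.cx_u_mem_cent).1 hg)
    refine ⟨σ, fun i => ?_⟩
    apply Subtype.ext
    rw [Subgroup.coe_mul, Subgroup.coe_mul, Subgroup.coe_inv, h.cx_X_lft h.cx_T_le_cent, h.cx_X_lft h.cx_T_le_cent]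
    exact hσ i
  · intro g hg hX t ht
    apply Subtype.ext
    refine h.fus_cent ((h.cx_mem_norm_lft h.cx_T_le_cent h.cx_u_mem_cent).1 hg) (fun i => ?_) _
      ((h.cx_mem_Tor_lft h.cx_T_le_cent h.cx_u_mem_cent).1 ht)
    have := congrArg Subtype.val (hX i)
    rw [Subgroup.coe_mul, Subgroup.coe_mul, h.cx_X_lft h.cx_T_le_cent] at this
    exact this

/-- The normaliser of `C_S(x4)` normalises `T`. -/
theorem cx_norm_Sx (h : BOne (P : Subgroup G) m f u w) :
    normalizer (((Sx f u).subgroupOf (centralizer ({x4 f} : Set G)) : Subgroup (centralizer ({x4 f} : Set G))) :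
      Set (centralizer ({x4 f} : Set G))) ≤ normalizer (Tor (lft (centralizer ({x4 f} : Set G)) f) : Set _) := by
  intro n hn
  rw [h.cx_mem_norm_lft h.cx_T_le_cent h.cx_u_mem_cent]
  refine h.cx_norm_of_conj fun t ht => ?_
  have h1 := (mem_normalizer_iff.1 hn ⟨t, h.cx_T_le_cent ht⟩).1 (by
    rw [mem_subgroupOf]
    exact (le_sup_left : Tor f ≤ Sx f u) ht)
  rw [mem_subgroupOf] at h1
  exact h.cx_Sx_le h1

/-- **The data in the centraliser of `x4`.** -/
theorem cx_exists_xdat (h : BOne (P : Subgroup G) m f u w) (hz : ∃ g : G, g * z1 f * g⁻¹ = z2 f)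
    {Q : Sylow 2 (centralizer ({x4 f} : Set G))}
    (hQ : (Q : Subgroup (centralizer ({x4 f} : Set G))) = (Sx f u).subgroupOf (centralizer ({x4 f} : Set G)))
    (hval : ∃ (X : Subgroup (centralizer ({x4 f} : Set G))) (g y : centralizer ({x4 f} : Set G)), Ess Q X ∧
      ¬ Tor (lft (centralizer ({x4 f} : Set G)) f) ≤ X ∧
      OddA (lft (centralizer ({x4 f} : Set G)) f) (⟨u, h.cx_u_mem_cent⟩ : centralizer ({x4 f} : Set G)) X g y 0) :
    ∃ ρ, XDat Q m (lft (centralizer ({x4 f} : Set G)) f) ⟨u, h.cx_u_mem_cent⟩ ρ := by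
  obtain ⟨ρ, hρ, hn, ho, h1, h2, h3⟩ := h.cx_exists_ρ hz
  refine ⟨⟨ρ, hρ⟩, ?_⟩
  have hx := h.cx_xact hρ hn h1 h2 h3
  rw [← hQ] at hx
  refine { hx with
    ρ_odd := ?_
    norm_P := ?_
    val := hval }
  · rw [← Subgroup.orderOf_coe]; exact ho
  · rw [hQ]; exact h.cx_norm_Sx

end Sylow

end BOne

end Cfsg.Agent.LFourB
end

-- part: LFourB/CentXSwap
section
/-!
# Replacing `u` by `x4 u`
-/

set_option autoImplicit false
set_option linter.unusedSectionVars false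

namespace Cfsg.Agent.LFourB

open Subgroup Cfsg.Agent.Lib.EssentialFusion CentXEss

universe v

variable {G : Type v} [Group G] {m : ℕ} {f : R m → R m → R m → G} {u w : G}

section Odd

variable {C : Type v} [Group C] {P : Subgroup C} {f : R m → R m → R m → C} {u : C}

end Odd

namespace BOne

variable {S : Subgroup G}

end BOne

end Cfsg.Agent.LFourB
end

-- part: LFourB/CentXFinal
section
/-!
# The data in `C(x4)` from Steps 1-4
-/

set_option autoImplicit false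
set_option linter.unusedSectionVars false

namespace Cfsg.Agent.LFourB.CentXFinal

open Subgroup Cfsg.Agent.Lib.EssentialFusion Cfsg.Agent.LFourB Cfsg.Agent.LFourB.CentXEss Cfsg.Agent.LFourB.BOne
open Cfsg.Agent.LFourB.EssFive (DData)

universe v

section Half

variable {C : Type v} [Group C] {P : Subgroup C} {m : ℕ} {f : R m → R m → R m → C} {u : C}

theorem ux1_e (h : Cfsg.Agent.LFourB.Half P m f u) : f 0 0 (M m) * u = h1 f * (u * x1 f) := by
  have g2 : Good (N m : R m) 0 (N m) := BOne.goodx2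
  have g1 : Good (N m : R m) 0 0 := BOne.goodx1
  have hu : u * x1 f = x2 f * u := by
    rw [x1, x2, h.u_f _ _ _ g1, neg_N, zero_add]
  rw [hu, ← mul_assoc, h1, x2, h.f_mul _ _ _ _ _ _ BOne.goodh1 g2, N_add_N, add_zero]
  congr 2
  rw [← two_mul_M]; ring

theorem ux1_sq (h : Cfsg.Agent.LFourB.Half P m f u) : (u * x1 f) * (u * x1 f) = z1 f := by
  have g1 : Good (N m : R m) 0 0 := BOne.goodx1
  have e : (u * x1 f) * (u * x1 f) = (u * x1 f * u) * x1 f := by group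
  rw [e, x1, h.u_f_u g1, h.f_mul _ _ _ _ _ _ g1.actu g1, z1, neg_N, N_add_N, add_zero, zero_add, add_zero]

theorem oddA_of (h : Cfsg.Agent.LFourB.Half P m f u) {d : C} (hd : d ∈ normalizer (Ru f u : Set C)) (ho : ¬ 2 ∣ orderOf d)
    (hc : ∀ b ∈ Bu f, d * b = b * d) (k1 : d * h1 f * d⁻¹ = u * x1 f)
    (k2 : d * (u * x1 f) * d⁻¹ = h1 f * (u * x1 f)) : OddA f u (Ru f u) (d ^ 2) 1 0 := by
  have he : (1 : C) * (f 0 0 (M m) * u) * 1⁻¹ = h1 f * (u * x1 f) := by rw [ux1_e h]; group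
  have hhm : h1 f ∈ Ru f u := (le_sup_right : _ ≤ Ru f u) (_root_.Subgroup.subset_closure (by simp))
  have hum : u ∈ Ru f u := (le_sup_right : _ ≤ Ru f u) (_root_.Subgroup.subset_closure (by simp))
  have hb0 : f 0 0 (M m) ∈ Bu f := h.f_mem_Bu (good_e (Or.inl rfl))
  have e1 : d ^ 2 * h1 f * (d ^ 2)⁻¹ = h1 f * (u * x1 f) := by
    have : d ^ 2 * h1 f * (d ^ 2)⁻¹ = d * (d * h1 f * d⁻¹) * d⁻¹ := by rw [pow_two]; group
    rw [this, k1, k2]
  refine ⟨one_mem _, Or.inl rfl, pow_mem hd 2, ?_, ?_, ?_, ?_, ?_⟩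
  · intro h2
    apply ho
    have h3 : orderOf (d ^ 2) ∣ orderOf d := orderOf_pow_dvd 2
    exact h2.trans h3
  · intro b hb
    exact (Commute.pow_left (hc b hb) 2).eq
  · rw [one_mul, inv_one, mul_one]
    exact mul_mem ((le_sup_left : Bu f ≤ Ru f u) hb0) hum
  · rw [he, e1]
  · right
    rw [he]
    have hz : ∀ e ∈ P, z1 f * e = e * z1 f := fun e he => h.Bu_comm h.z1_mem he
    have hxP : u * x1 f ∈ P := mul_mem h.u_mem (h.Tor_le (h.f_mem_Tor BOne.goodx1))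
    have hhP : h1 f ∈ P := h.Tor_le h.h1_mem
    have e2 : d ^ 2 * (h1 f * (u * x1 f)) * (d ^ 2)⁻¹ = u * x1 f := by
      have e3 : d ^ 2 * (h1 f * (u * x1 f)) * (d ^ 2)⁻¹ =
          d * ((d * h1 f * d⁻¹) * (d * (u * x1 f) * d⁻¹)) * d⁻¹ := by rw [pow_two]; group
      have e4 : d * ((u * x1 f) * (h1 f * (u * x1 f))) * d⁻¹ =
          (d * (u * x1 f) * d⁻¹) * ((d * h1 f * d⁻¹) * (d * (u * x1 f) * d⁻¹)) := by group
      rw [e3, k1, k2, e4, k1, k2]
      calc h1 f * (u * x1 f) * (u * x1 f * (h1 f * (u * x1 f)))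
          = h1 f * ((u * x1 f) * (u * x1 f)) * (h1 f * (u * x1 f)) := by group
        _ = h1 f * (z1 f * h1 f) * (u * x1 f) := by rw [ux1_sq h]; group
        _ = (h1 f * h1 f) * z1 f * (u * x1 f) := by rw [hz _ hhP]; group
        _ = u * x1 f := by rw [h.h1_sq, h.z1_sq, one_mul]
    rw [e2]
    have e5 : h1 f * (h1 f * (u * x1 f)) * z1 f = (h1 f * h1 f) * ((u * x1 f) * z1 f) := by group
    rw [e5, ← hz _ hxP, h.h1_sq, ← mul_assoc, h.z1_sq, one_mul]

end Half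

variable {G : Type v} [Group G] [Finite G] {P : Sylow 2 G} {m : ℕ} {f : R m → R m → R m → G} {u w : G}

theorem exists_val_aux (h : BOne (P : Subgroup G) m f u w) (hG : ∀ φ : G →* ℤˣ, φ u = 1)
    {C : Subgroup G} (hC : C = centralizer ({x4 f} : Set G)) (hTC : Tor f ≤ C) (huC : u ∈ C)
    {Q : Sylow 2 C} (hQ : (Q : Subgroup C) = (Sx f u).subgroupOf C)
    {d : G} (hd : DData f u d) (hdx : d * x4 f = x4 f * d) :
    ∃ (X : Subgroup C) (g y : C), Ess Q X ∧ ¬ Tor (lft C f) ≤ X ∧ OddA (lft C f) (⟨u, huC⟩ : C) X g y 0 := by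
  have hhalf := h.cx_half hTC huC
  have hx4 : ∀ g : C, g * x4 (lft C f) = x4 (lft C f) * g := by
    intro g
    apply Subtype.ext
    change (g : G) * (lft _ f 0 (N m) (N m) : C) = (lft _ f 0 (N m) (N m) : C) * (g : G)
    rw [h.cx_lft_coe hTC goodx4]
    exact mem_centralizer_singleton_iff.1 (hC ▸ g.2)
  -- essential subgroups
  have hQmap : (Q : Subgroup C).map C.subtype = Sx f u := by
    rw [hQ, subgroupOf_map_subtype, inf_eq_left.2 (hC ▸ h.cx_Sx_le_cent)]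
  obtain ⟨X, hX, hT⟩ : ∃ X : Subgroup C, Ess Q X ∧ ¬ (Tor f).subgroupOf C ≤ X := by
    subst hC
    exact EssSeven.exists_ess h hG hQmap
  rw [← h.cx_Tor_lft hTC huC] at hT
  have hhalfQ := hhalf
  rw [← hQ] at hhalfQ
  obtain ⟨g, hg, ho, hgc⟩ := CentXOne.exists_odd hX
  obtain ⟨y, q, ha⟩ := exists_oddA hhalfQ hx4 hX hT hg ho hgc
  -- the element `d`
  have hdC : d ∈ C := hC ▸ mem_centralizer_singleton_iff.2 hdx
  have hBC : ∀ b : C, b ∈ Bu (lft C f) → (b : G) ∈ Bu f := by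
    intro b hb
    obtain ⟨q, r, hg, rfl⟩ := hhalf.mem_Bu.1 hb
    rw [h.cx_lft_coe hTC hg]
    exact h.mem_Bu.2 ⟨q, r, hg, rfl⟩
  have hBC' : ∀ b : C, (b : G) ∈ Bu f → b ∈ Bu (lft C f) := by
    intro b hb
    obtain ⟨q, r, hg, hbe⟩ := h.mem_Bu.1 hb
    exact hhalf.mem_Bu.2 ⟨q, r, hg, Subtype.ext (by rw [hbe, h.cx_lft_coe hTC hg])⟩
  have hh1 : ((h1 (lft C f) : C) : G) = h1 f := h.cx_lft_coe hTC goodh1
  have hx1 : ((x1 (lft C f) : C) : G) = x1 f := h.cx_lft_coe hTC goodx1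
  have hRu : Ru (lft C f) (⟨u, huC⟩ : C) = (Ru f u).subgroupOf C := by
    apply le_antisymm
    · refine sup_le ?_ ?_
      · intro b hb
        rw [mem_subgroupOf]
        exact (le_sup_left : Bu f ≤ Ru f u) (hBC b hb)
      · rw [closure_le]
        rintro a (k | k)
        · rw [k, SetLike.mem_coe, mem_subgroupOf, hh1]
          exact (le_sup_right : _ ≤ Ru f u) (_root_.Subgroup.subset_closure (by simp))
        · have k : a = ⟨u, huC⟩ := k
          rw [k, SetLike.mem_coe, mem_subgroupOf]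
          exact (le_sup_right : _ ≤ Ru f u) (_root_.Subgroup.subset_closure (by simp))
    · -- both sides have the same image in `G`
      have hle : Ru f u ≤ (Ru (lft C f) (⟨u, huC⟩ : C)).map C.subtype := by
        refine sup_le ?_ ?_
        · intro b hb
          exact ⟨⟨b, hTC (h.Bu_le hb)⟩, (le_sup_left : Bu (lft C f) ≤ _) (hBC' _ hb), rfl⟩
        · rw [closure_le]
          rintro a (k | k)
          · rw [k]
            exact ⟨h1 (lft C f), (le_sup_right : _ ≤ Ru (lft C f) _) (_root_.Subgroup.subset_closure (by simp)), hh1⟩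
          · have k : a = u := k
            rw [k]
            exact ⟨⟨u, huC⟩, (le_sup_right : _ ≤ Ru (lft C f) _) (_root_.Subgroup.subset_closure (by simp)), rfl⟩
      intro a haR
      rw [mem_subgroupOf] at haR
      obtain ⟨b, hb, hba⟩ := hle haR
      have : b = a := Subtype.ext hba
      rwa [← this]
  have hdN : (⟨d, hdC⟩ : C) ∈ normalizer (Ru (lft C f) (⟨u, huC⟩ : C) : Set C) := by
    rw [mem_normalizer_iff]
    intro a
    rw [hRu, mem_subgroupOf, mem_subgroupOf]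
    exact mem_normalizer_iff.1 hd.norm a
  have ha0 : OddA (lft C f) (⟨u, huC⟩ : C) (Ru (lft C f) ⟨u, huC⟩) ((⟨d, hdC⟩ : C) ^ 2) 1 0 := by
    refine oddA_of hhalfQ hdN ?_ ?_ ?_ ?_
    · rw [← Subgroup.orderOf_coe]; exact hd.odd
    · intro b hb
      exact Subtype.ext (hd.comm b (hBC b hb))
    · apply Subtype.ext
      rw [Subgroup.coe_mul, Subgroup.coe_mul, Subgroup.coe_inv, Subgroup.coe_mul, hh1, hx1]
      exact hd.one
    · apply Subtype.ext
      simp only [Subgroup.coe_mul, Subgroup.coe_inv, hh1, hx1]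
      exact hd.two
  have hq := unique hhalfQ ha0 hX hT ha (by
    have e : (1 : C)⁻¹ * (⟨d, hdC⟩ : C) ^ 2 * 1 = (⟨d, hdC⟩ : C) ^ 2 := by group
    rw [e]
    exact pow_mem hdN 2)
  rw [← hq] at ha
  exact ⟨X, g, y, hX, hT, ha⟩

/-- The value `q = 0` is attained. -/
theorem exists_val (h : BOne (P : Subgroup G) m f u w) (hG : ∀ φ : G →* ℤˣ, φ u = 1)
    {Q : Sylow 2 (centralizer ({x4 f} : Set G))}
    (hQ : (Q : Subgroup (centralizer ({x4 f} : Set G))) = (Sx f u).subgroupOf (centralizer ({x4 f} : Set G)))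
    {d : G} (hd : DData f u d) (hdx : d * x4 f = x4 f * d) :
    ∃ (X : Subgroup (centralizer ({x4 f} : Set G))) (g y : centralizer ({x4 f} : Set G)), Ess Q X ∧
      ¬ Tor (lft (centralizer ({x4 f} : Set G)) f) ≤ X ∧
      OddA (lft (centralizer ({x4 f} : Set G)) f) (⟨u, h.cx_u_mem_cent⟩ : centralizer ({x4 f} : Set G)) X g y 0 :=
  exists_val_aux h hG rfl h.cx_T_le_cent h.cx_u_mem_cent hQ hd hdx

/-- **Steps 1-4 and the data in `C(x4)`.** -/
theorem exists_xdat [IsSimpleGroup G] (h : BOne (P : Subgroup G) m f u w) (hG : ∀ φ : G →* ℤˣ, φ u = 1)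
    {d : G} (hd : DData f u d) (hdx : d * x4 f = x4 f * d) :
    ∃ Q : Sylow 2 (centralizer ({x4 f} : Set G)),
      (Q : Subgroup (centralizer ({x4 f} : Set G))) = (Sx f u).subgroupOf (centralizer ({x4 f} : Set G)) ∧
      ∃ ρ, XDat Q m (lft (centralizer ({x4 f} : Set G)) f) ⟨u, h.cx_u_mem_cent⟩ ρ := by
  obtain ⟨Q, hQ⟩ := h.cx_exists_sylow
  exact ⟨Q, hQ, h.cx_exists_xdat (h.fus_main hd.comm hd.one hd.two).1 hQ (exists_val h hG hQ hd hdx)⟩

end Cfsg.Agent.LFourB.CentXFinal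
end

-- part: LFourB/ClBGlue
section
/-!
# Closing of type `B1`: from the data in `C(x4)` and the isomorphism type of the simple section to `C(x4) ≤ M`
-/

set_option autoImplicit false

namespace Cfsg.Agent.LFourB

open Subgroup BOne

/-- The possible isomorphism types of the simple section of `C(x4)`. -/
def Typ (L : Type*) [Group L] : Prop :=
  (∃ (F1 : Type) (_ : Field F1) (_ : Fintype F1), Fintype.card F1 % 8 = 1 ∧
      Nonempty (L ≃* Matrix.ProjectiveSpecialLinearGroup (Fin 3) F1)) ∨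
    (∃ (F1 : Type) (_ : Field F1) (_ : Fintype F1) (r : ℕ), Fintype.card F1 = r ^ 2 ∧ r % 8 = 7 ∧
      Nonempty (L ≃* Cfsg.PSU 3 F1 r))

theorem two_ne_zero_of_odd {F : Type*} [Field F] [Fintype F] (h : Fintype.card F % 2 = 1) : (2 : F) ≠ 0 := by
  intro h2
  have h3 : (Fintype.card F : F) = 0 := FiniteField.cast_card_eq_zero F
  have h4 : Fintype.card F = 2 * (Fintype.card F / 2) + 1 := by omega
  rw [h4] at h3
  push_cast at h3
  rw [h2, zero_mul, zero_add] at h3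
  exact one_ne_zero h3

theorem Typ.gen4 {L : Type*} [Group L] (h : Typ L) : Gen4 L := by
  rcases h with ⟨F, _, _, hF, ⟨e⟩⟩ | ⟨F, _, _, r, hF, hr, ⟨e⟩⟩
  · exact Gen4.of_equiv e.symm (gen4_psl (two_ne_zero_of_odd (by omega)))
  · refine Gen4.of_equiv e.symm (gen4_psu hF (two_ne_zero_of_odd ?_) (by omega))
    rw [hF, Nat.pow_mod, show r % 2 = 1 by omega]

namespace ClDat

variable {G : Type*} [Group G] [Finite G] {m : ℕ} {f : R m → R m → R m → G} {u w : G} {M : Subgroup G}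
  {P : Sylow 2 G}

/-- **`C(x4) ≤ M`** from the data in `C(x4)`. -/
theorem cent_x4_le_of (h : ClDat (P : Subgroup G) f u w M)
    {Q : Sylow 2 (centralizer ({x4 f} : Set G))}
    (hQ : (Q : Subgroup (centralizer ({x4 f} : Set G))) = (Sx f u).subgroupOf (centralizer ({x4 f} : Set G)))
    {ρ : centralizer ({x4 f} : Set G)}
    (hx : XDat Q m (lft (centralizer ({x4 f} : Set G)) f) ⟨u, h.toBOne.cx_u_mem_cent⟩ ρ)
    {L : Subgroup ((centralizer ({x4 f} : Set G) : Subgroup G) ⧸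
      Cfsg.pPrimeCore 2 (centralizer ({x4 f} : Set G) : Subgroup G))}
    (hL : CentXTail.Out Q hx.Wr (Dd (lft (centralizer ({x4 f} : Set G)) f) ρ) L) (hG : Gen4 L) :
    centralizer ({x4 f} : Set G) ≤ M := by
  have hT := h.toBOne.cx_T_le_cent
  have hu := h.toBOne.cx_u_mem_cent
  have hTS : Tor f ≤ Sx f u := le_sup_left
  have hmap : (Q : Subgroup (centralizer ({x4 f} : Set G))).map (centralizer ({x4 f} : Set G)).subtype = Sx f u := by
    rw [hQ, subgroupOf_map_subtype, inf_eq_left.2 h.toBOne.cx_Sx_le_cent]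
  have hz1 : z1 (lft (centralizer ({x4 f} : Set G)) f) ∈ hx.Wr :=
    hx.mem_Wr_of_phi (hx.Tor_le (hx.f_mem_Tor BOne.good1)) hx.phi_z1
  have hz3 : z3 (lft (centralizer ({x4 f} : Set G)) f) ∈ hx.Wr := by
    apply hx.Tone_le_Wr
    rw [← hx.ρ_z1]
    apply hx.ρ_mem_Tone
    refine ⟨hx.f_mem_Tor BOne.good1, ?_⟩
    have h1 := hx.phi_z1
    have h2 : z1 (lft (centralizer ({x4 f} : Set G)) f) ∈ Tor (lft (centralizer ({x4 f} : Set G)) f) :=
      hx.f_mem_Tor BOne.good1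
    rwa [hx.phi_T h2] at h1
  refine h.cent_x4_le hL hx.P_eq ?_ ?_ ?_ (a := z1 (lft (centralizer ({x4 f} : Set G)) f))
    (b := z3 (lft (centralizer ({x4 f} : Set G)) f)) ?_ ?_ hz1 hz3 hG
  · rw [hmap]; exact h.toBOne.cx_Sx_le
  · rw [hmap]; exact hTS
  · refine le_trans (Subgroup.map_mono hx.Dd_le) ?_
    rw [h.toBOne.cx_Tor_lft hT hu, subgroupOf_map_subtype]
    exact inf_le_left
  · exact h.toBOne.cx_lft_coe hT BOne.good1
  · exact h.toBOne.cx_lft_coe hT BOne.good3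

/-- **Closing of type `B1`** from the data in `C(x4)` and the isomorphism type of the simple section. -/
theorem eq_top_of_typ (h : ClDat (P : Subgroup G) f u w M)
    {Q : Sylow 2 (centralizer ({x4 f} : Set G))}
    (hQ : (Q : Subgroup (centralizer ({x4 f} : Set G))) = (Sx f u).subgroupOf (centralizer ({x4 f} : Set G)))
    {ρ : centralizer ({x4 f} : Set G)}
    (hx : XDat Q m (lft (centralizer ({x4 f} : Set G)) f) ⟨u, h.toBOne.cx_u_mem_cent⟩ ρ)
    {L : Subgroup ((centralizer ({x4 f} : Set G) : Subgroup G) ⧸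
      Cfsg.pPrimeCore 2 (centralizer ({x4 f} : Set G) : Subgroup G))}
    (hL : CentXTail.Out Q hx.Wr (Dd (lft (centralizer ({x4 f} : Set G)) f) ρ) L) (hG : Typ L)
    (hne : ¬ IsConj (z1 f) (x4 f)) : M = ⊤ :=
  h.eq_top (h.cent_x4_le_of hQ hx hL hG.gen4) hne

end ClDat

end Cfsg.Agent.LFourB
end

private theorem dce_eb7a9d2bae90 : _root_.True := by
  try have : _root_.True := by simp only [_root_.Cfsg.Agent.LFourB.XAct.c1.eq_1]
  try have : _root_.True := by simp only [_root_.Cfsg.Agent.LFourB.cj.eq_1]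
  try have : _root_.True := by simp only [_root_.Cfsg.Agent.LFourB.yy.eq_1]
  try have : _root_.True := by simp only [_root_.Cfsg.Agent.LFourB.XAct.y.eq_1]
  try have : _root_.True := by simp only [_root_.Cfsg.Agent.LFourB.lft.eq_1]
  try have : _root_.True := by simp only [_root_.Cfsg.Agent.LFourB.Dd.eq_1]
  try have : _root_.True := by simp only [_root_.Cfsg.Agent.LFourB.XAct.c0.eq_1]
  try have : _root_.True := by simp only [_root_.Cfsg.Agent.LFourB.nu.eq_1]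
  try have : _root_.True := by simp only [_root_.Cfsg.Agent.LFourB.KTrans.HH.eq_1]
  try have : _root_.True := by simp only [_root_.Cfsg.Agent.LFourB.phi.eq_1]
  try have : _root_.True := by simp only [_root_.Cfsg.Agent.LFourB.KTrans.EE.eq_1]
  try have : _root_.True := by simp only [_root_.Cfsg.Agent.LFourB.Sx.eq_1]
  exact _root_.True.intro
end

-- part: LFourB/KEndB
section
prune_inst 0x2000000000000000001000000000040000000000000000000000000000000001000000000000000000000000000000000000000000000000000000000000000000000000000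
set_option linter.all false
open scoped Cfsg.Agent.FastGrp

-- part: LFourB/KTransM
section
/-!
# S0510, type B1: subgroups containing `n`, `x`, `y` and `T ∩ L1 L2`

`tor_le`: `M` contains the torus; `TV_le`: and `T V`; `norm_tor_le`: `N(T) ≤ M` if `C(T), P ≤ M`.
-/

set_option autoImplicit false

namespace Cfsg.Agent.LFourB.KTrans

open Subgroup FusA EF Cfsg.Agent.Transfer.FusionBasic

variable {G : Type*} [Group G] {m : ℕ} {f : R m → R m → R m → G} {u w : G}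

section

variable {S : Subgroup G}

/-- Elements of the torus inverted by `sg`. -/
theorem inv_sg (h : BOne S m f u w) {t : G} (ht : t ∈ Tor f) {x : G} (hx : Ov f (sg u w) x)
    (hi : x * t * x⁻¹ = t⁻¹) : ∃ a b : R m, t = f (2 * a) (2 * b) (b - a) := by
  obtain ⟨p', q', r', hg', rfl⟩ := hx
  obtain ⟨p, q, r, hg, rfl⟩ := h.mem_Tor.1 ht
  have h1 : sg u w * f p q r * (sg u w)⁻¹ = (f p q r)⁻¹ := by
    have hT : sg u w * f p q r * (sg u w)⁻¹ ∈ Tor f := h.e_S_norm _ h.sg_mem _ ht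
    have e1 : f p' q' r' * sg u w * f p q r * (f p' q' r' * sg u w)⁻¹ =
        f p' q' r' * (sg u w * f p q r * (sg u w)⁻¹) * (f p' q' r')⁻¹ := by group
    rw [e1, h.e_conj_Tor hT (h.f_mem_Tor hg')] at hi
    exact hi
  have h2 : f (-p) (-q) (r + p - q) = f (-p) (-q) (-r) := by
    rw [← h.f_inv hg, ← h1, h.sg_f hg, mul_inv_cancel_right]
  have h3 := ((h.f_eq_iff hg.actsg hg.neg).1 h2).2.2
  obtain ⟨c, hc⟩ := hg
  -- `2 (p + 2 r - 2 c) = 0`
  have h4 : 2 * (p + 2 * r - 2 * c) = 0 := by linear_combination hc + h3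
  rcases eq_of_two_mul h4 with h5 | h5
  · refine ⟨c - r, c, ?_⟩
    (with_reducible congr 1)
    · linear_combination h5
    · linear_combination hc - h5
    · ring
  · refine ⟨c - r + M m, c + M m, ?_⟩
    have hM := two_mul_M (m := m)
    have hN := two_mul_N (m := m)
    (with_reducible congr 1)
    · linear_combination h5 - hM
    · linear_combination hc - h5 - hM - hN + 0 * h3
    · ring

/-- `f 1 (-1) 0` is inverted by the elements over `w`. -/
theorem inv_w (h : BOne S m f u w) {y : G} (hy : Ov f w y) : y * f 1 (-1) 0 * y⁻¹ = (f 1 (-1) 0)⁻¹ := by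
  obtain ⟨p, q, r, hg, rfl⟩ := hy
  have hg1 : Good (1 : R m) (-1) 0 := ⟨0, by ring⟩
  have h1 : w * f 1 (-1) 0 * w⁻¹ = (f 1 (-1) 0)⁻¹ := by
    rw [h.w_f _ _ _ hg1, mul_inv_cancel_right, h.f_inv hg1, neg_neg]
  have e1 : f p q r * w * f 1 (-1) 0 * (f p q r * w)⁻¹ = f p q r * (w * f 1 (-1) 0 * w⁻¹) * (f p q r)⁻¹ := by group
  rw [e1, h1, h.e_conj_Tor (inv_mem (h.f_mem_Tor hg1)) (h.f_mem_Tor hg)]

/-- The torus is generated by `T ∩ L1 L2` and `f 1 (-1) 0`. -/
theorem tor_le_of (h : BOne S m f u w) {M : Subgroup G} (h0 : ∀ a b : R m, f (2 * a) (2 * b) (b - a) ∈ M)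
    (h1 : f 1 (-1) 0 ∈ M) : Tor f ≤ M := by
  intro g hg
  obtain ⟨p, q, r, ⟨c, hc⟩, rfl⟩ := h.mem_Tor.1 hg
  have hg3 : Good (1 : R m) (-1) 0 := ⟨0, by ring⟩
  have h4 : f 1 (-1) 0 ^ (p - 2 * c + 2 * r).val ∈ M := pow_mem h1 _
  rw [h.f_pow hg3, ZMod.natCast_zmod_val] at h4
  have hg4 : Good ((p - 2 * c + 2 * r) * 1) ((p - 2 * c + 2 * r) * -1) ((p - 2 * c + 2 * r) * 0) := by
    have := hg3.pow (p - 2 * c + 2 * r).val
    rwa [ZMod.natCast_zmod_val] at this
  have h5 := mul_mem h4 (h0 (c - r) c)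
  have hg5 : Good (2 * (c - r)) (2 * c) (c - (c - r)) := ⟨c, by ring⟩
  rw [h.f_mul _ _ _ _ _ _ hg4 hg5] at h5
  have e1 : (p - 2 * c + 2 * r) * 1 + 2 * (c - r) = p := by ring
  have e2 : (p - 2 * c + 2 * r) * -1 + 2 * c = q := by linear_combination -hc
  have e3 : (p - 2 * c + 2 * r) * 0 + (c - (c - r)) = r := by ring
  rwa [e1, e2, e3] at h5

end

section Conf

variable {P : Subgroup G} {n x y : G}

/-- **The torus**: `T ≤ ⟨n, T ∩ L1 L2⟩`. -/
theorem Conf.tor_le (c : Conf P m f u w n x y) (h : BOne P m f u w) {M : Subgroup G} (hn : n ∈ M)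
    (h0 : ∀ a b : R m, f (2 * a) (2 * b) (b - a) ∈ M) : Tor f ≤ M := by
  have hg1 : Good (1 : R m) (-1) 0 := ⟨0, by ring⟩
  have htT : f 1 (-1) 0 ∈ Tor f := h.f_mem_Tor hg1
  refine tor_le_of h h0 ?_
  have h1 : n⁻¹ * f 1 (-1) 0 * n ∈ Tor f := by
    have := (mem_normalizer_iff.1 (inv_mem c.n_T) _).1 htT
    rwa [inv_inv] at this
  have h2 : x * (n⁻¹ * f 1 (-1) 0 * n) * x⁻¹ = (n⁻¹ * f 1 (-1) 0 * n)⁻¹ := by
    have e1 : x * (n⁻¹ * f 1 (-1) 0 * n) * x⁻¹ = n⁻¹ * ((n * x * n⁻¹) * f 1 (-1) 0 * (n * x * n⁻¹)⁻¹) * n := by group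
    rw [e1, c.n_x, inv_w h c.y_ov]; group
  obtain ⟨a, b, hab⟩ := inv_sg h h1 c.x_ov h2
  have h3 : n⁻¹ * f 1 (-1) 0 * n ∈ M := by rw [hab]; exact h0 a b
  have h4 := mul_mem (mul_mem hn h3) (inv_mem hn)
  have e2 : n * (n⁻¹ * f 1 (-1) 0 * n) * n⁻¹ = f 1 (-1) 0 := by group
  rwa [e2] at h4

theorem ov_mem (h : BOne P m f u w) {M : Subgroup G} (hT : Tor f ≤ M) {d a b : G} (ha : Ov f d a) (hb : Ov f d b)
    (haM : a ∈ M) : b ∈ M := by
  obtain ⟨p, q, r, hg, rfl⟩ := ha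
  obtain ⟨p', q', r', hg', rfl⟩ := hb
  have h1 : d ∈ M := (M.mul_mem_cancel_left (hT (h.f_mem_Tor hg))).1 haM
  exact mul_mem (hT (h.f_mem_Tor hg')) h1

theorem Ov.self (h : BOne P m f u w) (d : G) : Ov f d d := ⟨0, 0, 0, Good.zero, by rw [h.f_zero, one_mul]⟩

theorem Conf.sg_mem_of (c : Conf P m f u w n x y) (h : BOne P m f u w) {M : Subgroup G} (hT : Tor f ≤ M)
    (hx : x ∈ M) : sg u w ∈ M := ov_mem h hT c.x_ov (Ov.self h _) hx

theorem Conf.w_mem_of (c : Conf P m f u w n x y) (h : BOne P m f u w) {M : Subgroup G} (hT : Tor f ≤ M)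
    (hy : y ∈ M) : w ∈ M := ov_mem h hT c.y_ov (Ov.self h _) hy

/-- `P ≤ ⟨T, u, w⟩` -/
theorem P_le_of (h : BOne P m f u w) {M : Subgroup G} (hT : Tor f ≤ M) (hu : u ∈ M) (hw : w ∈ M) : P ≤ M := by
  rw [h.closure_eq, closure_le]
  rintro g (hg | rfl | hg)
  · exact hT hg
  · exact hu
  · rw [Set.mem_singleton_iff.1 hg]; exact hw

/-- **`P ≤ M`**, if `M` contains `n`, `y`, the quaternion groups. -/
theorem Conf.P_le (c : Conf P m f u w n x y) (h : BOne P m f u w) {M : Subgroup G} (hn : n ∈ M) (hy : y ∈ M)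
    (h0 : ∀ a b : R m, f (2 * a) (2 * b) (b - a) ∈ M) (hu : u * x1 f ∈ M) : P ≤ M := by
  have hT := c.tor_le h hn h0
  exact P_le_of h hT ((M.mul_mem_cancel_right (hT (h.f_mem_Tor BOne.goodx1))).1 hu) (c.w_mem_of h hT hy)

end Conf

set_option maxRecDepth 100000 in
theorem perm_cover : ∀ σ : Equiv.Perm (Fin 4), ∃ i j k : Bool, ∃ l : Fin 3, σ = d8 i j k * ro ^ (l : ℕ) := by
  (set_option synthInstance.maxSize 9000 in open scoped Cfsg.Agent.Lib.FastPerm in decide +kernel)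

section

variable [Finite G] {P : Sylow 2 G} {n x y : G}

/-- **`N(T) ≤ ⟨C(T), P, n⟩`** -/
theorem Conf.norm_tor_le (c : Conf (P : Subgroup G) m f u w n x y) (h : BOne (P : Subgroup G) m f u w)
    {M : Subgroup G} (hn : n ∈ M) (hP : (P : Subgroup G) ≤ M) (hC : centralizer (Tor f : Set G) ≤ M) :
    normalizer (Tor f : Set G) ≤ M := by
  intro g hg
  obtain ⟨σ, hσ⟩ := exists_perm h.e_sf hg
  have hσ' : Acts f g σ := hσ
  obtain ⟨i, j, k, l, hl⟩ := perm_cover σ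
  have h1 : Acts f (BOne.rep u w i j k * n ^ (l : ℕ)) σ := by
    have h2 := acts_pi h ⟨BOne.rep u w i j k, h.rep_mem i j k⟩
    rw [h.e_pi_rep'] at h2
    have h3 := h2.mul ((show Acts f n ro from c.n_X).pow (l : ℕ))
    rwa [← hl] at h3
  have h2 : Acts f ((BOne.rep u w i j k * n ^ (l : ℕ))⁻¹ * g) 1 := by
    have := h1.inv.mul hσ'
    rwa [inv_mul_cancel] at this
  have h3 : (BOne.rep u w i j k * n ^ (l : ℕ)) ∈ normalizer (Tor f : Set G) :=
    mul_mem (KTrans.P_le h (h.rep_mem i j k)) (pow_mem c.n_T _)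
  have h4 := h.fus_cent (mul_mem (inv_mem h3) hg) (fun i => by
    have := h2 i
    rw [Equiv.Perm.one_apply] at this
    exact mul_inv_eq_iff_eq_mul.1 this)
  have h5 : (BOne.rep u w i j k * n ^ (l : ℕ))⁻¹ * g ∈ M := hC (mem_centralizer_iff.2 fun t ht => (h4 t ht).symm)
  have h6 := mul_mem (mul_mem (hP (h.rep_mem i j k)) (pow_mem hn (l : ℕ))) h5
  rwa [mul_inv_cancel_left] at h6

end

end Cfsg.Agent.LFourB.KTrans
end

-- part: LFourB/KTransN
section
/-!
# S0510, type B1: `C(z1) ≤ M`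

If `M` contains the two components `U1`, `U2` of `C(z1)` modulo the core, the Sylow group `P`, and every subgroup of
odd order normalised by `E`, then `C(z1) ≤ M`.
-/

set_option autoImplicit false

namespace Cfsg.Agent.LFourB.KTrans

open Subgroup FusA EF Cfsg.Agent.Transfer.FusionBasic

variable {G : Type*} [Group G] {m : ℕ} {f : R m → R m → R m → G} {u w : G}

theorem not_dvd_relIndex [Finite G] {p : ℕ} [Fact p.Prime] {S L : Subgroup G} (h : SylIn p S L) :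
    ¬ p ∣ S.relIndex L := by
  obtain ⟨T, rfl⟩ := h.exists_sylow
  have h1 : ((T : Subgroup L).map L.subtype).subgroupOf L = (T : Subgroup L) := by
    rw [subgroupOf, comap_map_eq_self_of_injective L.subtype_injective]
  rw [relIndex, h1]
  exact T.not_dvd_index

/-- `Q1` is generalized quaternion. -/
theorem quat_one {S : Subgroup G} (h : BOne S m f u w) :
    Nonempty (Qone f u ≃* QuaternionGroup (2 ^ (m + 2))) := by
  have h1 := ProdTqq.equivQ1 h.tqq
  rw [h.tqq_Q1] at h1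
  exact ⟨h1⟩

/-- `Q2` is generalized quaternion. -/
theorem quat_two {S : Subgroup G} (h : BOne S m f u w) :
    Nonempty (Qtwo f u w ≃* QuaternionGroup (2 ^ (m + 2))) := by
  have h1 := ProdTqq.equivQ1 h.tqq.swap
  have h2 : h.tqq.swap.Q1 = h.tqq.Q2 := rfl
  rw [h2, h.tqq_Q2] at h1
  exact ⟨h1⟩

section

variable [Finite G] {P : Sylow 2 G}

theorem cent_of_odd {Q : Subgroup G} (hP : Q ≤ (P : Subgroup G)) {k : ℕ}
    (hq : Nonempty (Q ≃* QuaternionGroup (2 ^ (k + 2)))) {g : G} (hg : ∀ x ∈ Q, g * x * g⁻¹ ∈ Q)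
    (ho : Odd (orderOf g)) : ∀ x ∈ Q, g * x = x * g := by
  have h1 := Cfsg.Agent.Classification.RankOneCore.mem_centralizer_of_odd (P.2.to_le hP)
    (Or.inr ⟨k + 2, by omega, hq⟩) (mem_normalizer_of_conj_mem hg) ho
  intro x hx
  exact (mem_centralizer_iff.1 h1 x hx).symm

/-- **`C(z1) ≤ M`.** -/
theorem cent_le (h : BOne (P : Subgroup G) m f u w) {U1 U2 E M : Subgroup G}
    (perm : ∀ g ∈ centralizer ({z1 f} : Set G), ((∀ x ∈ U1, g * x * g⁻¹ ∈ U1) ∧ ∀ x ∈ U2, g * x * g⁻¹ ∈ U2) ∨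
      ((∀ x ∈ U1, g * x * g⁻¹ ∈ U2) ∧ ∀ x ∈ U2, g * x * g⁻¹ ∈ U1))
    (odd : ∀ g ∈ centralizer ({z1 f} : Set G), Odd (orderOf g) →
      (∀ x ∈ U1, g * x * g⁻¹ ∈ U1) ∧ ∀ x ∈ U2, g * x * g⁻¹ ∈ U2)
    (hU1 : U1 ≤ centralizer ({z1 f} : Set G)) (hU2 : U2 ≤ centralizer ({z1 f} : Set G))
    (q1 : Qone f u ≤ U1) (q2 : Qtwo f u w ≤ U2) (s1 : ∀ s ∈ (P : Subgroup G), s ∈ U1 → s ∈ Qone f u)
    (s2 : ∀ s ∈ (P : Subgroup G), s ∈ U2 → s ∈ Qtwo f u w)
    (hM1 : U1 ≤ M) (hM2 : U2 ≤ M) (hMP : (P : Subgroup G) ≤ M) (hE : E ≤ (P : Subgroup G))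
    (hodd : ∀ K : Subgroup G, ¬ 2 ∣ Nat.card K → (∀ b ∈ E, ∀ x ∈ K, b * x * b⁻¹ ∈ K) → K ≤ M) :
    centralizer ({z1 f} : Set G) ≤ M := by
  have hPC : (P : Subgroup G) ≤ centralizer ({z1 f} : Set G) := h.S_le_centralizer
  have hQ1P : Qone f u ≤ (P : Subgroup G) := h.Qone_le
  have hQ2P : Qtwo f u w ≤ (P : Subgroup G) := h.Qtwo_le
  have hsylC : SylIn 2 (P : Subgroup G) (centralizer ({z1 f} : Set G)) :=
    ⟨hPC, P.2, fun R hPR _ hR => P.3 hR hPR⟩
  -- the product `Y`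
  set! Y := U1 ⊔ U2 with hY
  have hU1Y : U1 ≤ Y := le_sup_left
  have hU2Y : U2 ≤ Y := le_sup_right
  have hYC : Y ≤ centralizer ({z1 f} : Set G) := sup_le hU1 hU2
  have hYM : Y ≤ M := sup_le hM1 hM2
  have hYn : centralizer ({z1 f} : Set G) ≤ normalizer (Y : Set G) := by
    intro g hg
    refine mem_normalizer_of_conj_mem ?_
    have h1 : Y ≤ Y.comap (MulAut.conj g).toMonoidHom := by
      rcases perm g hg with ⟨h1, h2⟩ | ⟨h1, h2⟩
      · exact sup_le (fun x hx => hU1Y (h1 x hx)) (fun x hx => hU2Y (h2 x hx))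
      · exact sup_le (fun x hx => hU2Y (h1 x hx)) (fun x hx => hU1Y (h2 x hx))
    exact fun x hx => h1 hx
  have hsylY := hsylC.inf hYC hYn
  -- the normaliser `N` of `P ∩ Y`
  set! N := centralizer ({z1 f} : Set G) ⊓ normalizer (((P : Subgroup G) ⊓ Y : Subgroup G) : Set G) with hN
  have hPN : (P : Subgroup G) ≤ N := by
    intro s hs
    refine ⟨hPC hs, mem_normalizer_of_conj_mem fun x hx => mem_inf.2 ⟨?_, ?_⟩⟩
    · exact (P : Subgroup G).mul_mem ((P : Subgroup G).mul_mem hs (mem_inf.1 hx).1) ((P : Subgroup G).inv_mem hs)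
    · exact (mem_normalizer_iff.1 (hYn (hPC hs)) x).1 (mem_inf.1 hx).2
  have hsylN : SylIn 2 (P : Subgroup G) N := ⟨hPN, P.2, fun R hPR _ hR => P.3 hR hPR⟩
  have hNP : ∀ g ∈ N, ∀ x ∈ (P : Subgroup G), x ∈ Y → g * x * g⁻¹ ∈ (P : Subgroup G) := by
    intro g hg x hx hxY
    exact ((mem_normalizer_iff.1 hg.2 x).1 ⟨hx, hxY⟩).1
  have hNQ : ∀ g ∈ N, ((∀ x ∈ Qone f u, g * x * g⁻¹ ∈ Qone f u) ∧ ∀ x ∈ Qtwo f u w, g * x * g⁻¹ ∈ Qtwo f u w) ∨
      ((∀ x ∈ Qone f u, g * x * g⁻¹ ∈ Qtwo f u w) ∧ ∀ x ∈ Qtwo f u w, g * x * g⁻¹ ∈ Qone f u) := by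
    intro g hg
    have e1 : ∀ x ∈ Qone f u, g * x * g⁻¹ ∈ (P : Subgroup G) := fun x hx => hNP g hg x (hQ1P hx) (hU1Y (q1 hx))
    have e2 : ∀ x ∈ Qtwo f u w, g * x * g⁻¹ ∈ (P : Subgroup G) := fun x hx => hNP g hg x (hQ2P hx) (hU2Y (q2 hx))
    rcases perm g hg.1 with ⟨h1, h2⟩ | ⟨h1, h2⟩
    · exact Or.inl ⟨fun x hx => s1 _ (e1 x hx) (h1 x (q1 hx)), fun x hx => s2 _ (e2 x hx) (h2 x (q2 hx))⟩
    · exact Or.inr ⟨fun x hx => s2 _ (e1 x hx) (h1 x (q1 hx)), fun x hx => s1 _ (e2 x hx) (h2 x (q2 hx))⟩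
  set! D := N ⊓ centralizer ((Qone f u ⊔ Qtwo f u w : Subgroup G) : Set G) with hD
  have hmemD : ∀ g, g ∈ D ↔ g ∈ N ∧ (∀ x ∈ Qone f u, g * x = x * g) ∧ ∀ x ∈ Qtwo f u w, g * x = x * g := by
    intro g
    rw [hD, mem_inf]
    refine and_congr_right fun _ => ?_
    rw [mem_centralizer_iff]
    constructor
    · intro h1
      exact ⟨fun x hx => (h1 x (mem_sup_left hx)).symm, fun x hx => (h1 x (mem_sup_right hx)).symm⟩
    · rintro ⟨h1, h2⟩ x hx
      have h3 : Qone f u ⊔ Qtwo f u w ≤ centralizer ({g} : Set G) :=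
        sup_le (fun x hx => mem_centralizer_singleton_iff.2 (h1 x hx).symm)
          (fun x hx => mem_centralizer_singleton_iff.2 (h2 x hx).symm)
      exact mem_centralizer_singleton_iff.1 (h3 hx)
  have hDN : D ≤ N := inf_le_left
  have hND : N ≤ normalizer (D : Set G) := by
    intro g hg
    refine mem_normalizer_of_conj_mem fun d hd => ?_
    obtain ⟨d0, d1, d2⟩ := (hmemD d).1 hd
    refine (hmemD _).2 ⟨mul_mem (mul_mem hg d0) (inv_mem hg), ?_, ?_⟩
    · intro x hx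
      have hx' : g⁻¹ * x * g⁻¹⁻¹ ∈ Qone f u ∨ g⁻¹ * x * g⁻¹⁻¹ ∈ Qtwo f u w := by
        rcases hNQ g⁻¹ (inv_mem hg) with ⟨h1, -⟩ | ⟨h1, -⟩
        · exact Or.inl (h1 x hx)
        · exact Or.inr (h1 x hx)
      have h3 : d * (g⁻¹ * x * g⁻¹⁻¹) = (g⁻¹ * x * g⁻¹⁻¹) * d := hx'.elim (d1 _) (d2 _)
      calc g * d * g⁻¹ * x = g * (d * (g⁻¹ * x * g⁻¹⁻¹)) * g⁻¹ := by group
        _ = x * (g * d * g⁻¹) := by rw [h3]; group
    · intro x hx
      have hx' : g⁻¹ * x * g⁻¹⁻¹ ∈ Qone f u ∨ g⁻¹ * x * g⁻¹⁻¹ ∈ Qtwo f u w := by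
        rcases hNQ g⁻¹ (inv_mem hg) with ⟨-, h1⟩ | ⟨-, h1⟩
        · exact Or.inr (h1 x hx)
        · exact Or.inl (h1 x hx)
      have h3 : d * (g⁻¹ * x * g⁻¹⁻¹) = (g⁻¹ * x * g⁻¹⁻¹) * d := hx'.elim (d1 _) (d2 _)
      calc g * d * g⁻¹ * x = g * (d * (g⁻¹ * x * g⁻¹⁻¹)) * g⁻¹ := by group
        _ = x * (g * d * g⁻¹) := by rw [h3]; group
  -- odd elements of `N` lie in `D`
  have hoddD : ∀ g ∈ N, Odd (orderOf g) → g ∈ D := by
    intro g hg ho
    have e1 : ∀ x ∈ Qone f u, g * x * g⁻¹ ∈ Qone f u := fun x hx =>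
      s1 _ (hNP g hg x (hQ1P hx) (hU1Y (q1 hx))) ((odd g hg.1 ho).1 x (q1 hx))
    have e2 : ∀ x ∈ Qtwo f u w, g * x * g⁻¹ ∈ Qtwo f u w := fun x hx =>
      s2 _ (hNP g hg x (hQ2P hx) (hU2Y (q2 hx))) ((odd g hg.1 ho).2 x (q2 hx))
    exact (hmemD g).2 ⟨hg, cent_of_odd hQ1P (quat_one h) e1 ho, cent_of_odd hQ2P (quat_two h) e2 ho⟩
  have hpow : ∀ x ∈ N, ∃ k : ℕ, x ^ 2 ^ k ∈ D := by
    intro x hx
    obtain ⟨k, b, hb, hkb⟩ := Nat.exists_eq_pow_mul_and_not_dvd (n := orderOf x) (orderOf_pos x).ne' 2 (by norm_num)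
    refine ⟨k, hoddD _ (pow_mem hx _) ?_⟩
    have h1 : orderOf (x ^ 2 ^ k) = b := by
      rw [orderOf_pow, hkb, Nat.gcd_eq_right (Dvd.intro _ rfl)]
      exact Nat.mul_div_cancel_left _ (by positivity)
    rw [h1]
    exact Nat.odd_iff.2 (by omega)
  -- the cyclic Sylow subgroup of `D`
  have hsylD := hsylN.inf hDN hND
  have hg2 : Good (0 : R m) 0 2 := ⟨1, by ring⟩
  have hle : (P : Subgroup G) ⊓ D ≤ zpowers (f 0 0 2) := by
    intro s hs
    obtain ⟨-, d1, d2⟩ := (hmemD s).1 hs.2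
    obtain ⟨c, rfl⟩ := h.cent_QQ hs.1 d1 d2
    refine mem_zpowers_iff.2 ⟨(c.val : ℤ), ?_⟩
    rw [zpow_natCast, h.f_pow hg2, ZMod.natCast_zmod_val]
    (with_reducible congr 1) <;> ring
  have hcyc : IsCyclic ((P : Subgroup G) ⊓ D : Subgroup G) :=
    isCyclic_of_injective (Subgroup.inclusion hle) (Subgroup.inclusion_injective hle)
  obtain ⟨O, hOD, hOodd, hO1, hO2, -⟩ := Cfsg.Agent.Classification.IdU.Gen.exists_odd_core D
    ((P : Subgroup G) ⊓ D) hsylD.isPGroup hsylD.le hcyc (not_dvd_relIndex hsylD)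
  have hOM : O ≤ M := by
    refine hodd O (fun h2 => (Nat.not_even_iff_odd.2 hOodd) (even_iff_two_dvd.2 h2)) ?_
    intro b hb x hx
    have hbN : b ∈ N := hPN (hE hb)
    have h1 : b * x * b⁻¹ ∈ D := (mem_normalizer_iff.1 (hND hbN) x).1 (hOD hx)
    refine (hO1 _ h1).2 ?_
    have e1 : b * x * b⁻¹ = MulAut.conj b x := rfl
    rw [e1, MulEquiv.orderOf_eq]
    exact (hO1 _ (hOD hx)).1 hx
  -- the conclusion
  intro g hg
  obtain ⟨y, hy, hyg⟩ := hsylY.frattini hYn hg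
  have hyN : y * g ∈ N := ⟨mul_mem (hYC hy) hg, hyg⟩
  obtain ⟨d, hd, s, hs, hds⟩ := hsylN.exists_mul hDN hND hpow hyN
  obtain ⟨o, ho, s', hs', hos⟩ := hO2 d hd
  have h1 : y * g ∈ M := by
    rw [hds, ← hos]
    exact mul_mem (mul_mem (hOM ho) (hMP hs'.1)) (hMP hs)
  exact (M.mul_mem_cancel_left (hYM hy)).1 h1

end

end Cfsg.Agent.LFourB.KTrans
end

-- part: LFourB/KPair
section
/-!
# The elementary abelian subgroups of order 16 over `V` in type `PSL 4 q`, `q = 1 mod 8`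

`x` over `sg` and `y` over `w` are commuting involutions, `EE f x y = ⟨z1, z2, x, y⟩` and `HH f x = ⟨z1, z2, x⟩`.
-/

set_option autoImplicit false
set_option linter.unusedSectionVars false

namespace Cfsg.Agent.LFourB.KPair

open Subgroup Cfsg.Agent.LFourB.FusA Cfsg.Agent.LFourB.EF
open Cfsg.Agent.LFourB.KTrans (EE HH)

variable {G : Type*} [Group G] {S : Subgroup G} {m : ℕ} {f : R m → R m → R m → G} {u w x y : G}

/-- `x` and `y` are commuting involutions over `sg` and `w`. -/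
structure IsPr (f : R m → R m → R m → G) (u w x y : G) : Prop where
  ox : Ov f (sg u w) x
  oy : Ov f w y
  xx : x * x = 1
  yy : y * y = 1
  xy : x * y = y * x

theorem Z2_mul (h : BOne S m f u w) {a b : G} (ha : Z2 (z1 f) (z2 f) a) (hb : Z2 (z1 f) (z2 f) b) :
    Z2 (z1 f) (z2 f) (a * b) := h.e_Zg.mul_mem (x := a) (y := b) ha hb

theorem Z2_sq (h : BOne S m f u w) {c : G} (hc : Z2 (z1 f) (z2 f) c) : c * c = 1 := by
  obtain ⟨p, r, hgd, hp, hr, rfl⟩ := h.e_Z2_coord hc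
  exact (h.e_sq_f_iff hgd).2 ⟨hp, hp, hr⟩

theorem Z2_comm (h : BOne S m f u w) {a b : G} (ha : Z2 (z1 f) (z2 f) a) (hb : Z2 (z1 f) (z2 f) b) :
    a * b = b * a := h.Tor_comm (h.e_Zg_le ha) (h.e_Zg_le hb)

theorem Z2_mem_Tor (h : BOne S m f u w) {a : G} (ha : Z2 (z1 f) (z2 f) a) : a ∈ Tor f := h.e_Zg_le ha

section Pair

variable (h : BOne S m f u w) (hp : IsPr f u w x y)
include h hp

theorem cx {c : G} (hc : Z2 (z1 f) (z2 f) c) : c * x = x * c := h.e_Z2_comm hc (Or.inl hp.ox)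

theorem cy {c : G} (hc : Z2 (z1 f) (z2 f) c) : c * y = y * c := h.e_Z2_comm hc (Or.inr (Or.inl hp.oy))

/-- the product is over `sgw` -/
theorem oxy : Ov f (sgw u w) (x * y) := by
  obtain ⟨p, q, r, hg, rfl⟩ := hp.ox
  obtain ⟨p', q', r', hg', rfl⟩ := hp.oy
  refine ⟨p + -p', q + -q', r + (r' + p' - q'), hg.add hg'.actsg, ?_⟩
  rw [mul_assoc, ← mul_assoc (sg u w), h.sg_f hg', mul_assoc (f (-p') (-q') (r' + p' - q')), ← mul_assoc (f p q r),
    h.f_mul _ _ _ _ _ _ hg hg'.actsg]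
  rfl

theorem cxy {c : G} (hc : Z2 (z1 f) (z2 f) c) : c * (x * y) = x * y * c :=
  h.e_Z2_comm hc (Or.inr (Or.inr (oxy h hp)))

/-- The subgroup as a set. -/
theorem mem_EE {g : G} : g ∈ EE f x y ↔
    ∃ c, Z2 (z1 f) (z2 f) c ∧ (g = c ∨ g = c * x ∨ g = c * y ∨ g = c * (x * y)) := by
  constructor
  · intro hg
    refine closure_induction (p := fun g _ => ∃ c, Z2 (z1 f) (z2 f) c ∧ (g = c ∨ g = c * x ∨ g = c * y ∨ g = c * (x * y)))
      ?_ ⟨1, Z2_one _ _, Or.inl rfl⟩ ?_ ?_ hg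
    · rintro a (rfl | rfl | rfl | rfl)
      · exact ⟨_, Z2_z _ _, Or.inl rfl⟩
      · exact ⟨_, Z2_z' _ _, Or.inl rfl⟩
      · exact ⟨1, Z2_one _ _, Or.inr (Or.inl (one_mul _).symm)⟩
      · exact ⟨1, Z2_one _ _, Or.inr (Or.inr (Or.inl (one_mul _).symm))⟩
    · rintro a b - - ⟨c, hc, ha⟩ ⟨d, hd, hb⟩
      refine ⟨c * d, Z2_mul h hc hd, ?_⟩
      have c1 : Commute d x := cx h hp hd
      have c2 : Commute d y := cy h hp hd
      have c3 : Commute d (x * y) := cxy h hp hd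
      have c4 : Commute x y := hp.xy
      rcases ha with rfl | rfl | rfl | rfl <;> rcases hb with rfl | rfl | rfl | rfl
      · left; rfl
      · right; left; rw [mul_assoc]
      · right; right; left; rw [mul_assoc]
      · right; right; right; rw [mul_assoc]
      · right; left; rw [mul_assoc, ← c1.eq, ← mul_assoc]
      · left
        calc c * x * (d * x) = c * (x * d) * x := by group
          _ = c * d * (x * x) := by rw [← c1.eq]; group
          _ = c * d := by rw [hp.xx, mul_one]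
      · right; right; right
        calc c * x * (d * y) = c * (x * d) * y := by group
          _ = c * d * (x * y) := by rw [← c1.eq]; group
      · right; right; left
        calc c * x * (d * (x * y)) = c * (x * d) * x * y := by group
          _ = c * d * (x * x) * y := by rw [← c1.eq]; group
          _ = c * d * y := by rw [hp.xx, mul_one]
      · right; right; left; rw [mul_assoc, ← c2.eq, ← mul_assoc]
      · right; right; right
        calc c * y * (d * x) = c * (y * d) * x := by group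
          _ = c * d * (y * x) := by rw [← c2.eq]; group
          _ = c * d * (x * y) := by rw [hp.xy]
      · left
        calc c * y * (d * y) = c * (y * d) * y := by group
          _ = c * d * (y * y) := by rw [← c2.eq]; group
          _ = c * d := by rw [hp.yy, mul_one]
      · right; left
        calc c * y * (d * (x * y)) = c * (y * d) * (x * y) := by group
          _ = c * d * (y * x) * y := by rw [← c2.eq]; group
          _ = c * d * x * (y * y) := by rw [← hp.xy]; group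
          _ = c * d * x := by rw [hp.yy, mul_one]
      · right; right; right; rw [mul_assoc, ← c3.eq, ← mul_assoc]
      · right; right; left
        calc c * (x * y) * (d * x) = c * (x * y * d) * x := by group
          _ = c * d * x * (y * x) := by rw [← c3.eq]; group
          _ = c * d * (x * x) * y := by rw [← hp.xy]; group
          _ = c * d * y := by rw [hp.xx, mul_one]
      · right; left
        calc c * (x * y) * (d * y) = c * (x * y * d) * y := by group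
          _ = c * d * x * (y * y) := by rw [← c3.eq]; group
          _ = c * d * x := by rw [hp.yy, mul_one]
      · left
        calc c * (x * y) * (d * (x * y)) = c * (x * y * d) * x * y := by group
          _ = c * d * x * (y * x) * y := by rw [← c3.eq]; group
          _ = c * d * (x * x) * (y * y) := by rw [← hp.xy]; group
          _ = c * d := by rw [hp.xx, hp.yy, mul_one, mul_one]
    · rintro a - ⟨c, hc, ha⟩
      have hci : c⁻¹ = c := inv_eq_of_mul_eq_one_left (Z2_sq h hc)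
      have hxi : x⁻¹ = x := inv_eq_of_mul_eq_one_left hp.xx
      have hyi : y⁻¹ = y := inv_eq_of_mul_eq_one_left hp.yy
      refine ⟨c, hc, ?_⟩
      rcases ha with rfl | rfl | rfl | rfl
      · left; exact hci
      · right; left; rw [mul_inv_rev, hci, hxi, cx h hp hc]
      · right; right; left; rw [mul_inv_rev, hci, hyi, cy h hp hc]
      · right; right; right; rw [mul_inv_rev, mul_inv_rev, hci, hyi, hxi, ← hp.xy, cxy h hp hc]
  · rintro ⟨c, hc, hg⟩
    have h1 : z1 f ∈ EE f x y := _root_.Subgroup.subset_closure (by simp)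
    have h2 : z2 f ∈ EE f x y := _root_.Subgroup.subset_closure (by simp)
    have h3 : x ∈ EE f x y := _root_.Subgroup.subset_closure (by simp)
    have h4 : y ∈ EE f x y := _root_.Subgroup.subset_closure (by simp)
    have h5 : c ∈ EE f x y := by
      rcases hc with rfl | rfl | rfl | rfl
      · exact one_mem _
      · exact h1
      · exact h2
      · exact mul_mem h1 h2
    rcases hg with rfl | rfl | rfl | rfl
    · exact h5
    · exact mul_mem h5 h3
    · exact mul_mem h5 h4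
    · exact mul_mem h5 (mul_mem h3 h4)

omit hp in
/-- The subgroup as a set. -/
theorem mem_HH (hx : Ov f (sg u w) x) (hxx : x * x = 1) {g : G} : g ∈ HH f x ↔
    ∃ c, Z2 (z1 f) (z2 f) c ∧ (g = c ∨ g = c * x) := by
  have hc : ∀ {c : G}, Z2 (z1 f) (z2 f) c → c * x = x * c := fun hc => h.e_Z2_comm hc (Or.inl hx)
  constructor
  · intro hg
    refine closure_induction (p := fun g _ => ∃ c, Z2 (z1 f) (z2 f) c ∧ (g = c ∨ g = c * x))
      ?_ ⟨1, Z2_one _ _, Or.inl rfl⟩ ?_ ?_ hg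
    · rintro a (rfl | rfl | rfl)
      · exact ⟨_, Z2_z _ _, Or.inl rfl⟩
      · exact ⟨_, Z2_z' _ _, Or.inl rfl⟩
      · exact ⟨1, Z2_one _ _, Or.inr (one_mul _).symm⟩
    · rintro a b - - ⟨c, hcc, ha⟩ ⟨d, hd, hb⟩
      refine ⟨c * d, Z2_mul h hcc hd, ?_⟩
      have c1 : Commute d x := hc hd
      rcases ha with rfl | rfl <;> rcases hb with rfl | rfl
      · left; rfl
      · right; rw [mul_assoc]
      · right; rw [mul_assoc, ← c1.eq, ← mul_assoc]
      · left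
        calc c * x * (d * x) = c * (x * d) * x := by group
          _ = c * d * (x * x) := by rw [← c1.eq]; group
          _ = c * d := by rw [hxx, mul_one]
    · rintro a - ⟨c, hcc, ha⟩
      have hci : c⁻¹ = c := inv_eq_of_mul_eq_one_left (Z2_sq h hcc)
      have hxi : x⁻¹ = x := inv_eq_of_mul_eq_one_left hxx
      refine ⟨c, hcc, ?_⟩
      rcases ha with rfl | rfl
      · left; exact hci
      · right; rw [mul_inv_rev, hci, hxi, hc hcc]
  · rintro ⟨c, hc, hg⟩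
    have h1 : z1 f ∈ HH f x := _root_.Subgroup.subset_closure (by simp)
    have h2 : z2 f ∈ HH f x := _root_.Subgroup.subset_closure (by simp)
    have h3 : x ∈ HH f x := _root_.Subgroup.subset_closure (by simp)
    have h5 : c ∈ HH f x := by
      rcases hc with rfl | rfl | rfl | rfl
      · exact one_mem _
      · exact h1
      · exact h2
      · exact mul_mem h1 h2
    rcases hg with rfl | rfl
    · exact h5
    · exact mul_mem h5 h3

theorem x_notin_Tor : x ∉ Tor f := h.e_not_Tor_sg hp.ox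

theorem y_notin_Tor : y ∉ Tor f := h.e_not_Tor_w hp.oy

theorem xy_notin_Tor : x * y ∉ Tor f := h.e_not_Tor_sgw (oxy h hp)

theorem x_mem_S : x ∈ S := h.e_mem_S_of_Ov h.sg_mem hp.ox

theorem y_mem_S : y ∈ S := h.e_mem_S_of_Ov h.w_mem hp.oy

/-- `y` is not in `HH`. -/
theorem y_notin : y ∉ HH f x := by
  intro hy
  obtain ⟨c, hc, h1 | h1⟩ := (mem_HH h hp.ox hp.xx).1 hy
  · exact y_notin_Tor h hp (h1 ▸ Z2_mem_Tor h hc)
  · apply xy_notin_Tor h hp
    rw [h1, ← mul_assoc, ← cx h hp hc, mul_assoc, hp.xx, mul_one]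
    exact Z2_mem_Tor h hc

theorem HH_le : HH f x ≤ EE f x y := _root_.Subgroup.closure_mono (by
  rintro a (rfl | rfl | rfl) <;> simp)

omit h hp in
theorem x_mem_HH : x ∈ HH f x := _root_.Subgroup.subset_closure (by simp)

omit h hp in
theorem x_mem : x ∈ EE f x y := _root_.Subgroup.subset_closure (by simp)

omit h hp in
theorem y_mem : y ∈ EE f x y := _root_.Subgroup.subset_closure (by simp)

omit h hp in
theorem Z2_mem_HH {c : G} (hc : Z2 (z1 f) (z2 f) c) : c ∈ HH f x := by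
  have h1 : z1 f ∈ HH f x := _root_.Subgroup.subset_closure (by simp)
  have h2 : z2 f ∈ HH f x := _root_.Subgroup.subset_closure (by simp)
  rcases hc with rfl | rfl | rfl | rfl
  · exact one_mem _
  · exact h1
  · exact h2
  · exact mul_mem h1 h2

theorem Z2_mem_EE {c : G} (hc : Z2 (z1 f) (z2 f) c) : c ∈ EE f x y := HH_le h hp (Z2_mem_HH hc)

theorem HH_eq : HH f x = h.e_Zg ⊔ zpowers x := by
  ext g
  rw [mem_HH h hp.ox hp.xx, mem_sup_zpowers hp.xx (fun c hc => by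
    have : c * x = x * c := cx h hp hc
    rw [← this, mul_assoc, hp.xx, mul_one]
    exact hc)]
  rfl

theorem card_HH : Nat.card (HH f x) = 8 := by
  rw [HH_eq h hp, EF.card_sup_zpowers hp.xx (fun c hc => by
    have : c * x = x * c := cx h hp hc
    rw [← this, mul_assoc, hp.xx, mul_one]
    exact hc) (fun hh => x_notin_Tor h hp (h.e_Zg_le hh)), h.e_card_Zg]

theorem EE_eq : EE f x y = HH f x ⊔ zpowers y := by
  apply le_antisymm
  · rw [EE, closure_le]
    rintro a (rfl | rfl | rfl | rfl)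
    · exact (le_sup_left : HH f x ≤ _) (_root_.Subgroup.subset_closure (by simp))
    · exact (le_sup_left : HH f x ≤ _) (_root_.Subgroup.subset_closure (by simp))
    · exact (le_sup_left : HH f a ≤ _) (_root_.Subgroup.subset_closure (by simp))
    · exact (le_sup_right : zpowers a ≤ _) (mem_zpowers a)
  · refine sup_le (HH_le h hp) ?_
    rw [zpowers_le]
    exact y_mem

/-- `EE` is commutative. -/
theorem EE_comm {a b : G} (ha : a ∈ EE f x y) (hb : b ∈ EE f x y) : a * b = b * a := by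
  have hgen : ∀ c ∈ ({z1 f, z2 f, x, y} : Set G), ∀ d ∈ ({z1 f, z2 f, x, y} : Set G), c * d = d * c := by
    have e12 : z1 f * z2 f = z2 f * z1 f := Z2_comm h (Z2_z _ _) (Z2_z' _ _)
    have e1x := cx h hp (Z2_z (z1 f) (z2 f))
    have e1y := cy h hp (Z2_z (z1 f) (z2 f))
    have e2x := cx h hp (Z2_z' (z1 f) (z2 f))
    have e2y := cy h hp (Z2_z' (z1 f) (z2 f))
    rintro c (rfl | rfl | rfl | rfl) d (rfl | rfl | rfl | rfl) <;>
      first | rfl | exact e12 | exact e12.symm | exact e1x | exact e1x.symm | exact e1y | exact e1y.symm |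
        exact e2x | exact e2x.symm | exact e2y | exact e2y.symm | exact hp.xy | exact hp.xy.symm
  have h1 : EE f x y ≤ centralizer ({z1 f, z2 f, x, y} : Set G) := by
    rw [EE, closure_le]
    intro c hc d hd
    exact hgen d hd c hc
  have h2 : EE f x y ≤ centralizer (EE f x y : Set G) := by
    conv_lhs => rw [EE]
    rw [closure_le]
    intro c hc d hd
    exact (h1 hd c hc).symm
  exact (h2 ha b hb).symm

theorem EE_sq {a : G} (ha : a ∈ EE f x y) : a * a = 1 := by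
  obtain ⟨c, hc, rfl | rfl | rfl | rfl⟩ := (mem_EE h hp).1 ha
  · exact Z2_sq h hc
  · calc c * x * (c * x) = c * (x * c) * x := by group
      _ = (c * c) * (x * x) := by rw [← cx h hp hc]; group
      _ = 1 := by rw [Z2_sq h hc, hp.xx, one_mul]
  · calc c * y * (c * y) = c * (y * c) * y := by group
      _ = (c * c) * (y * y) := by rw [← cy h hp hc]; group
      _ = 1 := by rw [Z2_sq h hc, hp.yy, one_mul]
  · calc c * (x * y) * (c * (x * y)) = c * (x * y * c) * (x * y) := by group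
      _ = (c * c) * (x * (y * x) * y) := by rw [← cxy h hp hc]; group
      _ = (c * c) * ((x * x) * (y * y)) := by rw [← hp.xy]; group
      _ = 1 := by rw [Z2_sq h hc, hp.xx, hp.yy, one_mul, one_mul]

theorem card_EE : Nat.card (EE f x y) = 16 := by
  rw [EE_eq h hp, EF.card_sup_zpowers hp.yy (fun c hc => by
    have : c * y = y * c := EE_comm h hp (HH_le h hp hc) y_mem
    rw [← this, mul_assoc, hp.yy, mul_one]
    exact hc) (y_notin h hp), card_HH h hp]

theorem EE_le : EE f x y ≤ S := by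
  rw [EE, closure_le]
  rintro a (rfl | rfl | rfl | rfl)
  · exact h.Tor_le (Z2_mem_Tor h (Z2_z _ _))
  · exact h.Tor_le (Z2_mem_Tor h (Z2_z' _ _))
  · exact x_mem_S h hp
  · exact y_mem_S h hp

theorem e16 : E16 S (EE f x y) := ⟨EE_le h hp, card_EE h hp, fun _ ha => EE_sq h hp ha⟩

theorem elem [Finite G] : Cfsg.IsElementaryAbelian 2 (EE f x y) := by
  refine ⟨⟨⟨fun a b => ?_⟩⟩, fun a ha => by rw [pow_two]; exact EE_sq h hp ha⟩
  exact Subtype.ext (EE_comm h hp a.2 b.2)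

/-- the elements outside `HH` -/
theorem not_mem_HH {a : G} (ha : a ∈ EE f x y) (haH : a ∉ HH f x) :
    ∃ c, Z2 (z1 f) (z2 f) c ∧ (a = c * y ∨ a = c * (x * y)) := by
  obtain ⟨c, hc, rfl | rfl | rfl | rfl⟩ := (mem_EE h hp).1 ha
  · exact absurd (Z2_mem_HH hc) haH
  · exact absurd (mul_mem (Z2_mem_HH hc) x_mem_HH) haH
  · exact ⟨c, hc, Or.inl rfl⟩
  · exact ⟨c, hc, Or.inr rfl⟩

/-- elements outside `HH` are outside `T V'` -/
theorem exists_w {a : G} (ha : a ∈ EE f x y) (haH : a ∉ HH f x) : ∃ b ∈ TVp f u w, a = b * w := by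
  obtain ⟨c, hc, rfl | rfl⟩ := not_mem_HH h hp ha haH
  · obtain ⟨p, q, r, hg, rfl⟩ := hp.oy
    exact ⟨c * f p q r, (le_sup_left : Tor f ≤ _) (mul_mem (Z2_mem_Tor h hc) (h.f_mem_Tor hg)), by rw [mul_assoc]⟩
  · obtain ⟨p, q, r, hg, e⟩ := oxy h hp
    have hu : u ∈ TVp f u w := (le_sup_right : _ ≤ TVp f u w) (Subgroup.subset_closure (by simp))
    have hub : ub u w ∈ TVp f u w := (le_sup_right : _ ≤ TVp f u w) (Subgroup.subset_closure (by simp))
    refine ⟨c * f p q r * (u * ub u w), mul_mem ((le_sup_left : Tor f ≤ _)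
      (mul_mem (Z2_mem_Tor h hc) (h.f_mem_Tor hg))) (mul_mem hu hub), ?_⟩
    rw [e, sgw]
    group

/-- The torus is transitive on the cosets of `⟨z1, z2⟩` outside the torus. -/
theorem tor_tr [Finite G] {a : G} (ha : a ∈ EE f x y) (haT : a ∉ Tor f) {c : G} (hc : Z2 (z1 f) (z2 f) c) :
    ∃ t ∈ Tor f, t ∈ normalizer (EE f x y : Set G) ∧ t * a * t⁻¹ = c * a := by
  obtain ⟨t, ht, e⟩ := h.e_sf.e_tr _ (e16 h hp) a ha haT c hc
  refine ⟨t, h.e_sf.TT_le ht, ?_, e⟩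
  have h1 : ∀ t ∈ Ttwo f, ∀ b ∈ EE f x y, t * b * t⁻¹ ∈ EE f x y := by
    intro t ht b hb
    obtain ⟨c, hc, e⟩ := h.e_sf.e_TT _ (e16 h hp) t ht b hb
    rw [e]
    exact mul_mem (Z2_mem_EE h hp hc) hb
  rw [mem_normalizer_iff]
  intro b
  refine ⟨h1 t ht b, fun hb => ?_⟩
  have h2 := h1 t⁻¹ (inv_mem ht) _ hb
  have h3 : t⁻¹ * (t * b * t⁻¹) * t⁻¹⁻¹ = b := by group
  rwa [h3] at h2

end Pair

/-! ### Involutions over `sg` are products of two elements of order four -/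

section Inner

/-- elements of order four of `Qone` outside the torus -/
def iq (f : R m → R m → R m → G) (u : G) (c : R m) : G := f (2 * c) 0 (-c) * (u * x1 f)

variable (h : BOne S m f u w)
include h

theorem iq_sq (c : R m) : iq f u c * iq f u c = z1 f := by
  have e : iq f u c * iq f u c = f (2 * c) 0 (-c) * (u * x1 f * f (2 * c) 0 (-c)) * (u * x1 f) := by
    rw [iq]; group
  have e2 : f (2 * c) 0 (-c) * (f (2 * -c) 0 (- -c) * (u * x1 f)) * (u * x1 f) =
      (f (2 * c) 0 (-c) * f (2 * -c) 0 (- -c)) * (u * x1 f * (u * x1 f)) := by group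
  rw [e, h.v_mul, e2, h.q_mul, add_neg_cancel, mul_zero, neg_zero, h.f_zero, one_mul, h.v_mul_v]
  rfl

theorem iq_mem (c : R m) : iq f u c ∈ Qone f u := mul_mem (h.gen1 c) h.gen2

theorem jq_mem (c : R m) : w * iq f u c * w⁻¹ ∈ Qtwo f u w := h.w_Qone _ (iq_mem h c)

theorem z1_w : w * z1 f = z1 f * w := by
  rw [z1, h.w_f _ _ _ BOne.good1, neg_N]

theorem jq_sq (c : R m) : w * iq f u c * w⁻¹ * (w * iq f u c * w⁻¹) = z1 f := by
  have e : w * iq f u c * w⁻¹ * (w * iq f u c * w⁻¹) = w * (iq f u c * iq f u c) * w⁻¹ := by group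
  rw [e, iq_sq h, z1_w h, mul_inv_cancel_right]

theorem h1_sq : h1 f * h1 f = z1 f := by
  rw [LFourB.h1, h.f_mul _ _ _ _ _ _ BOne.goodh1 BOne.goodh1, z1]
  congr 1
  · exact N_add_N
  · ring
  · linear_combination -two_mul_M (m := m) + neg_N (m := m)

theorem h2_sq : h2 f * h2 f = z1 f := by
  rw [LFourB.h2, h.f_mul _ _ _ _ _ _ BOne.goodh2 BOne.goodh2, z1]
  congr 1
  · ring
  · exact N_add_N
  · exact M_add_M

theorem h1_h2 : h1 f * h2 f = z2 f := by
  rw [LFourB.h1, LFourB.h2, h.f_mul _ _ _ _ _ _ BOne.goodh1 BOne.goodh2, z2]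
  congr 1 <;> ring

theorem h1_mem : h1 f ∈ Qone f u := by
  have := h.gen1 (M m)
  rwa [two_mul_M] at this

theorem h2_mem : h2 f ∈ Qtwo f u w := by
  have h1 : f 0 (2 * M m) (M m) ∈ Qtwo f u w := Subgroup.subset_closure (Or.inl ⟨M m, rfl⟩)
  rwa [two_mul_M] at h1

/-- `h1` inverts the elements of `Qone` outside the torus. -/
theorem h1_iq (c : R m) : h1 f * iq f u c * (h1 f)⁻¹ = (iq f u c)⁻¹ := by
  have e0 : h1 f = f (2 * M m) 0 (-M m) := by rw [two_mul_M]; rfl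
  have e1 : h1 f * iq f u c = iq f u (M m + c) := by
    rw [iq, ← mul_assoc, e0, h.q_mul, iq]
  have e2 : (iq f u c)⁻¹ * h1 f = iq f u (M m + c) := by
    rw [inv_mul_eq_iff_eq_mul]
    have e : iq f u c * iq f u (M m + c) = f (2 * c) 0 (-c) * (u * x1 f * f (2 * (M m + c)) 0 (-(M m + c))) * (u * x1 f) := by
      rw [iq, iq]; group
    have e2 : f (2 * c) 0 (-c) * (f (2 * -(M m + c)) 0 (- -(M m + c)) * (u * x1 f)) * (u * x1 f) =
      (f (2 * c) 0 (-c) * f (2 * -(M m + c)) 0 (- -(M m + c))) * (u * x1 f * (u * x1 f)) := by group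
    rw [e, h.v_mul, e2, h.q_mul, h.v_mul_v, h.f_mul _ _ _ _ _ _ (BOne.goodq1 _) BOne.good1, LFourB.h1]
    (with_reducible congr 1)
    · linear_combination two_mul_M (m := m) + two_mul_N (m := m)
    · ring
    · linear_combination -two_mul_M (m := m) - two_mul_N (m := m)
  rw [e1, ← e2, mul_inv_cancel_right]

/-- Involutions over `sg` are products of elements of order four. -/
theorem exists_iq {x : G} (hx : Ov f (sg u w) x) (hxx : x * x = 1) :
    ∃ c d, x = iq f u c * (w * iq f u d * w⁻¹) := by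
  obtain ⟨p, q, r, hg, rfl⟩ := hx
  have h1 : 2 * r + p - q = 0 := (h.e_sq_sg_iff hg).1 hxx
  obtain ⟨e, he⟩ := id hg
  have h2 : ∃ b, q = 2 * b := by
    have h3 : 2 * (q - 2 * e) = 0 := by linear_combination he - h1
    rcases eq_of_two_mul h3 with h4 | h4
    · exact ⟨e, by linear_combination h4⟩
    · exact ⟨e + M m, by linear_combination h4 - two_mul_M (m := m)⟩
  obtain ⟨b, rfl⟩ := h2
  refine ⟨b - r + M m, b + M m, ?_⟩
  have hv : w * (u * x1 f) * w⁻¹ = ub u w * x3 f := h.w_v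
  have e1 : w * iq f u (b + M m) * w⁻¹ = f 0 (2 * (b + M m)) (b + M m) * (ub u w * x3 f) := by
    have e2 : w * iq f u (b + M m) * w⁻¹ = (w * f (2 * (b + M m)) 0 (-(b + M m)) * w⁻¹) * (w * (u * x1 f) * w⁻¹) := by
      rw [iq]; group
    rw [e2, hv, h.w_f _ _ _ (BOne.goodq1 _), mul_inv_cancel_right, neg_neg]
  have gb : Good 0 (2 * (b + M m)) (b + M m) := BOne.goodq2 _
  have gc : Good (2 * (b - r + M m)) 0 (-(b - r + M m)) := BOne.goodq1 _
  have e3 : u * x1 f * f 0 (2 * (b + M m)) (b + M m) = f 0 (2 * (b + M m)) (b + M m) * (u * x1 f) := by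
    rw [mul_assoc, x1, h.f_comm BOne.goodx1 gb, ← mul_assoc, h.u_f _ _ _ gb, neg_zero, add_zero, mul_assoc]
  have e4 : u * x1 f * (ub u w * x3 f) = z2 f * sg u w := by
    have e5 : u * x1 f * (ub u w * x3 f) = u * (x1 f * ub u w) * x3 f := by group
    have e6 : x1 f * x3 f = z2 f := by
      rw [x1, x3, h.f_mul _ _ _ _ _ _ BOne.goodx1 BOne.goodx3, z2]
      (with_reducible congr 1) <;> ring
    have e7 : sg u w * z2 f = z2 f * sg u w := by
      rw [z2, h.sg_f BOne.good2, neg_N]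
      (with_reducible congr 2)
      ring
    rw [e5, ← h.ub_x1, ← e7, ← e6, sg]
    group
  rw [e1, iq]
  calc f p (2 * b) r * sg u w = f (2 * (b - r + M m)) 0 (-(b - r + M m)) * f 0 (2 * (b + M m)) (b + M m) * z2 f * sg u w := by
        congr 1
        rw [h.f_mul _ _ _ _ _ _ gc gb, z2, h.f_mul _ _ _ _ _ _ (gc.add gb) BOne.good2]
        (with_reducible congr 1)
        · linear_combination h1 - two_mul_M (m := m) - two_mul_N (m := m)
        · linear_combination -two_mul_M (m := m) - two_mul_N (m := m)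
        · ring
    _ = f (2 * (b - r + M m)) 0 (-(b - r + M m)) * f 0 (2 * (b + M m)) (b + M m) * (u * x1 f * (ub u w * x3 f)) := by
        rw [e4]; group
    _ = f (2 * (b - r + M m)) 0 (-(b - r + M m)) * (f 0 (2 * (b + M m)) (b + M m) * (u * x1 f)) * (ub u w * x3 f) := by group
    _ = f (2 * (b - r + M m)) 0 (-(b - r + M m)) * (u * x1 f * f 0 (2 * (b + M m)) (b + M m)) * (ub u w * x3 f) := by
        rw [e3]
    _ = _ := by group

/-- `Qone` and `Qtwo` commute. -/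
theorem Q_comm {a b : G} (ha : a ∈ Qone f u) (hb : b ∈ Qtwo f u w) : a * b = b * a := by
  obtain ⟨x, rfl⟩ := h.mem_Qone.1 ha
  obtain ⟨y, rfl⟩ := h.mem_Qtwo.1 hb
  exact h.q_comm x y

/-- The common elements. -/
theorem Q_inf {a : G} (ha : a ∈ Qone f u) (hb : a ∈ Qtwo f u w) : a = 1 ∨ a = z1 f := by
  obtain ⟨x, rfl⟩ := h.mem_Qone.1 ha
  obtain ⟨y, e⟩ := h.mem_Qtwo.1 hb
  rcases h.qone_eq_qtwo e with ⟨rfl, -⟩ | ⟨rfl, -⟩
  · exact Or.inl h.qone_one
  · exact Or.inr h.qone_z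

theorem z1_sq : z1 f * z1 f = 1 := h.z1_mul_z1

theorem z1_ne : z1 f ≠ 1 := by
  intro e
  rw [z1, h.f_eq_one_iff BOne.good1] at e
  exact N_ne_zero e.2.2

/-- `i * i ^ y` for `b = i * j` commuting with a swapping involution `y`. -/
theorem swap_eq {y b i j : G} (hy1 : ∀ a ∈ Qone f u, y * a * y⁻¹ ∈ Qtwo f u w)
    (hy2 : ∀ a ∈ Qtwo f u w, y * a * y⁻¹ ∈ Qone f u) (hb : y * b = b * y) (hi : i ∈ Qone f u) (hj : j ∈ Qtwo f u w)
    (e : b = i * j) : i * (y * i * y⁻¹) = b ∨ i * (y * i * y⁻¹) = z1 f * b := by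
  have h1 := hy1 i hi
  have h3 := hy2 j hj
  have e1 : (y * j * y⁻¹)⁻¹ * i = (y * i * y⁻¹) * j⁻¹ := by
    have e2 : i * j = (y * i * y⁻¹) * (y * j * y⁻¹) := by
      calc i * j = y * b * y⁻¹ := by rw [hb, mul_inv_cancel_right, e]
        _ = _ := by rw [e]; group
    have e3 : (y * i * y⁻¹) * (y * j * y⁻¹) = (y * j * y⁻¹) * (y * i * y⁻¹) := (Q_comm h h3 h1).symm
    have e4 : i * j = j * i := Q_comm h hi hj
    calc (y * j * y⁻¹)⁻¹ * i = (y * j * y⁻¹)⁻¹ * (i * j) * j⁻¹ := by group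
      _ = (y * j * y⁻¹)⁻¹ * ((y * j * y⁻¹) * (y * i * y⁻¹)) * j⁻¹ := by rw [e2, e3]
      _ = _ := by group
  have h5 : (y * i * y⁻¹) * j⁻¹ ∈ Qone f u := by
    rw [← e1]
    exact mul_mem (inv_mem h3) hi
  rcases Q_inf h h5 (mul_mem h1 (inv_mem hj)) with h6 | h6
  · left
    rw [e, mul_inv_eq_one.1 h6]
  · right
    rw [mul_inv_eq_iff_eq_mul] at h6
    have hz : i * z1 f = z1 f * i := by
      obtain ⟨x, rfl⟩ := h.mem_Qone.1 hi
      rw [← h.qone_z, ← h.qone_mul, ← h.qone_mul]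
      congr 1
      exact (Cfsg.Agent.SylowSp4.Coord.z_comm x).symm
    rw [h6, e, ← mul_assoc, hz, mul_assoc]

end Inner

end Cfsg.Agent.LFourB.KPair
end

-- part: LFourB/KDelta
section
/-!
# The element of order three type of `C(z)` in type B1

`sl_three`: in `SL(2,F)` the elements of order four of a quaternion group of order 8 are permuted cyclically.
`delta`: the diagonal version in `K₁ K₂`, commuting with an involution `y` swapping `K₁` and `K₂`.
`exists_norm_lift`: lifting to the normaliser of a 2-subgroup modulo an odd kernel.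
-/

set_option autoImplicit false

namespace Cfsg.Agent.LFourB.KDelta

open Subgroup

section SL

variable {F : Type*} [Field F]

/-- In `SL(2,F)` the elements `A`, `B` of order four with `A B = - B A` are moved cyclically `A → B → A B`. -/
theorem sl_three (h2 : (2 : F) ≠ 0) {A B : Matrix.SpecialLinearGroup (Fin 2) F} (hA : A * A = -1) (hB : B * B = -1)
    (hAB : A * B = -(B * A)) :
    ∃ k : Matrix.SpecialLinearGroup (Fin 2) F, k * A * k⁻¹ = B ∧ k * B * k⁻¹ = A * B := by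
  have tr0 : ∀ C : Matrix (Fin 2) (Fin 2) F, C * C = -1 → C.det = 1 →
      C 1 1 = - C 0 0 ∧ C 0 0 * C 0 0 + C 0 1 * C 1 0 = -1 := by
    intro C hC e3
    have e1 := congrFun (congrFun hC 0) 0
    have e2 := congrFun (congrFun hC 1) 1
    rw [Matrix.det_fin_two] at e3
    simp only [Matrix.mul_apply, Fin.sum_univ_two, Matrix.neg_apply, Matrix.one_apply_eq] at e1 e2
    have e4 : (C 0 0 + C 1 1) * (C 0 0 + C 1 1) = 0 := by linear_combination e1 + e2 + 2 * e3
    have e5 : C 0 0 + C 1 1 = 0 := mul_self_eq_zero.1 e4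
    exact ⟨by linear_combination e5, e1⟩
  obtain ⟨a, hda⟩ := A
  obtain ⟨b, hdb⟩ := B
  have ha : a * a = -1 := congrArg Subtype.val hA
  have hb : b * b = -1 := congrArg Subtype.val hB
  have hab : a * b = -(b * a) := congrArg Subtype.val hAB
  obtain ⟨a1, a2⟩ := tr0 a ha hda
  obtain ⟨b1, b2⟩ := tr0 b hb hdb
  have c1 := congrFun (congrFun hab 0) 0
  simp only [Matrix.mul_apply, Fin.sum_univ_two, Matrix.neg_apply] at c1
  have hdet : (1 + a + b + a * b).det = 4 := by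
    rw [Matrix.det_fin_two]
    simp only [Matrix.add_apply, Matrix.mul_apply, Fin.sum_univ_two, Matrix.one_apply_eq]
    have h01 : (1 : Matrix (Fin 2) (Fin 2) F) 0 1 = 0 := rfl
    have h10 : (1 : Matrix (Fin 2) (Fin 2) F) 1 0 = 0 := rfl
    rw [h01, h10, a1, b1]
    generalize a 0 0 = p at *
    generalize a 0 1 = q at *
    generalize a 1 0 = r at *
    generalize b 0 0 = s at *
    generalize b 0 1 = t at *
    generalize b 1 0 = v at *
    clear hA hB hAB ha hb hab hda hdb a1 b1 h01 h10 tr0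
    grind
  have h4 : (4 : F) ≠ 0 := by
    intro h4
    apply h2
    have : (2 : F) * 2 = 0 := by linear_combination h4
    exact mul_self_eq_zero.1 this
  have hk : ((2 : F)⁻¹ • (1 + a + b + a * b)).det = 1 := by
    rw [Matrix.det_smul, hdet, Fintype.card_fin]
    field_simp
    norm_num
  have k1 : (1 + a + b + a * b) * a = b * (1 + a + b + a * b) := by
    have e1 : a * b * a = b := by
      rw [hab, neg_mul, mul_assoc, ha, mul_neg, mul_one, neg_neg]
    have e2 : b * (a * b) = a := by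
      rw [hab, mul_neg, ← mul_assoc, hb, neg_mul, one_mul, neg_neg]
    have e3 : b * a = -(a * b) := by rw [hab, neg_neg]
    calc (1 + a + b + a * b) * a = a + a * a + b * a + a * b * a := by noncomm_ring
      _ = b + b * a + b * b + b * (a * b) := by rw [e1, e2, ha, hb]; abel
      _ = _ := by noncomm_ring
  have k2 : (1 + a + b + a * b) * b = (a * b) * (1 + a + b + a * b) := by
    have e1 : a * b * a = b := by
      rw [hab, neg_mul, mul_assoc, ha, mul_neg, mul_one, neg_neg]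
    have e4 : a * b * b = -a := by rw [mul_assoc, hb, mul_neg, mul_one]
    have e5 : a * b * (a * b) = -1 := by
      rw [← mul_assoc, e1, hb]
    calc (1 + a + b + a * b) * b = b + a * b + b * b + a * b * b := by noncomm_ring
      _ = a * b + a * b * a + a * b * b + a * b * (a * b) := by rw [e1, e4, e5, hb]; abel
      _ = _ := by noncomm_ring
  refine ⟨⟨(2 : F)⁻¹ • (1 + a + b + a * b), hk⟩, mul_inv_eq_iff_eq_mul.2 (Subtype.ext ?_),
    mul_inv_eq_iff_eq_mul.2 (Subtype.ext ?_)⟩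
  · change (2 : F)⁻¹ • (1 + a + b + a * b) * a = b * ((2 : F)⁻¹ • (1 + a + b + a * b))
    rw [smul_mul_assoc, mul_smul_comm, k1]
  · change (2 : F)⁻¹ • (1 + a + b + a * b) * b = a * b * ((2 : F)⁻¹ • (1 + a + b + a * b))
    rw [smul_mul_assoc, mul_smul_comm, k2]

end SL

section Lift

variable {Y X : Type*} [Group Y] [Finite Y] [Group X]

/-- Elements normalising a 2-subgroup modulo the odd kernel of `p` lift to the normaliser. -/
theorem exists_norm_lift (p : Y →* X) (hk : Odd (Nat.card p.ker)) {A : Subgroup Y} (hA : IsPGroup 2 A) {d : Y}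
    (hd : ∀ a ∈ A, ∃ b ∈ A, p (d * a * d⁻¹) = p b) : ∃ δ ∈ normalizer (A : Set Y), p δ = p d := by
  have : Fact (Nat.Prime 2) := ⟨Nat.prime_two⟩
  have h1 : (A ⊔ p.ker).map (MulAut.conj d).toMonoidHom ≤ A ⊔ p.ker := by
    rw [Subgroup.map_sup]
    refine sup_le ?_ ?_
    · rintro _ ⟨a, ha, rfl⟩
      obtain ⟨b, hb, e⟩ := hd a ha
      have h2 : b⁻¹ * (d * a * d⁻¹) ∈ p.ker := by
        rw [MonoidHom.mem_ker, map_mul, e, map_inv, inv_mul_cancel]
      have h3 := mul_mem ((le_sup_left : A ≤ A ⊔ p.ker) hb) ((le_sup_right : p.ker ≤ A ⊔ p.ker) h2)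
      rw [mul_inv_cancel_left] at h3
      exact h3
    · rintro _ ⟨a, ha, rfl⟩
      exact (le_sup_right : p.ker ≤ A ⊔ p.ker) (p.normal_ker.conj_mem a ha d)
  have h2 : (A ⊔ p.ker).map (MulAut.conj d).toMonoidHom = A ⊔ p.ker :=
    Subgroup.eq_of_le_of_card_ge h1 (le_of_eq (Subgroup.card_map_of_injective (MulAut.conj d).injective).symm)
  have h3 : ¬ 2 ∣ A.relIndex (A ⊔ p.ker) := by
    have e1 : Nat.card A * A.relIndex (A ⊔ p.ker) = Nat.card ↥(A ⊔ p.ker) := by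
      rw [← relIndex_bot_left, ← relIndex_bot_left]
      exact relIndex_mul_relIndex _ _ _ bot_le le_sup_left
    have e2 : Nat.card p.ker * p.ker.relIndex (A ⊔ p.ker) = Nat.card ↥(A ⊔ p.ker) := by
      rw [← relIndex_bot_left, ← relIndex_bot_left]
      exact relIndex_mul_relIndex _ _ _ bot_le le_sup_right
    have e3 : p.ker.relIndex (A ⊔ p.ker) = p.ker.relIndex A := by
      rw [sup_comm]
      exact Subgroup.relIndex_sup_left _ _
    have e4 : p.ker.relIndex A ∣ Nat.card A := Subgroup.relIndex_dvd_card _ _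
    obtain ⟨c, hc⟩ := e4
    rw [e3] at e2
    rw [← e2, hc] at e1
    have h0 : 0 < p.ker.relIndex A := Nat.pos_of_ne_zero (by
      intro h0
      rw [h0, zero_mul] at hc
      exact absurd hc Nat.card_pos.ne')
    have e5 : c * A.relIndex (A ⊔ p.ker) = Nat.card p.ker := by
      apply Nat.eq_of_mul_eq_mul_left h0
      rw [← mul_assoc, e1, mul_comm]
    intro h4
    have h5 : 2 ∣ Nat.card p.ker := by
      rw [← e5]
      exact h4.mul_left _
    exact (Nat.not_even_iff_odd.2 hk) (even_iff_two_dvd.2 h5)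
  obtain ⟨k, hk', e⟩ := RelExt.frattini (p := 2) hA le_sup_left h3 h2
  rw [← SetLike.mem_coe, Subgroup.mul_normal] at hk'
  obtain ⟨a, ha, n, hn, rfl⟩ := hk'
  have hn' : p n = 1 := hn
  have e6 : a * n * d ∈ normalizer (A : Set Y) := by
    rw [mem_normalizer_iff]
    intro x
    constructor
    · intro hx
      have : (MulAut.conj (a * n * d)).toMonoidHom x ∈ A.map (MulAut.conj (a * n * d)).toMonoidHom := mem_map_of_mem _ hx
      rw [e] at this
      exact this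
    · intro hx
      have hx' : (MulAut.conj (a * n * d)).toMonoidHom x ∈ A.map (MulAut.conj (a * n * d)).toMonoidHom := by
        rw [e]; exact hx
      obtain ⟨y, hy, e7⟩ := hx'
      have := (MulAut.conj (a * n * d)).injective e7
      rwa [← this]
  have ha' : a ∈ normalizer (A : Set Y) := le_normalizer ha
  refine ⟨a⁻¹ * (a * n * d), mul_mem (inv_mem ha') e6, ?_⟩
  rw [map_mul, map_mul, map_mul, hn', mul_one, map_inv, inv_mul_cancel_left]

end Lift

section Diag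

variable {X : Type*} [Group X] {F : Type*} [Field F] {K₁ K₂ : Subgroup X}

/-- The element cycling three elements of order four. -/
theorem three (h2 : (2 : F) ≠ 0) (e₁ : K₁ ≃* Matrix.SpecialLinearGroup (Fin 2) F) {z a b : X} (hz : z ∈ K₁)
    (hzz : z * z = 1) (hz1 : z ≠ 1) (ha : a ∈ K₁) (hb : b ∈ K₁) (haa : a * a = z) (hbb : b * b = z)
    (hab : a * b * a⁻¹ = b⁻¹) : ∃ k ∈ K₁, k * a * k⁻¹ = b ∧ k * b * k⁻¹ = a * b := by
  have hez : e₁ ⟨z, hz⟩ = -1 := by
    have h1 : e₁ ⟨z, hz⟩ * e₁ ⟨z, hz⟩ = 1 := by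
      rw [← map_mul, ← map_one e₁]
      congr 1
      exact Subtype.ext hzz
    rcases Cfsg.Agent.Lib.PSL2Inv.sq_eq_one h2 h1 with h | h
    · exact absurd (congrArg Subtype.val ((map_eq_one_iff e₁ e₁.injective).1 h)) hz1
    · exact h
  have hA : e₁ ⟨a, ha⟩ * e₁ ⟨a, ha⟩ = -1 := by
    rw [← map_mul, ← hez]
    congr 1
    exact Subtype.ext haa
  have hB : e₁ ⟨b, hb⟩ * e₁ ⟨b, hb⟩ = -1 := by
    rw [← map_mul, ← hez]
    congr 1
    exact Subtype.ext hbb
  have hAB : e₁ ⟨a, ha⟩ * e₁ ⟨b, hb⟩ = -(e₁ ⟨b, hb⟩ * e₁ ⟨a, ha⟩) := by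
    have h1 : a * b = b⁻¹ * a := by rw [← hab]; group
    have h3 : b⁻¹ = z * b := by
      rw [inv_eq_iff_mul_eq_one]
      have : b * (z * b) = b * b * b * b := by rw [← hbb]; group
      rw [this, mul_assoc (b * b), hbb, hzz]
    have h4 : (⟨a, ha⟩ * ⟨b, hb⟩ : K₁) = ⟨z, hz⟩ * (⟨b, hb⟩ * ⟨a, ha⟩) := by
      apply Subtype.ext
      change a * b = z * (b * a)
      rw [h1, h3, mul_assoc]
    rw [← map_mul, h4, map_mul, hez, map_mul]
    simp
  obtain ⟨k, h1, h3⟩ := sl_three h2 hA hB hAB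
  obtain ⟨k, rfl⟩ := e₁.surjective k
  refine ⟨k, k.2, ?_, ?_⟩
  · rw [← map_mul, ← map_inv, ← map_mul] at h1
    exact congrArg Subtype.val (e₁.injective h1)
  · rw [← map_mul, ← map_inv, ← map_mul, ← map_mul] at h3
    exact congrArg Subtype.val (e₁.injective h3)

/-- The diagonal element. -/
theorem delta (h2 : (2 : F) ≠ 0) (e₁ : K₁ ≃* Matrix.SpecialLinearGroup (Fin 2) F)
    (hc : ∀ a ∈ K₁, ∀ b ∈ K₂, a * b = b * a) {z a b y : X} (hz : z ∈ K₁) (hzz : z * z = 1) (hz1 : z ≠ 1)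
    (ha : a ∈ K₁) (hb : b ∈ K₁) (haa : a * a = z) (hbb : b * b = z) (hab : a * b * a⁻¹ = b⁻¹)
    (hyy : y * y = 1) (hy1 : ∀ a ∈ K₁, y * a * y⁻¹ ∈ K₂) :
    ∃ d, d * y = y * d ∧ d * (a * (y * a * y⁻¹)) * d⁻¹ = b * (y * b * y⁻¹) ∧
      d * (b * (y * b * y⁻¹)) * d⁻¹ = (a * (y * a * y⁻¹)) * (b * (y * b * y⁻¹)) := by
  obtain ⟨k, hk, k1, k2⟩ := three h2 e₁ hz hzz hz1 ha hb haa hbb hab
  have hyi : y⁻¹ = y := inv_eq_of_mul_eq_one_left hyy
  -- the action of `k * (y * k * y⁻¹)` on `K₁ K₂`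
  have key : ∀ c ∈ K₁, k * (y * k * y⁻¹) * (c * (y * c * y⁻¹)) * (k * (y * k * y⁻¹))⁻¹ =
      (k * c * k⁻¹) * (y * (k * c * k⁻¹) * y⁻¹) := by
    intro c hcK
    have c1 : Commute c (y * k * y⁻¹) := hc c hcK _ (hy1 k hk)
    have c2 : Commute k (y * k * y⁻¹) := hc k hk _ (hy1 k hk)
    have c3 : Commute k (y * c * y⁻¹) := hc k hk _ (hy1 c hcK)
    have c4 : Commute k (y * (k * c * k⁻¹) * y⁻¹) := hc k hk _ (hy1 _ (mul_mem (mul_mem hk hcK) (inv_mem hk)))
    have e1 : y * (k * c * k⁻¹) * y⁻¹ = (y * k * y⁻¹) * (y * c * y⁻¹) * (y * k * y⁻¹)⁻¹ := by group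
    calc k * (y * k * y⁻¹) * (c * (y * c * y⁻¹)) * (k * (y * k * y⁻¹))⁻¹
        = k * ((y * k * y⁻¹) * c) * (y * c * y⁻¹) * (y * k * y⁻¹)⁻¹ * k⁻¹ := by group
      _ = k * (c * (y * k * y⁻¹)) * (y * c * y⁻¹) * (y * k * y⁻¹)⁻¹ * k⁻¹ := by rw [c1.eq]
      _ = k * c * ((y * k * y⁻¹) * (y * c * y⁻¹) * (y * k * y⁻¹)⁻¹) * k⁻¹ := by group
      _ = k * c * (y * (k * c * k⁻¹) * y⁻¹) * k⁻¹ := by rw [e1]
      _ = k * c * ((y * (k * c * k⁻¹) * y⁻¹) * k⁻¹) := by group
      _ = k * c * (k⁻¹ * (y * (k * c * k⁻¹) * y⁻¹)) := by rw [c4.inv_left.eq]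
      _ = _ := by group
  refine ⟨k * (y * k * y⁻¹), ?_, ?_, ?_⟩
  · have c2 : Commute k (y * k * y⁻¹) := hc k hk _ (hy1 k hk)
    have e1 : k * (y * k * y⁻¹) * y = k * (y * k) := by group
    have e2 : y * (k * (y * k * y⁻¹)) = y * ((y * k * y⁻¹) * k) := by rw [c2.eq]
    have e3 : y * ((y * k * y⁻¹) * k) = (y * y) * k * y⁻¹ * k := by group
    rw [e1, e2, e3, hyy, one_mul, hyi, mul_assoc]
  · rw [key a ha, k1]
  · rw [key b hb, k2]
    have c3 : Commute b (y * a * y⁻¹) := hc b hb _ (hy1 a ha)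
    calc a * b * (y * (a * b) * y⁻¹) = a * (b * (y * a * y⁻¹)) * (y * b * y⁻¹) := by group
      _ = a * ((y * a * y⁻¹) * b) * (y * b * y⁻¹) := by rw [c3.eq]
      _ = _ := by group

end Diag

end Cfsg.Agent.LFourB.KDelta
end

-- part: LFourB/KInstB
section
/-!
# The symplectic data of type B1

`E = ⟨z1, z2, x, y⟩` with commuting involutions `x` over `sg`, `y` over `w`, and `H = ⟨z1, z2, x⟩`: the structures
`KLoc.Loc` and `KForm.Orb`.
-/

set_option autoImplicit false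
set_option linter.unusedSectionVars false

namespace Cfsg.Agent.LFourB.KInstB

open Subgroup Cfsg.Agent.LFourB.FusA Cfsg.Agent.LFourB.EF Cfsg.Agent.LFourB.KPair
open Cfsg.Agent.LFourA.CzCt Cfsg.Agent.LFourA.KlQuot Cfsg.Agent.LFourB.ProdCent
open Cfsg.Agent.LFourB.KLoc Cfsg.Agent.LFourB.KForm
open Cfsg.Agent.LFourB.KTrans (EE HH Conf)

variable {G : Type*} [Group G] [Finite G] {S : Sylow 2 G} {m : ℕ} {f : R m → R m → R m → G} {u w x y : G}
  {X : Type*} [Group X] {p : ↥(centralizer ({z1 f} : Set G)) →* X} {K₁ K₂ : Subgroup X}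

/-- conjugation by elements of `N(E) ∩ C(z)` -/
def Rc (E : Subgroup G) (z a b : G) : Prop := ∃ g ∈ normalizer (E : Set G), g * z = z * g ∧ g * a * g⁻¹ = b

omit [Finite G] in
theorem Rc.trans {E : Subgroup G} {z a b c : G} (h1 : Rc E z a b) (h2 : Rc E z b c) : Rc E z a c := by
  obtain ⟨g, hg, hgz, rfl⟩ := h1
  obtain ⟨g', hg', hgz', rfl⟩ := h2
  refine ⟨g' * g, mul_mem hg' hg, ?_, by group⟩
  rw [mul_assoc, hgz, ← mul_assoc, hgz', mul_assoc]

omit [Finite G] in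
theorem Rc.symm {E : Subgroup G} {z a b : G} (h1 : Rc E z a b) : Rc E z b a := by
  obtain ⟨g, hg, hgz, rfl⟩ := h1
  refine ⟨g⁻¹, inv_mem hg, ?_, by group⟩
  have : Commute g z := hgz
  exact this.inv_left.eq

/-- conjugation by elements of `N(E)` -/
def Tc (E : Subgroup G) (a b : G) : Prop := ∃ g ∈ normalizer (E : Set G), g * a * g⁻¹ = b

omit [Finite G] in
theorem Tc.trans {E : Subgroup G} {a b c : G} (h1 : Tc E a b) (h2 : Tc E b c) : Tc E a c := by
  obtain ⟨g, hg, rfl⟩ := h1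
  obtain ⟨g', hg', rfl⟩ := h2
  exact ⟨g' * g, mul_mem hg' hg, by group⟩

omit [Finite G] in
theorem Tc.symm {E : Subgroup G} {a b : G} (h1 : Tc E a b) : Tc E b a := by
  obtain ⟨g, hg, rfl⟩ := h1
  exact ⟨g⁻¹, inv_mem hg, by group⟩

omit [Finite G] in
theorem Rc.t {E : Subgroup G} {z a b : G} (h1 : Rc E z a b) : Tc E a b := by
  obtain ⟨g, hg, -, e⟩ := h1
  exact ⟨g, hg, e⟩

section

variable (h : BOne (S : Subgroup G) m f u w)
  (hcz : CZP (z1 f) p K₁ K₂ (S : Subgroup G) (Qone f u) (Qtwo f u w))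
include h hcz

theorem quo : Quo (z1 f) p := ⟨hcz.surj, hcz.ker⟩

/-- `p` is injective on `S`. -/
theorem p_inj {a b : G} (ha : a ∈ (S : Subgroup G)) (hb : b ∈ (S : Subgroup G)) (ha' : a ∈ centralizer ({z1 f} : Set G))
    (hb' : b ∈ centralizer ({z1 f} : Set G)) (e : p ⟨a, ha'⟩ = p ⟨b, hb'⟩) : a = b := by
  have h1 : a⁻¹ * b ∈ centralizer ({z1 f} : Set G) := mul_mem (inv_mem ha') hb'
  have h2 : p ⟨a⁻¹ * b, h1⟩ = 1 := by
    have h3 : (⟨a⁻¹ * b, h1⟩ : centralizer ({z1 f} : Set G)) = ⟨a, ha'⟩⁻¹ * ⟨b, hb'⟩ := rfl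
    rw [h3, map_mul, map_inv, e, inv_mul_cancel]
  obtain ⟨k, hk⟩ := S.2 ⟨a⁻¹ * b, mul_mem (inv_mem ha) hb⟩
  have h3 : (a⁻¹ * b) ^ 2 ^ k = 1 := congrArg Subtype.val hk
  have h4 := eq_one_of_two (quo h hcz) h1 h2 h3
  exact (inv_mul_eq_one.1 h4)

theorem self_central (g : X) : g * p (self (z1 f)) = p (self (z1 f)) * g := by
  obtain ⟨g, rfl⟩ := hcz.surj g
  rw [← map_mul, ← map_mul]
  congr 1
  exact Subtype.ext (mem_centralizer_singleton_iff.1 g.2)

theorem h1_cent : h1 f ∈ centralizer ({z1 f} : Set G) := h.S_le_centralizer (h.f_mem_S BOne.goodh1)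

theorem zz : p (self (z1 f)) * p (self (z1 f)) = 1 := by
  rw [← map_mul, ← map_one p]
  congr 1
  exact Subtype.ext (z1_sq h)

theorem z_ne : p (self (z1 f)) ≠ 1 := by
  intro e
  rw [← map_one p] at e
  have hz : z1 f ∈ (S : Subgroup G) := h.f_mem_S BOne.good1
  exact z1_ne h (p_inj h hcz hz (one_mem _) (h.S_le_centralizer hz) (one_mem _) e)

theorem ph_sq : p ⟨h1 f, h1_cent h hcz⟩ * p ⟨h1 f, h1_cent h hcz⟩ = p (self (z1 f)) := by
  rw [← map_mul]
  congr 1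
  exact Subtype.ext (h1_sq h)

theorem ph_mem : p ⟨h1 f, h1_cent h hcz⟩ ∈ K₁ := by
  obtain ⟨h3, h4⟩ := mem_up.1 (hcz.q₁ (h1_mem h))
  exact h4

/-- there is no conjugate of `h1` in `K₁ ∩ K₂` -/
theorem no_conj {g : X} (h1' : g * p ⟨h1 f, h1_cent h hcz⟩ * g⁻¹ ∈ K₁) (h2' : g * p ⟨h1 f, h1_cent h hcz⟩ * g⁻¹ ∈ K₂) :
    False := by
  have hs := ph_sq h hcz
  rcases hcz.inf _ h1' h2' with h3 | h3
  · have h4 : p ⟨h1 f, h1_cent h hcz⟩ = 1 := by
      have : p ⟨h1 f, h1_cent h hcz⟩ = g⁻¹ * (g * p ⟨h1 f, h1_cent h hcz⟩ * g⁻¹) * g := by group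
      rw [this, h3]; group
    rw [h4, one_mul] at hs
    exact z_ne h hcz hs.symm
  · have h4 : p ⟨h1 f, h1_cent h hcz⟩ = p (self (z1 f)) := by
      have : p ⟨h1 f, h1_cent h hcz⟩ = g⁻¹ * (g * p ⟨h1 f, h1_cent h hcz⟩ * g⁻¹) * g := by group
      rw [this, h3, self_central h hcz]; group
    rw [h4, zz h hcz] at hs
    exact z_ne h hcz hs.symm

/-- Elements of `S` swapping `Qone` and `Qtwo` swap `K₁` and `K₂`. -/
theorem swaps {s : G} (hs : s ∈ centralizer ({z1 f} : Set G)) (hs1 : ∀ a ∈ Qone f u, s * a * s⁻¹ ∈ Qtwo f u w) :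
    (∀ a ∈ K₁, p ⟨s, hs⟩ * a * (p ⟨s, hs⟩)⁻¹ ∈ K₂) ∧ ∀ a ∈ K₂, p ⟨s, hs⟩ * a * (p ⟨s, hs⟩)⁻¹ ∈ K₁ := by
  rcases hcz.norm (p ⟨s, hs⟩) with h1 | h1
  · exfalso
    have h2 := h1.1 _ (ph_mem h hcz)
    obtain ⟨h3, h4⟩ := mem_up.1 (hcz.q₂ (hs1 _ (h1_mem h)))
    refine no_conj h hcz h2 ?_
    have e : (⟨s * LFourB.h1 f * s⁻¹, h3⟩ : centralizer ({z1 f} : Set G)) = ⟨s, hs⟩ * ⟨LFourB.h1 f, h1_cent h hcz⟩ * ⟨s, hs⟩⁻¹ :=
      rfl
    rw [e, map_mul, map_mul, map_inv] at h4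
    exact h4
  · exact h1

section Pair

variable (hp : IsPr f u w x y)
include hp

omit hcz in
theorem y_Qone : ∀ a ∈ Qone f u, y * a * y⁻¹ ∈ Qtwo f u w := by
  obtain ⟨p, q, r, hg, rfl⟩ := hp.oy
  exact BOne.conj_mul_mem h.w_Qone (h.tor_Qtwo (h.f_mem_Tor hg))

omit hcz in
theorem y_Qtwo : ∀ a ∈ Qtwo f u w, y * a * y⁻¹ ∈ Qone f u := by
  obtain ⟨p, q, r, hg, rfl⟩ := hp.oy
  exact BOne.conj_mul_mem h.w_Qtwo (h.tor_Qone (h.f_mem_Tor hg))

omit hcz in
theorem EE_cent : EE f x y ≤ centralizer ({z1 f} : Set G) := (EE_le h hp).trans h.S_le_centralizer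

/-- **The local structure.** -/
theorem loc {F : Type*} [Field F] (hl : CZPL (z1 f) F p K₁ K₂ (S : Subgroup G) (Qone f u) (Qtwo f u w)) :
    Loc (z1 f) F p K₁ K₂ (EE f x y) (HH f x) where
  surj := hcz.surj
  ker := hcz.ker
  comm := hcz.comm
  z₁ := hcz.z₁
  z₂ := hcz.z₂
  norm := hcz.norm
  cent := by
    intro g hg h1 h2
    obtain ⟨s, hs, -, -, rfl⟩ := hcz.cent g h1 h2
    -- `p s` has odd order and `s` is a 2-element
    obtain ⟨k, hk⟩ := S.2 ⟨s, hs⟩
    have h3 : (s : G) ^ 2 ^ k = 1 := congrArg Subtype.val hk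
    have h4 : p s ^ 2 ^ k = 1 := by
      rw [← map_pow, ← map_one p]
      congr 1
      exact Subtype.ext h3
    have h5 := orderOf_dvd_of_pow_eq_one h4
    have h6 : (orderOf (p s)).Coprime (2 ^ k) := Nat.Coprime.pow_right _ (Nat.coprime_two_right.2 hg)
    exact orderOf_eq_one_iff.1 (Nat.Coprime.eq_one_of_dvd h6 h5)
  e₁ := hl.e₁
  e₂ := hl.e₂
  le := EE_cent h hp
  swap := by
    intro b hb hbH hbc
    obtain ⟨c, hc, e⟩ := exists_w h hp hb hbH
    refine swaps h hcz hbc ?_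
    rw [e]
    exact BOne.conj_mul_mem h.w_Qone (h.TVp_conj hc).2
  inner := by
    intro b hb hb1 hbz hbc
    -- a decomposition in `S`
    have key : ∃ i ∈ Qone f u, ∃ j ∈ Qtwo f u w, i * i = z1 f ∧ j * j = z1 f ∧ b = i * j := by
      obtain ⟨c, hc, e⟩ := (mem_HH h hp.ox hp.xx).1 hb
      rcases e with rfl | rfl
      · rcases hc with rfl | rfl | rfl | rfl
        · exact absurd rfl hb1
        · exact absurd rfl hbz
        · exact ⟨_, h1_mem h, _, h2_mem h, h1_sq h, h2_sq h, (h1_h2 h).symm⟩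
        · have e1 : z1 f * h1 f = h1 f * z1 f := (h.z1_comm (h.f_mem_S BOne.goodh1)).symm
          refine ⟨z1 f * h1 f, mul_mem ?_ (h1_mem h), _, h2_mem h, ?_, h2_sq h, ?_⟩
          · rw [← h1_sq h]; exact mul_mem (h1_mem h) (h1_mem h)
          · calc z1 f * LFourB.h1 f * (z1 f * LFourB.h1 f) = (z1 f * (LFourB.h1 f * z1 f)) * LFourB.h1 f := by group
              _ = (z1 f * z1 f) * (LFourB.h1 f * LFourB.h1 f) := by rw [← e1]; group
              _ = z1 f := by rw [z1_sq h, one_mul, h1_sq h]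
          · rw [mul_assoc, h1_h2 h]
      · have hox : Ov f (sg u w) (c * x) := by
          obtain ⟨p, r, hg, -, -, rfl⟩ := h.e_Z2_coord hc
          obtain ⟨p', q', r', hg', rfl⟩ := hp.ox
          exact ⟨p + p', p + q', r + r', hg.add hg', by rw [← mul_assoc, h.f_mul _ _ _ _ _ _ hg hg']⟩
        obtain ⟨i, j, e⟩ := exists_iq h hox (EE_sq h hp (HH_le h hp hb))
        exact ⟨_, iq_mem h i, _, jq_mem h j, iq_sq h i, jq_sq h j, e⟩
    obtain ⟨i, hi, j, hj, hi2, hj2, rfl⟩ := key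
    obtain ⟨hi', hi3⟩ := mem_up.1 (hcz.q₁ hi)
    obtain ⟨hj', hj3⟩ := mem_up.1 (hcz.q₂ hj)
    refine ⟨_, hi3, _, hj3, ?_, ?_, ?_⟩
    · rw [← map_mul]
      congr 1
      exact Subtype.ext hi2
    · rw [← map_mul]
      congr 1
      exact Subtype.ext hj2
    · rw [← map_mul]
      rfl

/-- **The element `δ`** of `N(E) ∩ C(z1)`. -/
theorem exists_delta {F : Type*} [Field F] (h2 : (2 : F) ≠ 0) (e₁ : K₁ ≃* Matrix.SpecialLinearGroup (Fin 2) F) :
    ∃ d ∈ normalizer (EE f x y : Set G), d * z1 f = z1 f * d ∧ d * y * d⁻¹ = y ∧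
      ∃ b₁ b₂, (b₁ = z2 f ∨ b₁ = z1 f * z2 f) ∧ (b₂ = x ∨ b₂ = z1 f * x) ∧ d * b₁ * d⁻¹ = b₂ ∧
        d * b₂ * d⁻¹ = b₁ * b₂ := by
  obtain ⟨i, j, hx⟩ := exists_iq h hp.ox hp.xx
  have hy1 := y_Qone h hp
  have hy2 := y_Qtwo h hp
  have hyS := y_mem_S h hp
  have hyc : y ∈ centralizer ({z1 f} : Set G) := h.S_le_centralizer hyS
  have hk1 := swap_eq h hy1 hy2 (cy h hp (Z2_z' _ _)).symm (h1_mem h) (h2_mem h) (h1_h2 h).symm
  have hk2 := swap_eq h hy1 hy2 hp.xy.symm (iq_mem h i) (jq_mem h j) hx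
  set b₁ := h1 f * (y * h1 f * y⁻¹) with hb₁
  set b₂ := iq f u i * (y * iq f u i * y⁻¹) with hb₂
  have hh1c := h1_cent h hcz
  obtain ⟨hic, hiK⟩ := mem_up.1 (hcz.q₁ (iq_mem h i))
  -- the element of `X`
  obtain ⟨d, hdy, hd1, hd2⟩ := KDelta.delta h2 e₁ hcz.comm hcz.z₁ (zz h hcz) (z_ne h hcz) (ph_mem h hcz) hiK
    (ph_sq h hcz) (by
      rw [← map_mul]
      congr 1
      exact Subtype.ext (iq_sq h i)) (by
      rw [← map_mul, ← map_inv, ← map_mul, ← map_inv]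
      congr 1
      exact Subtype.ext (h1_iq h i)) (y := p ⟨y, hyc⟩) (by
      rw [← map_mul, ← map_one p]
      congr 1
      exact Subtype.ext hp.yy) (swaps h hcz hyc hy1).1
  obtain ⟨d, rfl⟩ := hcz.surj d
  have hE := EE_cent h hp
  have hb₁E : b₁ ∈ EE f x y := by
    rcases hk1 with e | e <;> rw [e]
    · exact Z2_mem_EE h hp (Z2_z' _ _)
    · exact Z2_mem_EE h hp (Z2_zz' _ _)
  have hb₂E : b₂ ∈ EE f x y := by
    rcases hk2 with e | e <;> rw [e]
    · exact x_mem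
    · exact mul_mem (Z2_mem_EE h hp (Z2_z _ _)) x_mem
  have p1 : p (d * ⟨b₁, hE hb₁E⟩ * d⁻¹) = p ⟨b₂, hE hb₂E⟩ := by
    simp only [← map_mul, ← map_inv] at hd1
    exact hd1
  have p2 : p (d * ⟨b₂, hE hb₂E⟩ * d⁻¹) = p ⟨b₁ * b₂, hE (mul_mem hb₁E hb₂E)⟩ := by
    simp only [← map_mul, ← map_inv] at hd2
    exact hd2
  have p3 : p (d * ⟨y, hyc⟩ * d⁻¹) = p ⟨y, hyc⟩ := by
    rw [map_mul, map_mul, map_inv, hdy, mul_inv_cancel_right]
  -- the lift
  have hker : Odd (Nat.card p.ker) := ker_odd (quo h hcz)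
  have hA : IsPGroup 2 ((EE f x y).subgroupOf (centralizer ({z1 f} : Set G))) := by
    intro a
    refine ⟨1, ?_⟩
    apply Subtype.ext
    apply Subtype.ext
    change ((a : centralizer ({z1 f} : Set G)) : G) ^ 2 ^ 1 = 1
    rw [pow_one, pow_two]
    exact EE_sq h hp a.2
  obtain ⟨δ, hδ, hδp⟩ := KDelta.exists_norm_lift p hker hA (d := d) (by
    -- it is enough to consider generators
    let B : Subgroup ↥(centralizer ({z1 f} : Set G)) :=
      (((EE f x y).subgroupOf (centralizer ({z1 f} : Set G))).map p).comap (p.comp (MulAut.conj d).toMonoidHom)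
    have hB : ∀ a (ha : a ∈ centralizer ({z1 f} : Set G)) b (hb : b ∈ EE f x y),
        p (d * ⟨a, ha⟩ * d⁻¹) = p ⟨b, hE hb⟩ → (⟨a, ha⟩ : centralizer ({z1 f} : Set G)) ∈ B := by
      intro a ha b hb e
      exact ⟨⟨b, hE hb⟩, hb, e.symm⟩
    have hz1E : z1 f ∈ EE f x y := Z2_mem_EE h hp (Z2_z _ _)
    have q0 : z1 f ∈ B.map (centralizer ({z1 f} : Set G)).subtype := by
      refine ⟨⟨z1 f, hE hz1E⟩, hB _ _ _ hz1E ?_, rfl⟩
      congr 1
      rw [mul_inv_eq_iff_eq_mul]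
      exact Subtype.ext (mem_centralizer_singleton_iff.1 d.2)
    have q1 : b₁ ∈ B.map (centralizer ({z1 f} : Set G)).subtype := ⟨⟨b₁, hE hb₁E⟩, hB _ _ _ hb₂E p1, rfl⟩
    have q2 : b₂ ∈ B.map (centralizer ({z1 f} : Set G)).subtype :=
      ⟨⟨b₂, hE hb₂E⟩, hB _ _ _ (mul_mem hb₁E hb₂E) p2, rfl⟩
    have q3 : y ∈ B.map (centralizer ({z1 f} : Set G)).subtype := ⟨⟨y, hyc⟩, hB _ _ _ y_mem p3, rfl⟩
    have q4 : EE f x y ≤ B.map (centralizer ({z1 f} : Set G)).subtype := by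
      rw [EE, closure_le]
      rintro a (rfl | rfl | rfl | rfl)
      · exact q0
      · rcases hk1 with e | e
        · rw [← e]; exact q1
        · have : z2 f = z1 f * b₁ := by rw [e, ← mul_assoc, z1_sq h, one_mul]
          rw [this]; exact mul_mem q0 q1
      · rcases hk2 with e | e
        · exact e ▸ q2
        · have : a = z1 f * b₂ := by rw [e, ← mul_assoc, z1_sq h, one_mul]
          rw [this]; exact mul_mem q0 q2
      · exact q3
    intro a ha
    obtain ⟨c, hc, e⟩ := q4 ha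
    have e' : c = a := Subtype.ext e
    rw [e'] at hc
    obtain ⟨b, hb, e2⟩ := hc
    exact ⟨b, hb, e2.symm⟩)
  have hδc : (δ : G) * z1 f = z1 f * δ := mem_centralizer_singleton_iff.1 δ.2
  have hδE : (δ : G) ∈ normalizer (EE f x y : Set G) := by
    rw [mem_normalizer_iff]
    intro a
    constructor
    · intro ha
      exact (mem_normalizer_iff.1 hδ ⟨a, hE ha⟩).1 ha
    · intro ha
      have h3 : a ∈ centralizer ({z1 f} : Set G) := by
        have h4 := mul_mem (mul_mem (inv_mem δ.2) (hE ha)) δ.2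
        have h5 : (δ : G)⁻¹ * (δ * a * (δ : G)⁻¹) * δ = a := by group
        rwa [h5] at h4
      exact (mem_normalizer_iff.1 hδ ⟨a, h3⟩).2 ha
  -- the action on `E` is determined by `p`
  have key : ∀ a b (ha : a ∈ EE f x y) (hb : b ∈ EE f x y), p (d * ⟨a, hE ha⟩ * d⁻¹) = p ⟨b, hE hb⟩ →
      (δ : G) * a * (δ : G)⁻¹ = b := by
    intro a b ha hb e
    have h3 : (δ : G) * a * (δ : G)⁻¹ ∈ EE f x y := (mem_normalizer_iff.1 hδE a).1 ha
    refine p_inj h hcz (EE_le h hp h3) (EE_le h hp hb) (hE h3) (hE hb) ?_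
    rw [← e, map_mul, map_mul, map_inv, ← hδp, ← map_inv, ← map_mul, ← map_mul]
    rfl
  refine ⟨δ, hδE, hδc, key _ _ y_mem y_mem p3, b₁, b₂, hk1, hk2, key _ _ hb₁E hb₂E p1,
    key _ _ hb₂E (mul_mem hb₁E hb₂E) p2⟩

/-- `N(E) ∩ C(z1)` normalises `H`. -/
theorem norm_H {F : Type*} [Field F] (hl : CZPL (z1 f) F p K₁ K₂ (S : Subgroup G) (Qone f u) (Qtwo f u w))
    {g : G} (hg : g ∈ normalizer (EE f x y : Set G)) (hgz : g * z1 f = z1 f * g) {a : G} (ha : a ∈ HH f x) :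
    g * a * g⁻¹ ∈ HH f x := by
  by_contra hb
  have L := loc h hcz hp hl
  have hE := EE_cent h hp
  have haE := HH_le h hp ha
  have hbE : g * a * g⁻¹ ∈ EE f x y := (mem_normalizer_iff.1 hg a).1 haE
  have hgc : g ∈ centralizer ({z1 f} : Set G) := mem_centralizer_singleton_iff.2 hgz
  have hsw := (L.swap _ hbE hb (hE hbE)).1
  have e0 : p ⟨g * a * g⁻¹, hE hbE⟩ = p ⟨g, hgc⟩ * p ⟨a, hE haE⟩ * (p ⟨g, hgc⟩)⁻¹ := by
    rw [← map_inv, ← map_mul, ← map_mul]; rfl
  -- `a` normalises `K₁` and `K₂`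
  have hn : (∀ c ∈ K₁, p ⟨a, hE haE⟩ * c * (p ⟨a, hE haE⟩)⁻¹ ∈ K₁) ∧
      ∀ c ∈ K₂, p ⟨a, hE haE⟩ * c * (p ⟨a, hE haE⟩)⁻¹ ∈ K₂ := by
    rcases hcz.norm (p ⟨a, hE haE⟩) with h1 | h1
    · exact h1
    · exfalso
      by_cases ha1 : a = 1
      · have h3 : p ⟨a, hE haE⟩ = 1 := by
          rw [← map_one p]; congr 1; exact Subtype.ext ha1
        refine no_conj h hcz (g := 1) ?_ ?_
        · rw [one_mul, inv_one, mul_one]; exact ph_mem h hcz
        · have := h1.1 _ (ph_mem h hcz)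
          rwa [h3] at this
      by_cases haz : a = z1 f
      · have h3 : p ⟨a, hE haE⟩ = p (self (z1 f)) := by
          congr 1; exact Subtype.ext haz
        have h4 := h1.1 _ (ph_mem h hcz)
        refine no_conj h hcz (g := p (self (z1 f))) ?_ (h3 ▸ h4)
        rw [← self_central h hcz, mul_inv_cancel_right]
        exact ph_mem h hcz
      · obtain ⟨c₁, hc₁, c₂, hc₂, -, -, e⟩ := L.inner a ha ha1 haz (hE haE)
        have h4 := h1.1 _ (ph_mem h hcz)
        refine no_conj h hcz ?_ h4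
        have e1 : p ⟨a, hE haE⟩ * p ⟨LFourB.h1 f, h1_cent h hcz⟩ * (p ⟨a, hE haE⟩)⁻¹ =
            c₁ * p ⟨LFourB.h1 f, h1_cent h hcz⟩ * c₁⁻¹ := by
          have e2 : Commute (p ⟨LFourB.h1 f, h1_cent h hcz⟩) c₂ := hcz.comm _ (ph_mem h hcz) _ hc₂
          rw [e]
          calc c₁ * c₂ * p ⟨LFourB.h1 f, h1_cent h hcz⟩ * (c₁ * c₂)⁻¹ =
              c₁ * (c₂ * p ⟨LFourB.h1 f, h1_cent h hcz⟩) * c₂⁻¹ * c₁⁻¹ := by group
            _ = _ := by rw [← e2.eq]; group
        rw [e1]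
        exact mul_mem (mul_mem hc₁ (ph_mem h hcz)) (inv_mem hc₁)
  -- an element of `K₁` in both
  have key : ∀ c ∈ K₁, (p ⟨g, hgc⟩)⁻¹ * c * p ⟨g, hgc⟩ ∈ K₁ ∨ (p ⟨g, hgc⟩)⁻¹ * c * p ⟨g, hgc⟩ ∈ K₂ := by
    intro c hc
    rcases hcz.norm (p ⟨g, hgc⟩)⁻¹ with h1 | h1
    · left; have := h1.1 c hc; rwa [inv_inv] at this
    · right; have := h1.1 c hc; rwa [inv_inv] at this
  have hph := ph_mem h hcz
  have hbb := hsw _ hph
  refine no_conj h hcz ?_ hbb
  rw [e0]
  have e5 : ∀ k c : X, k * p ⟨a, hE haE⟩ * k⁻¹ * c * (k * p ⟨a, hE haE⟩ * k⁻¹)⁻¹ =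
      k * (p ⟨a, hE haE⟩ * (k⁻¹ * c * k) * (p ⟨a, hE haE⟩)⁻¹) * k⁻¹ := fun k c => by group
  rw [e5]
  rcases hcz.norm (p ⟨g, hgc⟩) with h1 | h1
  · rcases hcz.norm (p ⟨g, hgc⟩)⁻¹ with h3 | h3
    · refine h1.1 _ (hn.1 _ ?_)
      have := h3.1 _ hph; rwa [inv_inv] at this
    · exfalso
      have h4 := h3.1 _ hph
      rw [inv_inv] at h4
      have h5 := h1.2 _ h4
      have e6 : p ⟨g, hgc⟩ * ((p ⟨g, hgc⟩)⁻¹ * p ⟨LFourB.h1 f, h1_cent h hcz⟩ * p ⟨g, hgc⟩) * (p ⟨g, hgc⟩)⁻¹ =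
          1 * p ⟨LFourB.h1 f, h1_cent h hcz⟩ * 1⁻¹ := by group
      rw [e6] at h5
      refine no_conj h hcz (g := 1) ?_ h5
      rw [one_mul, inv_one, mul_one]; exact hph
  · rcases hcz.norm (p ⟨g, hgc⟩)⁻¹ with h3 | h3
    · exfalso
      have h4 := h3.1 _ hph
      rw [inv_inv] at h4
      have h5 := h1.1 _ h4
      have e6 : p ⟨g, hgc⟩ * ((p ⟨g, hgc⟩)⁻¹ * p ⟨LFourB.h1 f, h1_cent h hcz⟩ * p ⟨g, hgc⟩) * (p ⟨g, hgc⟩)⁻¹ =
          1 * p ⟨LFourB.h1 f, h1_cent h hcz⟩ * 1⁻¹ := by group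
      rw [e6] at h5
      refine no_conj h hcz (g := 1) ?_ h5
      rw [one_mul, inv_one, mul_one]; exact hph
    · refine h1.2 _ (hn.2 _ ?_)
      have := h3.1 _ hph; rwa [inv_inv] at this

end Pair

omit hcz in
theorem Z2_cases {a b : G} (ha : Z2 (z1 f) (z2 f) a) (ha1 : a ≠ 1) (haz : a ≠ z1 f)
    (hb : b = z2 f ∨ b = z1 f * z2 f) : a = b ∨ a = z1 f * b := by
  have hz : z1 f * (z1 f * z2 f) = z2 f := by rw [← mul_assoc, z1_sq h, one_mul]
  rcases ha with rfl | rfl | rfl | rfl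
  · exact absurd rfl ha1
  · exact absurd rfl haz
  · rcases hb with rfl | rfl
    · exact Or.inl rfl
    · exact Or.inr hz.symm
  · rcases hb with rfl | rfl
    · exact Or.inr rfl
    · exact Or.inl rfl

/-- **The orbits.** -/
theorem orb {F : Type*} [Field F] (hl : CZPL (z1 f) F p K₁ K₂ (S : Subgroup G) (Qone f u) (Qtwo f u w))
    (h2 : (2 : F) ≠ 0) {n : G} (hc : Conf (S : Subgroup G) m f u w n x y) : Orb (z1 f) (EE f x y) (HH f x) := by
  have hp : IsPr f u w x y := ⟨hc.x_ov, hc.y_ov, hc.x_x, hc.y_y, hc.x_y⟩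
  obtain ⟨e₁⟩ := hl.e₁
  obtain ⟨d, hd, hdz, hdy, b₁, b₂, hb₁, hb₂, hd1, hd2⟩ := exists_delta h hcz hp h2 e₁
  have hz1 := Z2_z (z1 f) (z2 f)
  have hz2 := Z2_z' (z1 f) (z2 f)
  have hz12 := Z2_zz' (z1 f) (z2 f)
  have hb₁Z : Z2 (z1 f) (z2 f) b₁ := by rcases hb₁ with rfl | rfl; exacts [hz2, hz12]
  have hb₂x : ∃ c, Z2 (z1 f) (z2 f) c ∧ b₂ = c * x := by
    rcases hb₂ with rfl | rfl
    · exact ⟨1, Z2_one _ _, (one_mul _).symm⟩
    · exact ⟨_, hz1, rfl⟩
  -- torus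
  have tr : ∀ a b c c' : G, a ∉ Tor f → a ∈ EE f x y → Z2 (z1 f) (z2 f) c → Z2 (z1 f) (z2 f) c' →
      a = c * b → Rc (EE f x y) (z1 f) a (c' * b) := by
    intro a b c c' haT haE hc hc' e
    obtain ⟨t, ht, htn, e1⟩ := tor_tr h hp haE haT (_root_.Cfsg.Agent.LFourB.KPair.Z2_mul h hc' hc)
    refine ⟨t, htn, h.Tor_comm ht (Z2_mem_Tor h hz1), ?_⟩
    rw [e1, e, mul_assoc, ← mul_assoc c, Z2_sq h hc, one_mul]
  have hT : ∀ c b, Z2 (z1 f) (z2 f) c → b ∉ Tor f → c * b ∉ Tor f := by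
    intro c b hc hb hcb
    exact hb (((Tor f).mul_mem_cancel_left (Z2_mem_Tor h hc)).1 hcb)
  have hxT := x_notin_Tor h hp
  have hyT := y_notin_Tor h hp
  have hxyT := xy_notin_Tor h hp
  have hxE : x ∈ EE f x y := x_mem
  have hyE : y ∈ EE f x y := y_mem
  have hZE : ∀ {c}, Z2 (z1 f) (z2 f) c → c ∈ EE f x y := fun hc => Z2_mem_EE h hp hc
  have rd : ∀ {a b : G}, d * a * d⁻¹ = b → Rc (EE f x y) (z1 f) a b := fun e => ⟨d, hd, hdz, e⟩
  obtain ⟨c', hc', hb₂x⟩ := hb₂x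
  -- cosets of `x`
  have rx : ∀ c, Z2 (z1 f) (z2 f) c → Rc (EE f x y) (z1 f) (c * x) b₂ := by
    intro c hcc
    rw [hb₂x]
    exact tr _ x c c' (hT _ _ hcc hxT) (mul_mem (hZE hcc) hxE) hcc hc' rfl
  have to_b2 : ∀ a ∈ HH f x, a ≠ 1 → a ≠ z1 f → Rc (EE f x y) (z1 f) a b₂ := by
    intro a ha ha1 haz
    obtain ⟨c, hcc, rfl | rfl⟩ := (mem_HH h hp.ox hp.xx).1 ha
    · rcases Z2_cases h hcc ha1 haz hb₁ with e | e
      · rw [e]; exact rd hd1
      · refine (rd (b := z1 f * b₂) ?_).trans ?_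
        · rw [e, ← hd1]
          calc d * (z1 f * b₁) * d⁻¹ = (d * z1 f) * b₁ * d⁻¹ := by group
            _ = z1 f * (d * b₁ * d⁻¹) := by rw [hdz]; group
        · rw [hb₂x, ← mul_assoc, ← hb₂x]
          exact rx _ (_root_.Cfsg.Agent.LFourB.KPair.Z2_mul h hz1 hc')
    · exact rx c hcc
  have ry : ∀ c, Z2 (z1 f) (z2 f) c → Rc (EE f x y) (z1 f) (c * y) y := by
    intro c hcc
    have := tr _ y c 1 (hT _ _ hcc hyT) (mul_mem (hZE hcc) hyE) hcc (Z2_one _ _) rfl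
    rwa [one_mul] at this
  have rxy : ∀ c, Z2 (z1 f) (z2 f) c → Rc (EE f x y) (z1 f) (c * (x * y)) y := by
    intro c hcc
    refine (tr _ (x * y) c c' (hT _ _ hcc hxyT) (mul_mem (hZE hcc) (mul_mem hxE hyE)) hcc hc' rfl).trans ?_
    rw [← mul_assoc, ← hb₂x]
    have h3 : Rc (EE f x y) (z1 f) (b₁ * y) (b₂ * y) := rd (by
      calc d * (b₁ * y) * d⁻¹ = (d * b₁ * d⁻¹) * (d * y * d⁻¹) := by group
        _ = _ := by rw [hd1, hdy])
    exact h3.symm.trans (ry _ hb₁Z)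
  have tn : ∀ {a b : G}, n * a * n⁻¹ = b → Tc (EE f x y) a b := fun e => ⟨n, hc.n_E, e⟩
  have t2 : Tc (EE f x y) (z2 f) (z1 f) := (tn hc.n_z2).trans (tn hc.n_z3)
  have t3 : Tc (EE f x y) (z1 f * z2 f) (z1 f) := by
    rw [h.e_z3_eq]
    exact tn hc.n_z3
  have tb₁ : Tc (EE f x y) b₁ (z1 f) := by
    rcases hb₁ with rfl | rfl
    · exact t2
    · exact t3
  have tb₂ : Tc (EE f x y) b₂ (z1 f) := (rd hd1).t.symm.trans tb₁
  have tx : Tc (EE f x y) x (z1 f) := by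
    have := (rx 1 (Z2_one _ _)).t.trans tb₂
    rwa [one_mul] at this
  have ty : Tc (EE f x y) y (z1 f) := (tn hc.n_x).symm.trans tx
  refine ⟨elem h hp, card_EE h hp, HH_le h hp, card_HH h hp, Z2_mem_HH hz1, z1_ne h, ?_, ?_, ?_, ?_⟩
  · intro a ha ha1
    obtain ⟨c, hcc, rfl | rfl | rfl | rfl⟩ := (mem_EE h hp).1 ha
    · rcases hcc with rfl | rfl | rfl | rfl
      · exact absurd rfl ha1
      · exact ⟨1, one_mem _, by group⟩
      · exact t2
      · exact t3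
    · exact (rx c hcc).t.trans tb₂
    · exact (ry c hcc).t.trans ty
    · exact (rxy c hcc).t.trans ty
  · intro g hg hgz a ha
    exact norm_H h hcz hp hl hg hgz ha
  · intro a ha ha1 haz b hb hb1 hbz
    exact (to_b2 a ha ha1 haz).trans (to_b2 b hb hb1 hbz).symm
  · intro a ha haH b hb hbH
    have k : ∀ a ∈ EE f x y, a ∉ HH f x → Rc (EE f x y) (z1 f) a y := by
      intro a ha haH
      obtain ⟨c, hcc, rfl | rfl⟩ := not_mem_HH h hp ha haH
      · exact ry c hcc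
      · exact rxy c hcc
    exact (k a ha haH).trans (k b hb hbH).symm

end

omit [Finite G] in
theorem isPr_of_conf {P : Subgroup G} {n : G} (hc : Conf P m f u w n x y) : IsPr f u w x y :=
  ⟨hc.x_ov, hc.y_ov, hc.x_x, hc.y_y, hc.x_y⟩

/-- **The instance of `Loc`** for type B1. -/
theorem locB (h : BOne (S : Subgroup G) m f u w) {F : Type*} [Field F]
    (hl : CZPL (z1 f) F p K₁ K₂ (S : Subgroup G) (Qone f u) (Qtwo f u w)) {n : G}
    (hc : Conf (S : Subgroup G) m f u w n x y) : Loc (z1 f) F p K₁ K₂ (EE f x y) (HH f x) :=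
  loc h hl.toCZP (isPr_of_conf hc) hl

/-- **The instance of `Orb`** for type B1. -/
theorem orbB (h : BOne (S : Subgroup G) m f u w) {F : Type*} [Field F] (h2 : (2 : F) ≠ 0)
    (hl : CZPL (z1 f) F p K₁ K₂ (S : Subgroup G) (Qone f u) (Qtwo f u w)) {n : G}
    (hc : Conf (S : Subgroup G) m f u w n x y) : Orb (z1 f) (EE f x y) (HH f x) :=
  orb h hl.toCZP hl h2 hc

end Cfsg.Agent.LFourB.KInstB
end

-- part: LFourB/EssEight
section
/-!
# The beginning of type B1 in one theorem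

`start`: in a simple group with Sylow 2-subgroup of type `PSL 4 q`, `q = 1 mod 8`, after replacing `u` by `x4 u` if
necessary: the element `d`, fusion of the involutions, the subgroup of index two of `C(z1)`.
-/

set_option autoImplicit false

namespace Cfsg.Agent.LFourB.EssEight

open Subgroup Cfsg.Agent.LFourB.EssHalf Cfsg.Agent.LFourB.EssOne
open Cfsg.Agent.LFourB.EssTwo Cfsg.Agent.LFourB.EssThree Cfsg.Agent.LFourB.EssFour Cfsg.Agent.LFourB.EssFive
open Cfsg.Agent.LFourB.EssSix Cfsg.Agent.LFourB.EssSeven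

section

variable {G : Type*} [Group G] [Finite G] {S : Sylow 2 G} {m : ℕ} {f : R m → R m → R m → G} {u w : G}

omit [Finite G] in
/-- the frame used for the closing -/
theorem exists_DD (h : BOne (S : Subgroup G) m f u w) (hF : Full (Sx f u) (Ru f u) f) {d : G} (hd : DData f u d) :
    ∃ d', DD f u d' 0 := by
  have hh := half h
  have hy : Good (M m) (-M m) 0 := ⟨0, by ring⟩
  have hyT : f (M m) (-M m) 0 ∈ Tor f := h.f_mem_Tor hy
  set y := f (M m) (-M m) 0 with hyd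
  have hyh : y * h1 f = h1 f * y := h.Tor_comm hyT hh.h1_mem
  have hyB : ∀ b ∈ Bu f, y * b = b * y := fun b hb => h.Tor_comm hyT (h.Bu_le hb)
  -- `y (u x1) y⁻¹`
  have k1 : y * (u * x1 f) * y⁻¹ = f 0 0 (M m) * u := by
    have hg8 : Good (2 * M m) 0 (-M m) := ⟨0, by ring⟩
    rw [EssFive.u_x1 hh, hyd, h.e_conj_u hy BOne.goodx2, ← mul_assoc, h.f_mul _ _ _ _ _ _ hg8 BOne.goodx2]
    (with_reducible congr 2)
    · linear_combination two_mul_M (m := m) + two_mul_N (m := m)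
    · ring
    · linear_combination -two_mul_M (m := m)
  refine ⟨y * d * y⁻¹, Or.inl rfl, ?_, ?_, ?_, Or.inl ?_, ?_⟩
  · have e1 : y * d * y⁻¹ = MulAut.conj y d := rfl
    rw [e1, MulEquiv.orderOf_eq]
    exact hd.odd
  · intro b hb
    have c1 : Commute y b := hyB b hb
    have c2 : Commute d b := hd.comm b hb
    exact ((c1.mul_left c2).mul_left c1.inv_left).eq
  · have e1 : y * d * y⁻¹ * h1 f * (y * d * y⁻¹)⁻¹ = y * (d * (y⁻¹ * h1 f * y) * d⁻¹) * y⁻¹ := by group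
    have e2 : y⁻¹ * h1 f * y = h1 f := by rw [mul_assoc, ← hyh, inv_mul_cancel_left]
    rw [e1, e2, hd.one, k1]
  · have e1 : y * d * y⁻¹ * (f 0 0 (M m) * u) * (y * d * y⁻¹)⁻¹ = y * (d * (u * x1 f) * d⁻¹) * y⁻¹ := by
      rw [← k1]; group
    have e2 : y * (h1 f * (u * x1 f)) * y⁻¹ = h1 f * (y * (u * x1 f) * y⁻¹) := by
      rw [← mul_assoc, hyh]; group
    rw [e1, hd.two, e2, k1]
  · intro c hc hch hcu n hn
    refine mem_Bu_of_centralizer hh (EX_Ru hh) hF (c := c) ?_ hn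
    intro e he
    have hle : Ru f u ≤ centralizer {c} := by
      refine sup_le ?_ ?_
      · intro b hb
        rw [mem_centralizer_singleton_iff]
        exact (hc b hb).symm
      · rw [closure_le]
        rintro x (rfl | rfl)
        · exact mem_centralizer_singleton_iff.2 hch.symm
        · exact mem_centralizer_singleton_iff.2 hcu.symm
    exact (mem_centralizer_singleton_iff.1 (hle he)).symm

omit [Finite G] in
/-- simple groups have no homomorphism onto a group of order two -/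
theorem hom_eq_one [IsSimpleGroup G] (h : BOne (S : Subgroup G) m f u w) (φ : G →* ℤˣ) (g : G) : φ g = 1 := by
  rcases φ.normal_ker.eq_bot_or_eq_top with hk | hk
  · exfalso
    apply h.u_not_mem_Tor
    have hc : ∀ a b : G, a * b = b * a := by
      intro a b
      refine (MonoidHom.ker_eq_bot_iff φ).1 hk ?_
      rw [map_mul, map_mul, mul_comm]
    refine h.mem_Tor_of_comm h.u_mem fun i => hc _ _
  · have : g ∈ φ.ker := by rw [hk]; exact mem_top g
    exact this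

/-- **The beginning of type B1.** -/
theorem start [IsSimpleGroup G] (h : BOne (S : Subgroup G) m f u w) :
    ∃ u', (u' = u ∨ u' = x4 f * u) ∧ BOne (S : Subgroup G) m f u' w ∧ Full (Sx f u') (Ru f u') f ∧
      (∃ d, d * x4 f = x4 f * d ∧ DData f u' d) ∧ (∃ d, DD f u' d 0) ∧
      (∃ g : G, g * z1 f * g⁻¹ = z2 f) ∧
      (∀ ρ : Equiv.Perm (Fin 4), ∃ n ∈ normalizer (Tor f : Set G), ∀ i, n * X f i * n⁻¹ = X f (ρ i)) ∧
      (∀ n ∈ normalizer (Tor f : Set G), (∀ i, n * X f i = X f i * n) → ∀ t ∈ Tor f, n * t = t * n) ∧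
      (∃ H0 : Subgroup G, H0 ≤ centralizer ({z1 f} : Set G) ∧ H0.relIndex (centralizer ({z1 f} : Set G)) = 2 ∧
        centralizer ({z1 f} : Set G) ≤ normalizer (H0 : Set G) ∧ (S : Subgroup G) ⊓ H0 = TVp f u' w) := by
  obtain ⟨u', hu', h', hF, d, hdx, hd⟩ := main h (fun φ => hom_eq_one h φ u)
  obtain ⟨k1, k2, k3⟩ := h'.fus_main hd.comm hd.one hd.two
  exact ⟨u', hu', h', hF, ⟨d, hdx, hd⟩, exists_DD h' hF hd, k1, k2, fun n hn hX => h'.fus_cent hn hX, k3⟩

end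

end Cfsg.Agent.LFourB.EssEight
end

-- part: LFourB/CentXCmpAbs
section
/-!
# Comparing components seen through two homomorphisms with odd kernel

`card_eq`: `p : Y → X`, `p' : Y → X'` with kernels of odd order, `K ≤ p(Y)` perfect and normalised by `p(Y)`, `A ≤ p'(Y)`
containing all perfect subgroups of `p'(Y)` and without proper normal perfect subgroups. Then `|K| = |A|`.
-/

set_option autoImplicit false

namespace Cfsg.Agent.LFourB.CentXCmpAbs

open Subgroup Cfsg.Agent.LFourA.KlOAbs Cfsg.Agent.TwoFusion.PerfCore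

/-- The normal perfect subgroups of `A` are `⊥` and `A`. -/
def NoPerf {X : Type*} [Group X] (A : Subgroup X) : Prop :=
  ∀ N : Subgroup X, N ≤ A → (∀ a ∈ A, ∀ x ∈ N, a * x * a⁻¹ ∈ N) → ⁅N, N⁆ = N → N = ⊥ ∨ N = A

section

variable {Y X X' : Type*} [Group Y] [Group X] [Group X'] [Finite Y]

theorem card_eq {p : Y →* X} {p' : Y →* X'} (hk : Odd (Nat.card p.ker)) (hk' : Odd (Nat.card p'.ker))
    {K : Subgroup X} (hK : ⁅K, K⁆ = K) (hne : K ≠ ⊥) (hle : K ≤ p.range)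
    (hnorm : ∀ y : Y, ∀ x ∈ K, p y * x * (p y)⁻¹ ∈ K) (hKo : NoOdd K)
    {A : Subgroup X'} (hA : A ≤ p'.range) (hmax : ∀ D : Subgroup X', D ≤ p'.range → ⁅D, D⁆ = D → D ≤ A)
    (hAo : NoOdd A) (hAn : NoPerf A) : Nat.card K = Nat.card A := by
  have hn : (K.comap p).Normal := by
    constructor
    intro x hx g
    rw [mem_comap] at hx ⊢
    rw [map_mul, map_mul, map_inv]
    exact hnorm g _ hx
  have hE : (perf (K.comap p)).Normal := perf_normal hn
  set E := perf (K.comap p) with hEdef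
  have hEK : E.map p = K := by
    rw [hEdef, map_perf, map_comap_eq, inf_eq_right.2 hle, perf_eq_self hK]
  have hEp : ⁅E.map p', E.map p'⁆ = E.map p' := map_perfect (perf_perfect _) p'
  have hEle : E.map p' ≤ A := hmax _ (by rw [MonoidHom.range_eq_map]; exact map_mono le_top) hEp
  have hEn : ∀ a ∈ A, ∀ x ∈ E.map p', a * x * a⁻¹ ∈ E.map p' := by
    rintro a ha _ ⟨x, hx, rfl⟩
    obtain ⟨y, rfl⟩ := hA ha
    refine ⟨y * x * y⁻¹, hE.conj_mem x hx y, ?_⟩
    rw [map_mul, map_mul, map_inv]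
  have hEA : E.map p' = A := by
    rcases hAn (E.map p') hEle hEn hEp with h | h
    · exfalso
      apply hne
      apply hKo K le_rfl (fun a ha x hx => mul_mem (mul_mem ha hx) (inv_mem ha))
      have h1 : E ≤ p'.ker := (Subgroup.map_eq_bot_iff _).1 h
      have h2 : Nat.card K ∣ Nat.card E := by
        rw [← hEK]; exact card_map_dvd _ _
      exact odd_of_dvd (h2.trans (card_dvd_of_le h1)) hk'
    · exact h
  have r1 : (p.comp E.subtype).range = K := by
    rw [MonoidHom.range_comp, range_subtype]; exact hEK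
  have r2 : (p'.comp E.subtype).range = A := by
    rw [MonoidHom.range_comp, range_subtype]; exact hEA
  have hker : (p.comp E.subtype).ker = (p'.comp E.subtype).ker := by
    ext ⟨x, hx⟩
    rw [MonoidHom.mem_ker, MonoidHom.mem_ker]
    exact ⟨fun e => ker_le p p' hk E hEA hAo hx e, fun e => ker_le p' p hk' E hEK hKo hx e⟩
  rw [← r1, ← r2, ← Subgroup.index_ker, ← Subgroup.index_ker, hker]

end

section sl

local notation "SL2" => Matrix.SpecialLinearGroup (Fin 2)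

variable {F : Type*} [Field F] [Finite F] {X : Type*} [Group X] {A : Subgroup X}

theorem card_of_sl (e : A ≃* SL2 F) : Nat.card A = Nat.card F * (Nat.card F ^ 2 - 1) := by
  rw [Nat.card_congr e.toEquiv, card_sl]

theorem sl_cases (h3 : 3 < Nat.card F) (e : A ≃* SL2 F) {N : Subgroup X} (hN : N ≤ A)
    (hnorm : ∀ a ∈ A, ∀ x ∈ N, a * x * a⁻¹ ∈ N) :
    (∀ x ∈ N, x * x = 1) ∨ N = A := by
  have := Fintype.ofFinite F
  have hn : (N.subgroupOf A).Normal := by
    constructor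
    intro x hx g
    exact hnorm g g.2 x hx
  have hn' : ((N.subgroupOf A).map e.toMonoidHom).Normal := hn.map _ e.surjective
  rcases Cfsg.Agent.SylowSp4.SLGen.normal_cases (by rwa [← Nat.card_eq_fintype_card]) _ hn' with h | h
  · left
    intro x hx
    have h1 : e ⟨x, hN hx⟩ ∈ Subgroup.center (SL2 F) := h ⟨⟨x, hN hx⟩, hx, rfl⟩
    have h2 : e (⟨x, hN hx⟩ * ⟨x, hN hx⟩) = 1 := by
      rw [map_mul]
      rcases Cfsg.Agent.ClassicalGeometry.PSL2Basic.mem_center_SL2_iff.1 h1 with h2 | h2 <;> rw [h2]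
      · rw [mul_one]
      · rw [neg_mul_neg, mul_one]
    rw [map_eq_one_iff e e.injective] at h2
    exact congrArg Subtype.val h2
  · right
    refine le_antisymm hN fun x hx => ?_
    have h1 : e ⟨x, hx⟩ ∈ (N.subgroupOf A).map e.toMonoidHom := by rw [h]; trivial
    obtain ⟨y, hy, e1⟩ := h1
    have h2 : y = ⟨x, hx⟩ := e.injective e1
    rw [h2] at hy
    exact hy

theorem sl_noOdd (h2 : (2 : F) ≠ 0) (h3 : 3 < Nat.card F) (e : A ≃* SL2 F) : NoOdd A := by
  intro N hN hnorm hodd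
  rcases sl_cases h3 e hN hnorm with h | h
  · rw [eq_bot_iff]
    intro x hx
    rw [mem_bot]
    have h4 : orderOf (⟨x, hx⟩ : N) ∣ 2 := by
      rw [orderOf_dvd_iff_pow_eq_one, pow_two]
      exact Subtype.ext (h x hx)
    have h5 : orderOf (⟨x, hx⟩ : N) ∣ Nat.card N := _root_.orderOf_dvd_natCard _
    have h6 : orderOf (⟨x, hx⟩ : N) = 1 := Nat.Coprime.eq_one_of_dvd
      (Nat.Coprime.coprime_dvd_left h5 (Nat.coprime_two_right.2 hodd)) h4
    exact congrArg Subtype.val (orderOf_eq_one_iff.1 h6)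
  · exfalso
    rw [h, card_of_sl e] at hodd
    have h4 : Nat.card F % 2 = 1 := Cfsg.Agent.Lib.PSL2Torus.odd_card h2
    obtain ⟨k, hk⟩ : ∃ k, Nat.card F = 2 * k + 1 := ⟨Nat.card F / 2, by omega⟩
    rw [hk] at hodd
    have h5 : (2 * k + 1) ^ 2 - 1 = 2 * (2 * (k * (k + 1))) := by
      rw [Nat.sub_eq_iff_eq_add (Nat.one_le_pow _ _ (by omega))]
      ring
    rw [h5] at hodd
    exact (Nat.not_even_iff_odd.2 hodd) ((even_two_mul _).mul_left _)

theorem sl_noPerf (h3 : 3 < Nat.card F) (e : A ≃* SL2 F) : NoPerf A := by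
  intro N hN hnorm hperf
  rcases sl_cases h3 e hN hnorm with h | h
  · left
    rw [← hperf, eq_bot_iff, commutator_le]
    intro x hx y hy
    rw [mem_bot, commutatorElement_eq_one_iff_mul_comm]
    have h1 := h _ (mul_mem hx hy)
    have hx' : x⁻¹ = x := inv_eq_of_mul_eq_one_left (h x hx)
    have hy' : y⁻¹ = y := inv_eq_of_mul_eq_one_left (h y hy)
    have h4 : (x * y)⁻¹ = x * y := inv_eq_of_mul_eq_one_left h1
    rw [← h4, mul_inv_rev, hx', hy']
  · exact Or.inr h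

end sl

section seven

variable {X : Type*} [Group X] {K : Subgroup X} {z : X}

theorem card_seven : Nat.card (alternatingGroup (Fin 7)) = 2520 := by
  rw [nat_card_alternatingGroup, Nat.card_eq_fintype_card, Fintype.card_fin]
  rfl

/-- coverings of `A₇` -/
theorem seven_noOdd (φ : K →* alternatingGroup (Fin 7)) (hφ : Function.Surjective φ)
    (hker : ∀ x : K, φ x = 1 ↔ (x : X) = 1 ∨ (x : X) = z) (hz : z * z = 1) : NoOdd K := by
  intro N hN hnorm hodd
  have hn : (N.subgroupOf K).Normal := by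
    constructor
    intro x hx g
    exact hnorm g g.2 x hx
  have hn' : ((N.subgroupOf K).map φ).Normal := hn.map _ hφ
  have hsimple : IsSimpleGroup (alternatingGroup (Fin 7)) := alternatingGroup.isSimpleGroup (by simp)
  rcases hsimple.eq_bot_or_eq_top_of_normal _ hn' with h | h
  · rw [eq_bot_iff]
    intro x hx
    rw [mem_bot]
    have h1 : φ ⟨x, hN hx⟩ = 1 := by
      have : φ ⟨x, hN hx⟩ ∈ (N.subgroupOf K).map φ := ⟨⟨x, hN hx⟩, hx, rfl⟩
      rwa [h, mem_bot] at this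
    rcases (hker _).1 h1 with h2 | h2
    · exact h2
    · have h3 : x = z := h2
      have h4 : orderOf (⟨x, hx⟩ : N) ∣ 2 := by
        rw [orderOf_dvd_iff_pow_eq_one, pow_two]
        refine Subtype.ext ?_
        change x * x = 1
        rw [h3, hz]
      have h5 : orderOf (⟨x, hx⟩ : N) ∣ Nat.card N := _root_.orderOf_dvd_natCard _
      have h6 : orderOf (⟨x, hx⟩ : N) = 1 := Nat.Coprime.eq_one_of_dvd
        (Nat.Coprime.coprime_dvd_left h5 (Nat.coprime_two_right.2 hodd)) h4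
      exact congrArg Subtype.val (orderOf_eq_one_iff.1 h6)
  · exfalso
    have h1 : Nat.card ((N.subgroupOf K).map φ) ∣ Nat.card (N.subgroupOf K) := card_map_dvd _ _
    rw [h, Nat.card_congr Subgroup.topEquiv.toEquiv, card_seven] at h1
    have h2 : Nat.card (N.subgroupOf K) = Nat.card N := Nat.card_congr (subgroupOfEquivOfLe hN).toEquiv
    rw [h2] at h1
    have h3 := odd_of_dvd h1 hodd
    revert h3
    decide

theorem seven_card (φ : K →* alternatingGroup (Fin 7)) (hφ : Function.Surjective φ)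
    (hker : ∀ x : K, φ x = 1 ↔ (x : X) = 1 ∨ (x : X) = z) (hz1 : z ≠ 1) (hzK : z ∈ K) :
    Nat.card K = 5040 := by
  rw [← Subgroup.card_mul_index φ.ker, Subgroup.index_ker, MonoidHom.range_eq_top.2 hφ,
    Nat.card_congr Subgroup.topEquiv.toEquiv, card_seven]
  have h1 : Nat.card φ.ker = 2 := by
    rw [Nat.card_eq_two_iff]
    refine ⟨1, ⟨⟨z, hzK⟩, (hker _).2 (Or.inr rfl)⟩, fun h => hz1 ?_, ?_⟩
    · exact (congrArg (fun x : φ.ker => ((x : K) : X)) h).symm
    · rw [Set.eq_univ_iff_forall]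
      intro x
      rcases (hker x).1 x.2 with h | h
      · left
        exact Subtype.ext (Subtype.ext h)
      · right
        rw [Set.mem_singleton_iff]
        exact Subtype.ext (Subtype.ext h)
  rw [h1]

theorem seven_ne {n : ℕ} (h : 5040 = n * (n ^ 2 - 1)) : False := by
  rcases Nat.lt_or_ge n 18 with h1 | h1
  · interval_cases n <;> omega
  · have h2 : 18 ^ 2 ≤ n ^ 2 := Nat.pow_le_pow_left h1 2
    have h3 : 18 * (18 ^ 2 - 1) ≤ n * (n ^ 2 - 1) := Nat.mul_le_mul h1 (by omega)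
    omega

end seven

end Cfsg.Agent.LFourB.CentXCmpAbs
end

-- part: LFourB/CentXModel
section
/-!
# The component `SL(2,F)` in the centraliser of an involution of `PSL(3,F)`, `PSU(3,q)`
-/

set_option autoImplicit false

namespace Cfsg.Agent.LFourB.CentXModel

open Subgroup Matrix Cfsg.Agent.TwoFusion.PerfCore

local notation "SL2" => Matrix.SpecialLinearGroup (Fin 2)

/-- The perfect core of the centraliser of an involution is isomorphic to `SL(2,F)`. -/
def HasStd (Γ : Type*) [Group Γ] (F : Type*) [Field F] : Prop :=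
  ∀ s t : Γ, s * s = 1 → t * t = 1 → s ≠ 1 → t ≠ 1 → s ≠ t → s * t = t * s →
    ∃ A : Subgroup Γ, (∀ a ∈ A, a * s = s * a) ∧
      (∀ D : Subgroup Γ, ⁅D, D⁆ = D → (∀ d ∈ D, d * s = s * d) → D ≤ A) ∧ Nonempty (A ≃* SL2 F)

theorem HasStd.congr {Γ Γ' : Type*} [Group Γ] [Group Γ'] {F : Type*} [Field F] (e : Γ ≃* Γ') (h : HasStd Γ' F) :
    HasStd Γ F := by
  intro s t hs ht hs1 ht1 hst hc
  obtain ⟨A, hA, hmax, ⟨i⟩⟩ := h (e s) (e t) (by rw [← map_mul, hs, map_one]) (by rw [← map_mul, ht, map_one])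
    (by rwa [Ne, map_eq_one_iff e e.injective]) (by rwa [Ne, map_eq_one_iff e e.injective])
    (fun h => hst (e.injective h)) (by rw [← map_mul, ← map_mul, hc])
  refine ⟨A.comap e.toMonoidHom, fun a ha => ?_, fun D hD hDs x hx => ?_, ⟨?_⟩⟩
  · apply e.injective
    rw [map_mul, map_mul]
    exact hA _ ha
  · refine hmax (D.map e.toMonoidHom) (map_perfect hD _) ?_ ⟨x, hx, rfl⟩
    rintro _ ⟨d, hd, rfl⟩
    change e d * e s = e s * e d
    rw [← map_mul, ← map_mul, hDs d hd]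
  · refine MulEquiv.trans (MulEquiv.ofBijective
      ({ toFun := fun x => ⟨e x, x.2⟩
         map_one' := Subtype.ext (map_one e)
         map_mul' := fun a b => Subtype.ext (map_mul e _ _) } : A.comap e.toMonoidHom →* A) ⟨?_, ?_⟩) i
    · intro x y h
      exact Subtype.ext (e.injective (congrArg Subtype.val h))
    · intro y
      exact ⟨⟨e.symm y, by
        change e (e.symm y) ∈ A
        rw [e.apply_symm_apply]; exact y.2⟩, Subtype.ext (e.apply_symm_apply _)⟩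

/-- Transport along a conjugation. -/
theorem hasStd_of_conj {Γ : Type*} [Group Γ] {F : Type*} [Field F] (d : Γ) (A : Subgroup Γ)
    (hconj : ∀ s t : Γ, s * s = 1 → t * t = 1 → s ≠ 1 → t ≠ 1 → s ≠ t → s * t = t * s →
      ∃ g : Γ, g * s * g⁻¹ = d)
    (hA : ∀ a ∈ A, a * d = d * a) (hmax : ∀ D : Subgroup Γ, ⁅D, D⁆ = D → (∀ x ∈ D, x * d = d * x) → D ≤ A)
    (hi : Nonempty (A ≃* SL2 F)) : HasStd Γ F := by
  intro s t hs ht hs1 ht1 hst hc
  obtain ⟨g, hg⟩ := hconj s t hs ht hs1 ht1 hst hc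
  obtain ⟨i⟩ := hi
  have hs' : s = g⁻¹ * d * g := by rw [← hg]; group
  refine ⟨A.map (MulAut.conj g⁻¹).toMonoidHom, ?_, fun D hD hDs x hx => ?_, ⟨?_⟩⟩
  · rintro _ ⟨a, ha, rfl⟩
    change (g⁻¹ * a * g⁻¹⁻¹) * s = s * (g⁻¹ * a * g⁻¹⁻¹)
    rw [hs', inv_inv]
    calc g⁻¹ * a * g * (g⁻¹ * d * g) = g⁻¹ * (a * d) * g := by group
      _ = g⁻¹ * (d * a) * g := by rw [hA a ha]
      _ = _ := by group
  · have h1 : D.map (MulAut.conj g).toMonoidHom ≤ A := by
      refine hmax _ (map_perfect hD _) ?_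
      rintro _ ⟨y, hy, rfl⟩
      change g * y * g⁻¹ * d = d * (g * y * g⁻¹)
      have h2 := hDs y hy
      rw [hs'] at h2
      calc g * y * g⁻¹ * d = g * (y * (g⁻¹ * d * g)) * g⁻¹ := by group
        _ = g * ((g⁻¹ * d * g) * y) * g⁻¹ := by rw [h2]
        _ = _ := by group
    refine ⟨g * x * g⁻¹, h1 ⟨x, hx, rfl⟩, ?_⟩
    change g⁻¹ * (g * x * g⁻¹) * g⁻¹⁻¹ = x
    group
  · exact (A.equivMapOfInjective _ (MulAut.conj g⁻¹).injective).symm.trans i

theorem hasStd_psl {F : Type*} [Field F] (h2 : (2 : F) ≠ 0) :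
    HasStd (ProjectiveSpecialLinearGroup (Fin 3) F) F := by
  have hab : (0 : Fin 3) ≠ 1 := by decide
  have hbc : (1 : Fin 3) ≠ 2 := by decide
  have hac : (0 : Fin 3) ≠ 2 := by decide
  refine hasStd_of_conj (Γ := CTFrame.SL3.S3 F ⧸ Subgroup.center (CTFrame.SL3.S3 F))
    (LThreeModel.SL3.pr F (CTFrame.SL3.dg 2)) ((CTFrame.SL3.std 0 1 : Subgroup (CTFrame.SL3.S3 F)).map (LThreeModel.SL3.pr F))
    ?_ ?_ ?_ ?_
  · intro s t hs ht hs1 ht1 hst hc
    obtain ⟨g, hg, -⟩ := LThreeModel.SL3.exists_conj h2 hs ht hs1 ht1 hst hc (a := 2) (b := 0) (by decide)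
    exact ⟨g, hg⟩
  · rintro _ ⟨a, ha, rfl⟩
    rw [← map_mul, ← map_mul]
    congr 1
    have hB := CTFrame.SL3.std_le_Blk hab hbc hac ha
    have h1 : CTFrame.SL3.dg 2 * a * (CTFrame.SL3.dg 2)⁻¹ = a := by
      have hdg := CTFrame.SL3.std_le_Blk (F := F) hab hbc hac (CTFrame.SL3.dg_mem_std hab hbc hac)
      refine CTFrame.SL3.blk_ext hab hbc hac (mul_mem (mul_mem hdg hB) (inv_mem hdg)) hB ?_ ?_ ?_ ?_
      · rw [CTFrame.SL3.dg_conj, if_neg hac]; ring
      · rw [CTFrame.SL3.dg_conj, if_neg hac, if_neg hbc]; ring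
      · rw [CTFrame.SL3.dg_conj, if_neg hbc, if_neg hac]; ring
      · rw [CTFrame.SL3.dg_conj, if_neg hbc]; ring
    exact (mul_inv_eq_iff_eq_mul.mp h1).symm
  · intro D hD hDs
    exact LThreeModel.SL3.le_std hab hbc hac h2 hD (fun x hx => mem_centralizer_singleton_iff.2 (hDs x hx))
  · obtain ⟨i⟩ := LThreeModel.SL3.std_equiv (F := F) hab hbc hac
    refine ⟨MulEquiv.trans (MulEquiv.ofBijective (((LThreeModel.SL3.pr F).subgroupMap _)) ⟨?_, ?_⟩).symm i⟩
    · intro x y e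
      exact Subtype.ext (LThreeModel.SL3.pr_inj hab hbc hac x.2 y.2 (congrArg Subtype.val e))
    · exact MonoidHom.subgroupMap_surjective _ _

theorem hasStd_psu {F : Type*} [Field F] [Fintype F] {q : ℕ} (hF : Fintype.card F = q ^ 2) (h2 : (2 : F) ≠ 0) :
    HasStd (Cfsg.PSU 3 F q) (Phan.fixedField hF) := by
  refine hasStd_of_conj (LThreeModel.SU3.pr F q (LThreeModel.SU3.dg hF 2))
    ((LThreeExt.SU3.std hF 2).map (LThreeModel.SU3.pr F q)) ?_ ?_ ?_ ?_
  · intro s t hs ht hs1 ht1 hst hc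
    obtain ⟨g, hg, -⟩ := LThreeModel.SU3.exists_conj hF h2 hs ht hs1 ht1 hst hc (a := 2) (b := 0) (by decide)
    exact ⟨g, hg⟩
  · rintro _ ⟨x, hx, rfl⟩
    rw [← map_mul, ← map_mul]
    congr 1
    apply Phan.mat_inj
    rw [Phan.mat_mul, Phan.mat_mul, LThreeModel.SU3.mat_dg]
    ext i j
    rw [Matrix.mul_diagonal, Matrix.diagonal_mul]
    by_cases hi : i = 2
    · by_cases hj : j = 2
      · rw [hi, hj]; ring
      · have h1 := (LThreeModel.SU3.blk_of_mem_std hF hx j).2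
        rw [if_neg hj] at h1
        rw [hi, h1]; ring
    · by_cases hj : j = 2
      · have h1 := (LThreeModel.SU3.blk_of_mem_std hF hx i).1
        rw [if_neg hi] at h1
        rw [hj, h1]; ring
      · rw [if_neg hi, if_neg hj]; ring
  · intro D hD hDs
    exact LThreeModel.SU3.le_std hF h2 hD (fun x hx => mem_centralizer_singleton_iff.2 (hDs x hx))
  · obtain ⟨i⟩ := LThreeModel.SU3.std_equiv hF 2
    refine ⟨MulEquiv.trans (MulEquiv.ofBijective (((LThreeModel.SU3.pr F q).subgroupMap _)) ⟨?_, ?_⟩).symm i⟩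
    · intro x y e
      exact Subtype.ext (LThreeModel.SU3.pr_inj' hF x.2 y.2 (congrArg Subtype.val e))
    · exact MonoidHom.subgroupMap_surjective _ _

end Cfsg.Agent.LFourB.CentXModel
end

-- part: LFourB/CentXSide
section
/-!
# The comparison of the components of `C(z)` and `C(t)` for commuting involutions `z`, `t`
-/

set_option autoImplicit false

namespace Cfsg.Agent.LFourB.CentXSide

open Subgroup Cfsg.Agent.TwoFusion.PerfCore Cfsg.Agent.LFourB.CentXModel Cfsg.Agent.LFourB.CentXCmpAbs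
open Cfsg.Agent.LFourA.KlQuot Cfsg.Agent.LFourA.KlOAbs

universe u

local notation "SL2" => Matrix.SpecialLinearGroup (Fin 2)

/-- The perfect subgroups of `X` are in `L`. -/
theorem perfect_le (hFT : ∀ (K : Type u) [Group K] [Finite K], Odd (Nat.card K) → Group.IsSolvable K)
    {X : Type u} [Group X] [Finite X] {L : Subgroup X} (hn : L.Normal) (hle : L ≤ Cfsg.pResidual 2 X)
    (hodd : Odd (L.relIndex (Cfsg.pResidual 2 X))) {D : Subgroup X} (hD : ⁅D, D⁆ = D) : D ≤ L := by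
  have hfact : Fact (Nat.Prime 2) := ⟨Nat.prime_two⟩
  have hn' : (Cfsg.pResidual 2 X).Normal := Transfer.Residual.pResidual_normal 2
  have h1 : D ≤ Cfsg.pResidual 2 X := by
    have h2 : IsPGroup 2 (X ⧸ Cfsg.pResidual 2 X) := Transfer.Residual.isPGroup_quotient_pResidual
    have h3 : Group.IsSolvable (D.map (QuotientGroup.mk' (Cfsg.pResidual 2 X))) := by
      have h4 : Group.IsNilpotent (D.map (QuotientGroup.mk' (Cfsg.pResidual 2 X))) :=
        (h2.to_subgroup _).isNilpotent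
      infer_instance
    have h4 := le_ker_of_perfect hD (QuotientGroup.mk' (Cfsg.pResidual 2 X)) h3
    rwa [QuotientGroup.ker_mk'] at h4
  refine Cfsg.Agent.TwoFusion.CentResidual.perfect_le_of_odd hFT hD.ge
    (by rw [normalizer_eq_top]; exact le_top) ?_
  have h2 : L.relIndex (L ⊔ D) * (L ⊔ D).relIndex (Cfsg.pResidual 2 X) = L.relIndex (Cfsg.pResidual 2 X) :=
    relIndex_mul_relIndex _ _ _ le_sup_left (sup_le hle h1)
  rw [relIndex_sup_left] at h2
  exact odd_of_dvd (Dvd.intro _ h2) hodd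

section side

variable {G : Type u} [Group G] [Finite G] {z t : G}

/-- `C(z) ∩ C(t) → C(t) / O(C(t))`. -/
def incl (z t : G) {X : Type*} [Group X] (p : ↥(centralizer ({t} : Set G)) →* X) :
    ↥(centralizer ({z} : Set G) ⊓ centralizer ({t} : Set G) : Subgroup G) →* X :=
  p.comp (Subgroup.inclusion inf_le_right)

/-- `C(z) ∩ C(t) → C(z) / O(C(z))`. -/
def incl' (z t : G) {X : Type*} [Group X] (p : ↥(centralizer ({z} : Set G)) →* X) :
    ↥(centralizer ({z} : Set G) ⊓ centralizer ({t} : Set G) : Subgroup G) →* X :=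
  p.comp (Subgroup.inclusion inf_le_left)

theorem odd_ker {X : Type*} [Group X] {p : ↥(centralizer ({t} : Set G)) →* X} (h : Quo t p) :
    Odd (Nat.card (incl z t p).ker) := by
  have h1 := ker_odd h
  refine odd_of_dvd ?_ h1
  have h2 : (incl z t p).ker.map (Subgroup.inclusion inf_le_right) ≤ p.ker := by
    rintro _ ⟨x, hx, rfl⟩
    exact hx
  have h3 : Nat.card ((incl z t p).ker.map (Subgroup.inclusion (inf_le_right :
      centralizer ({z} : Set G) ⊓ centralizer ({t} : Set G) ≤ _))) = Nat.card (incl z t p).ker :=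
    card_map_of_injective (Subgroup.inclusion_injective inf_le_right)
  rw [← h3]
  exact card_dvd_of_le h2

theorem odd_ker' {X : Type*} [Group X] {p : ↥(centralizer ({z} : Set G)) →* X} (h : Quo z p) :
    Odd (Nat.card (incl' z t p).ker) := by
  have h1 := ker_odd h
  refine odd_of_dvd ?_ h1
  have h2 : (incl' z t p).ker.map (Subgroup.inclusion inf_le_left) ≤ p.ker := by
    rintro _ ⟨x, hx, rfl⟩
    exact hx
  have h3 : Nat.card ((incl' z t p).ker.map (Subgroup.inclusion (inf_le_left :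
      centralizer ({z} : Set G) ⊓ centralizer ({t} : Set G) ≤ _))) = Nat.card (incl' z t p).ker :=
    card_map_of_injective (Subgroup.inclusion_injective inf_le_left)
  rw [← h3]
  exact card_dvd_of_le h2

/-- The component of `C(z)` seen in `C(t)`. -/
theorem exists_std (hFT : ∀ (K : Type u) [Group K] [Finite K], Odd (Nat.card K) → Group.IsSolvable K)
    {X : Type u} [Group X] [Finite X] {p : ↥(centralizer ({t} : Set G)) →* X} (h : Quo t p)
    {L : Subgroup X} (hn : L.Normal) (hle : L ≤ Cfsg.pResidual 2 X)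
    (hodd : Odd (L.relIndex (Cfsg.pResidual 2 X))) {F : Type*} [Field F] (hstd : HasStd L F)
    (hzt : z ∈ centralizer ({t} : Set G)) (hzz : z * z = 1) (hz1 : z ≠ 1) (hzL : p ⟨z, hzt⟩ ∈ L)
    {s : G} (hst : s ∈ centralizer ({t} : Set G)) (hss : s * s = 1) (hs1 : s ≠ 1) (hsL : p ⟨s, hst⟩ ∈ L)
    (hsz : z * s = s * z) (hne : z ≠ s) :
    ∃ A : Subgroup X, A ≤ (incl z t p).range ∧
      (∀ D : Subgroup X, D ≤ (incl z t p).range → ⁅D, D⁆ = D → D ≤ A) ∧ Nonempty (A ≃* SL2 F) := by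
  have hzs : (z * s) * (z * s) = 1 := by
    calc (z * s) * (z * s) = (z * s) * (s * z) := by rw [← hsz]
      _ = z * (s * s) * z := by group
      _ = 1 := by rw [hss, mul_one, hzz]
  obtain ⟨A, hA, hmax, ⟨i⟩⟩ := hstd ⟨p ⟨z, hzt⟩, hzL⟩ ⟨p ⟨s, hst⟩, hsL⟩
    (Subtype.ext (by
      change p ⟨z, hzt⟩ * p ⟨z, hzt⟩ = 1
      rw [← map_mul]
      exact (congrArg p (Subtype.ext hzz)).trans (map_one p)))
    (Subtype.ext (by
      change p ⟨s, hst⟩ * p ⟨s, hst⟩ = 1
      rw [← map_mul]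
      exact (congrArg p (Subtype.ext hss)).trans (map_one p)))
    (fun e => ne_one_of_inv h hzt hzz hz1 (congrArg Subtype.val e))
    (fun e => ne_one_of_inv h hst hss hs1 (congrArg Subtype.val e))
    (fun e => by
      have e1 : p ⟨z, hzt⟩ = p ⟨s, hst⟩ := congrArg Subtype.val e
      refine ne_one_of_inv h (x := z * s) (mul_mem hzt hst) hzs ?_ ?_
      · intro e2
        apply hne
        rw [eq_inv_of_mul_eq_one_left e2, inv_eq_of_mul_eq_one_left hss]
      · have e3 : p (⟨z, hzt⟩ * ⟨s, hst⟩) = 1 := by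
          rw [map_mul, ← e1, ← map_mul]
          exact (congrArg p (Subtype.ext hzz)).trans (map_one p)
        exact e3)
    (Subtype.ext (by
      change p ⟨z, hzt⟩ * p ⟨s, hst⟩ = p ⟨s, hst⟩ * p ⟨z, hzt⟩
      rw [← map_mul, ← map_mul]
      exact congrArg p (Subtype.ext hsz)))
  refine ⟨A.map L.subtype, ?_, fun D hD hDD => ?_, ⟨?_⟩⟩
  · rintro _ ⟨a, ha, rfl⟩
    have h1 : (a : X) * p ⟨z, hzt⟩ = p ⟨z, hzt⟩ * a := congrArg Subtype.val (hA a ha)
    obtain ⟨x, hx, hxz, e⟩ := exists_lift h hzt hzz h1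
    exact ⟨⟨x, mem_inf.2 ⟨mem_centralizer_singleton_iff.2 hxz, hx⟩⟩, e⟩
  · have hDL : D ≤ L := perfect_le hFT hn hle hodd hDD
    have h1 : (D.subgroupOf L).map L.subtype = D := by
      rw [subgroupOf_map_subtype, inf_eq_left.2 hDL]
    have h2 : ⁅D.subgroupOf L, D.subgroupOf L⁆ = D.subgroupOf L := by
      apply map_injective L.subtype_injective
      rw [map_commutator, h1, hDD]
    rw [← h1]
    refine map_mono (hmax _ h2 ?_)
    rintro ⟨d, hdL⟩ hd
    obtain ⟨⟨y, hy⟩, e⟩ := hD hd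
    apply Subtype.ext
    change d * p ⟨z, hzt⟩ = p ⟨z, hzt⟩ * d
    have e' : p (Subgroup.inclusion inf_le_right ⟨y, hy⟩) = d := e
    rw [← e']
    rw [← map_mul, ← map_mul]
    exact congrArg p (Subtype.ext (mem_centralizer_singleton_iff.1 hy.1))
  · exact (A.equivMapOfInjective _ L.subtype_injective).symm.trans i

/-- **The comparison.** -/
theorem card_eq_std (hFT : ∀ (K : Type u) [Group K] [Finite K], Odd (Nat.card K) → Group.IsSolvable K)
    {X' : Type*} [Group X'] {p' : ↥(centralizer ({z} : Set G)) →* X'} (h' : Quo z p')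
    {K : Subgroup X'} (hK : ⁅K, K⁆ = K) (hKne : K ≠ ⊥) (hKo : NoOdd K)
    (hlift : ∀ y ∈ K, ∃ (g : G) (hg : g ∈ centralizer ({z} : Set G)), g * t = t * g ∧ p' ⟨g, hg⟩ = y)
    (hnorm : ∀ (g : G) (hg : g ∈ centralizer ({z} : Set G)), g * t = t * g →
      ∀ x ∈ K, p' ⟨g, hg⟩ * x * (p' ⟨g, hg⟩)⁻¹ ∈ K)
    {X : Type u} [Group X] [Finite X] {p : ↥(centralizer ({t} : Set G)) →* X} (h : Quo t p)
    {L : Subgroup X} (hn : L.Normal) (hle : L ≤ Cfsg.pResidual 2 X)
    (hodd : Odd (L.relIndex (Cfsg.pResidual 2 X))) {F : Type*} [Field F] [Finite F] (hstd : HasStd L F)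
    (h2 : (2 : F) ≠ 0) (h3 : 3 < Nat.card F)
    (hzt : z ∈ centralizer ({t} : Set G)) (hzz : z * z = 1) (hz1 : z ≠ 1) (hzL : p ⟨z, hzt⟩ ∈ L)
    {s : G} (hst : s ∈ centralizer ({t} : Set G)) (hss : s * s = 1) (hs1 : s ≠ 1) (hsL : p ⟨s, hst⟩ ∈ L)
    (hsz : z * s = s * z) (hne : z ≠ s) :
    Nat.card K = Nat.card F * (Nat.card F ^ 2 - 1) := by
  obtain ⟨A, hA, hmax, ⟨i⟩⟩ := exists_std hFT h hn hle hodd hstd hzt hzz hz1 hzL hst hss hs1 hsL hsz hne
  rw [← card_of_sl i]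
  refine _root_.Cfsg.Agent.LFourB.CentXCmpAbs.card_eq (p := incl' z t p') (p' := incl z t p) (odd_ker' h') (odd_ker h) hK hKne ?_ ?_ hKo hA hmax
    (sl_noOdd h2 h3 i) (sl_noPerf h3 i)
  · intro y hy
    obtain ⟨g, hg, hgt, e⟩ := hlift y hy
    exact ⟨⟨g, mem_inf.2 ⟨hg, mem_centralizer_singleton_iff.2 hgt⟩⟩, e⟩
  · rintro ⟨g, hg⟩ x hx
    exact hnorm g hg.1 (mem_centralizer_singleton_iff.1 hg.2) x hx

end side

end Cfsg.Agent.LFourB.CentXSide
end

-- part: LFourB/CentXCz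
section
/-!
# The factors of `C(z1)` and the involution `x4` (S0510, case B1)

`x4 = f 0 0 M * h2` where `f 0 0 M` centralises both factors `K₁`, `K₂` of `C(z1)` modulo its odd core, and `h2 ∈ Q₂`. So
`x4` centralises `K₁`, and `C(z1) ∩ C(x4)` normalises `K₁` and covers it.
-/

set_option autoImplicit false
set_option linter.unusedSectionVars false

namespace Cfsg.Agent.LFourB.CentXCz

open Subgroup Cfsg.Agent.LFourB Cfsg.Agent.LFourB.ProdCent
open Cfsg.Agent.LFourB.BOne (good1 goodh1 goodh2 goodq1 goodq2 goodx1 goodx3 goodx4)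
open Cfsg.Agent.LFourA.CzCt Cfsg.Agent.LFourA.KlQuot

universe v

/-! ### Sylow subgroups of subnormal subgroups -/

theorem not_dvd_relIndex {X : Type*} [Group X] [Finite X] (T : Sylow 2 X) {X0 K : Subgroup X} (hn0 : X0.Normal)
    (hK : K ≤ X0) (hn : X0 ≤ normalizer (K : Set X)) : ¬ 2 ∣ (T : Subgroup X).relIndex K := by
  have hfact : Fact (Nat.Prime 2) := ⟨Nat.prime_two⟩
  let T' : Sylow 2 X0 := (Lib.SylowNormalInf.isPGroup_subgroupOf T X0).toSylow (Lib.SylowNormalInf.not_dvd_relIndex T X0)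
  have hn1 : (K.subgroupOf X0).Normal := (normal_subgroupOf_iff_le_normalizer hK).2 hn
  have h1 := Lib.SylowNormalInf.not_dvd_relIndex T' (K.subgroupOf X0)
  have h2 : ((T' : Subgroup X0)).relIndex (K.subgroupOf X0) = (T : Subgroup X).relIndex K := by
    change ((T : Subgroup X).subgroupOf X0).relIndex (K.subgroupOf X0) = _
    rw [relIndex_subgroupOf hK]
  rwa [h2] at h1

section czp

variable {G : Type v} [Group G] [Finite G] {X : Type*} [Group X] {z : G} {p : ↥(centralizer ({z} : Set G)) →* X}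
  {K₁ K₂ : Subgroup X} {S Q₁ Q₂ : Subgroup G}

theorem quo (hcz : CZP z p K₁ K₂ S Q₁ Q₂) : Quo z p := ⟨hcz.surj, hcz.ker⟩

theorem sup_normal (hcz : CZP z p K₁ K₂ S Q₁ Q₂) : (K₁ ⊔ K₂).Normal := by
  constructor
  intro x hx g
  have h1 : (K₁ ⊔ K₂).map (MulAut.conj g).toMonoidHom ≤ K₁ ⊔ K₂ := by
    rw [Subgroup.map_sup, sup_le_iff, map_le_iff_le_comap, map_le_iff_le_comap]
    rcases hcz.norm g with ⟨h1, h2⟩ | ⟨h1, h2⟩
    · exact ⟨fun y hy => (le_sup_left : K₁ ≤ K₁ ⊔ K₂) (h1 y hy), fun y hy => (le_sup_right : K₂ ≤ K₁ ⊔ K₂) (h2 y hy)⟩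
    · exact ⟨fun y hy => (le_sup_right : K₂ ≤ K₁ ⊔ K₂) (h1 y hy), fun y hy => (le_sup_left : K₁ ≤ K₁ ⊔ K₂) (h2 y hy)⟩
  exact h1 ⟨x, hx, rfl⟩

theorem sup_le_normalizer (hcz : CZP z p K₁ K₂ S Q₁ Q₂) :
    K₁ ⊔ K₂ ≤ normalizer (K₁ : Set X) ∧ K₁ ⊔ K₂ ≤ normalizer (K₂ : Set X) := by
  refine ⟨sup_le le_normalizer fun x hx => ?_, sup_le (fun x hx => ?_) le_normalizer⟩
  · rw [mem_normalizer_iff]
    intro y
    constructor
    · intro hy
      rwa [← hcz.comm y hy x hx, mul_inv_cancel_right]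
    · intro hy
      have h1 := hcz.comm _ hy x hx
      have h2 : x * y * x⁻¹ = y := by
        have : x * y = x * (x * y * x⁻¹) := by rw [← h1, inv_mul_cancel_right]
        exact (mul_left_cancel this).symm
      rwa [h2] at hy
  · rw [mem_normalizer_iff]
    intro y
    constructor
    · intro hy
      rwa [hcz.comm x hx y hy, mul_inv_cancel_right]
    · intro hy
      have h1 := hcz.comm x hx _ hy
      have h2 : x * y * x⁻¹ = y := by
        have : x * y = x * (x * y * x⁻¹) := by rw [h1, inv_mul_cancel_right]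
        exact (mul_left_cancel this).symm
      rwa [h2] at hy

/-- The intersection of the image of `S` with `K₁` is the image of `Q₁`. -/
theorem inf_eq (T : Sylow 2 ↥(centralizer ({z} : Set G))) {K : Subgroup X} {Q : Subgroup G}
    (hT : ∀ x, x ∈ (T : Subgroup ↥(centralizer ({z} : Set G))) → (x : G) ∈ S)
    (hT' : ∀ x : ↥(centralizer ({z} : Set G)), (x : G) ∈ S → x ∈ (T : Subgroup ↥(centralizer ({z} : Set G))))
    (hq : Q ≤ up p K) (hs : ∀ s ∈ S, s ∈ up p K → s ∈ Q) (hQS : Q ≤ S) :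
    (T : Subgroup ↥(centralizer ({z} : Set G))).map p ⊓ K = dn p Q := by
  ext y
  constructor
  · rintro ⟨⟨x, hx, rfl⟩, hy⟩
    exact mem_dn.2 ⟨x, x.2, hs x (hT x hx) (mem_up.2 ⟨x.2, hy⟩), rfl⟩
  · intro hy
    obtain ⟨g, hg, hgQ, rfl⟩ := mem_dn.1 hy
    refine ⟨⟨⟨g, hg⟩, hT' ⟨g, hg⟩ (hQS hgQ), rfl⟩, ?_⟩
    exact (mem_up.1 (hq hgQ)).2

/-- The image of `Q₁` is a Sylow 2-subgroup of `K₁`. -/
theorem odd_relIndex (P : Sylow 2 G) (hPz : (P : Subgroup G) ≤ centralizer ({z} : Set G)) (hcz : CZP z p K₁ K₂ P Q₁ Q₂)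
    (h1 : Q₁ ≤ P) (h2 : Q₂ ≤ P) :
    (IsPGroup 2 (dn p Q₁) ∧ Odd ((dn p Q₁).relIndex K₁)) ∧ (IsPGroup 2 (dn p Q₂) ∧ Odd ((dn p Q₂).relIndex K₂)) := by
  have hfact : Fact (Nat.Prime 2) := ⟨Nat.prime_two⟩
  have : Finite X := Finite.of_surjective p hcz.surj
  have hn := sup_normal hcz
  obtain ⟨hn1, hn2⟩ := sup_le_normalizer hcz
  let T := Sylow.mapSurjective hcz.surj (P.subtype hPz)
  have hTc : (T : Subgroup X) = ((P.subtype hPz : Sylow 2 _) : Subgroup _).map p := Sylow.coe_mapSurjective _ _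
  have e1 : (T : Subgroup X) ⊓ K₁ = dn p Q₁ := by
    rw [hTc]
    exact inf_eq (S := (P : Subgroup G)) (P.subtype hPz) (fun x hx => hx) (fun x hx => hx) hcz.q₁ hcz.s₁ h1
  have e2 : (T : Subgroup X) ⊓ K₂ = dn p Q₂ := by
    rw [hTc]
    exact inf_eq (S := (P : Subgroup G)) (P.subtype hPz) (fun x hx => hx) (fun x hx => hx) hcz.q₂ hcz.s₂ h2
  refine ⟨⟨?_, ?_⟩, ⟨?_, ?_⟩⟩
  · rw [← e1]; exact T.isPGroup'.to_le inf_le_left
  · rw [← e1, inf_relIndex_right, ← Nat.not_even_iff_odd, even_iff_two_dvd]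
    exact not_dvd_relIndex T hn le_sup_left hn1
  · rw [← e2]; exact T.isPGroup'.to_le inf_le_left
  · rw [← e2, inf_relIndex_right, ← Nat.not_even_iff_odd, even_iff_two_dvd]
    exact not_dvd_relIndex T hn le_sup_right hn2

end czp

/-! ### The element `f 0 0 M` -/

section cz

variable {G : Type v} [Group G] {m : ℕ} {f : R m → R m → R m → G} {u w : G} {S : Subgroup G}

/-- The central element of order 4 of `Q₁Q₂C(Q₁Q₂)`. -/
def cz (f : R m → R m → R m → G) : G := f 0 0 (M m)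

theorem goodcz : Good (0 : R m) 0 (M m) := by
  refine ⟨((2 ^ m : ℕ) : R m), ?_⟩
  rw [← N_eq, ← two_mul_M]
  ring

theorem cz_sq (h : BOne S m f u w) : cz f * cz f = z1 f := by
  rw [cz, h.f_mul _ _ _ _ _ _ goodcz goodcz, add_zero, M_add_M, z1]

theorem x4_eq (h : BOne S m f u w) : x4 f = cz f * h2 f := by
  rw [cz, h2, h.f_mul _ _ _ _ _ _ goodcz goodh2, add_zero, zero_add, M_add_M, x4]

theorem h2_mem (_h : BOne S m f u w) : h2 f ∈ Qtwo f u w := by
  refine Subgroup.subset_closure (Or.inl ⟨M m, ?_⟩)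
  rw [two_mul_M, h2]

theorem h1_mem (_h : BOne S m f u w) : h1 f ∈ Qone f u := by
  refine Subgroup.subset_closure (Or.inl ⟨M m, ?_⟩)
  rw [two_mul_M, h1]

theorem h1_sq (h : BOne S m f u w) : h1 f * h1 f = z1 f := by
  rw [h1, h.f_mul _ _ _ _ _ _ goodh1 goodh1, add_zero, N_add_N, ← neg_add, M_add_M, neg_N, z1]

theorem z1_ne (h : BOne S m f u w) : z1 f ≠ 1 := by
  rw [z1, Ne, h.f_eq_one_iff good1]
  exact fun e => N_ne_zero e.2.2

theorem comm_Qone (h : BOne S m f u w) {q r : R m} (hg : Good 0 q r) :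
    ∀ x ∈ Qone f u, f 0 q r * x = x * f 0 q r := by
  intro x hx
  refine Subgroup.closure_induction (p := fun x _ => f 0 q r * x = x * f 0 q r) ?_ ?_ ?_ ?_ hx
  · rintro y (⟨a, rfl⟩ | hy)
    · exact h.f_comm hg (goodq1 a)
    · rw [Set.mem_singleton_iff] at hy
      subst hy
      have h1 := h.u_f _ _ _ hg
      rw [neg_zero, add_zero] at h1
      rw [← mul_assoc, ← h1, mul_assoc, x1, h.f_comm hg goodx1, ← mul_assoc]
  · rw [mul_one, one_mul]
  · intro a b _ _ ha hb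
    rw [← mul_assoc, ha, mul_assoc, hb, mul_assoc]
  · intro a _ ha
    exact (Commute.inv_right (show Commute _ _ from ha)).eq

theorem Qone_le (h : BOne S m f u w) : Qone f u ≤ S := by
  rw [Qone, closure_le]
  rintro _ (⟨a, rfl⟩ | hy)
  · exact h.f_mem_S (goodq1 a)
  · rw [Set.mem_singleton_iff] at hy
    subst hy
    exact mul_mem h.u_mem (h.f_mem_S goodx1)

theorem Qtwo_le (h : BOne S m f u w) : Qtwo f u w ≤ S := by
  rw [Qtwo, closure_le]
  rintro _ (⟨a, rfl⟩ | hy)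
  · exact h.f_mem_S (goodq2 a)
  · rw [Set.mem_singleton_iff] at hy
    subst hy
    exact mul_mem h.ub_mem (h.f_mem_S goodx3)

theorem card_Qone (h : BOne S m f u w) : Nat.card (Qone f u) = 2 ^ (m + 4) := by
  rw [← h.tqq_Q1, Cfsg.Agent.LFourB.ProdTqq.card_Q1 h.tqq]

theorem x4_sq (h : BOne S m f u w) : x4 f * x4 f = 1 := by
  rw [x4, h.f_mul _ _ _ _ _ _ goodx4 goodx4, add_zero, N_add_N, h.f_zero]

end cz

/-! ### The action of `x4` -/

section main

variable {G : Type v} [Group G] [Finite G] {m : ℕ} {f : R m → R m → R m → G} {u w : G} {P : Sylow 2 G}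
  {X : Type*} [Group X] {p : ↥(centralizer ({z1 f} : Set G)) →* X} {K₁ K₂ : Subgroup X}

/-- Elements with square `z` normalising `K` and centralising `Q` centralise `K`. -/
def Fix (z : X) (K Q : Subgroup X) : Prop :=
  ∀ c : X, c * c = z → c ∈ normalizer (K : Set X) → (∀ x ∈ Q, c * x = x * c) → ∀ a ∈ K, c * a = a * c

/-- The image of an element of `S`. -/
def im (h : BOne (P : Subgroup G) m f u w) (p : ↥(centralizer ({z1 f} : Set G)) →* X) (s : G)
    (hs : s ∈ (P : Subgroup G)) : X := p ⟨s, h.S_le_centralizer hs⟩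

theorem cz_mem (h : BOne (P : Subgroup G) m f u w) : cz f ∈ (P : Subgroup G) := h.f_mem_S goodcz
theorem x4_mem (h : BOne (P : Subgroup G) m f u w) : x4 f ∈ (P : Subgroup G) := h.f_mem_S goodx4
theorem h1_memS (h : BOne (P : Subgroup G) m f u w) : h1 f ∈ (P : Subgroup G) := h.f_mem_S goodh1
theorem h2_memS (h : BOne (P : Subgroup G) m f u w) : h2 f ∈ (P : Subgroup G) := h.f_mem_S goodh2
theorem z1_mem (h : BOne (P : Subgroup G) m f u w) : z1 f ∈ (P : Subgroup G) := h.f_mem_S good1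

theorem im_mul (h : BOne (P : Subgroup G) m f u w) {s t : G} (hs : s ∈ (P : Subgroup G)) (ht : t ∈ (P : Subgroup G)) :
    im h p s hs * im h p t ht = im h p (s * t) (mul_mem hs ht) := (map_mul p _ _).symm

theorem im_congr (h : BOne (P : Subgroup G) m f u w) {s t : G} (hs : s ∈ (P : Subgroup G)) (e : s = t) :
    im h p s hs = im h p t (e ▸ hs) := by subst e; rfl

theorem im_z1 (h : BOne (P : Subgroup G) m f u w) : im h p (z1 f) (z1_mem h) = p (self (z1 f)) := rfl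

variable (h : BOne (P : Subgroup G) m f u w) (hcz : CZP (z1 f) p K₁ K₂ P (Qone f u) (Qtwo f u w))

include h hcz

theorem pz_ne : p (self (z1 f)) ≠ 1 :=
  ne_one_of_inv (quo hcz) (self (z1 f)).2 h.z1_mul_z1 (z1_ne h)

theorem pz_sq : p (self (z1 f)) * p (self (z1 f)) = 1 := by
  rw [← im_z1 h, im_mul, im_congr h _ h.z1_mul_z1]
  exact map_one p

theorem norm_of_comm {c : X} (hc : c * im h p (h1 f) (h1_memS h) = im h p (h1 f) (h1_memS h) * c) :
    c ∈ normalizer (K₁ : Set X) ∧ c ∈ normalizer (K₂ : Set X) := by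
  have : Finite X := Finite.of_surjective p hcz.surj
  rcases hcz.norm c with ⟨h1', h2'⟩ | ⟨h1', -⟩
  · exact ⟨mem_normalizer_fintype h1', mem_normalizer_fintype h2'⟩
  · exfalso
    have h3 : im h p (h1 f) (h1_memS h) ∈ K₁ := (mem_up.1 (hcz.q₁ (h1_mem h))).2
    have h4 := h1' _ h3
    rw [hc, mul_inv_cancel_right] at h4
    have h5 : im h p (h1 f) (h1_memS h) * im h p (h1 f) (h1_memS h) = p (self (z1 f)) := by
      rw [im_mul, im_congr h _ (h1_sq h)]; rfl
    rcases hcz.inf _ h3 h4 with h6 | h6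
    · rw [h6, mul_one] at h5
      exact pz_ne h hcz h5.symm
    · rw [h6, pz_sq h hcz] at h5
      exact pz_ne h hcz h5.symm

theorem tor_comm {q r : R m} (hg : Good 0 q r) :
    im h p (f 0 q r) (h.f_mem_S hg) * im h p (h1 f) (h1_memS h) =
      im h p (h1 f) (h1_memS h) * im h p (f 0 q r) (h.f_mem_S hg) := by
  rw [im_mul, im_mul, im_congr h _ (show f 0 q r * h1 f = h1 f * f 0 q r from h.f_comm hg goodh1)]

theorem cz_sq' : im h p (cz f) (cz_mem h) * im h p (cz f) (cz_mem h) = p (self (z1 f)) := by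
  rw [im_mul, im_congr h _ (cz_sq h)]; rfl

theorem comm_dn_one {q r : R m} (hg : Good 0 q r) :
    ∀ x ∈ dn p (Qone f u), im h p (f 0 q r) (h.f_mem_S hg) * x = x * im h p (f 0 q r) (h.f_mem_S hg) := by
  intro x hx
  obtain ⟨g, hg', hgQ, rfl⟩ := mem_dn.1 hx
  change p _ * p _ = p _ * p _
  rw [← map_mul, ← map_mul]
  exact congrArg p (Subtype.ext (comm_Qone h hg g hgQ))

/-- `f 0 0 M` centralises `K₁`. -/
theorem cz_one (hF : Fix (p (self (z1 f))) K₁ (dn p (Qone f u))) :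
    ∀ a ∈ K₁, im h p (cz f) (cz_mem h) * a = a * im h p (cz f) (cz_mem h) :=
  hF _ (cz_sq' h hcz) (norm_of_comm h hcz (tor_comm h hcz goodcz)).1 (comm_dn_one h hcz goodcz)

/-- `x4` centralises `K₁`. -/
theorem x4_one (hF : Fix (p (self (z1 f))) K₁ (dn p (Qone f u))) :
    ∀ a ∈ K₁, im h p (x4 f) (x4_mem h) * a = a * im h p (x4 f) (x4_mem h) := by
  intro a ha
  have e : im h p (x4 f) (x4_mem h) = im h p (cz f) (cz_mem h) * im h p (h2 f) (h2_memS h) := by
    rw [im_mul, im_congr h _ (x4_eq h)]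
  have h2' : im h p (h2 f) (h2_memS h) ∈ K₂ := (mem_up.1 (hcz.q₂ (h2_mem h))).2
  rw [e, mul_assoc, ← hcz.comm a ha _ h2', ← mul_assoc, cz_one h hcz hF a ha, mul_assoc]

/-- `x4` does not centralise both factors. -/
theorem x4_not (h1' : ∀ a ∈ K₁, im h p (x4 f) (x4_mem h) * a = a * im h p (x4 f) (x4_mem h))
    (h2' : ∀ a ∈ K₂, im h p (x4 f) (x4_mem h) * a = a * im h p (x4 f) (x4_mem h)) : False := by
  obtain ⟨c, hc, e⟩ := h.cent_cyclic P hcz h1' h2'
  have gc : Good (0 : R m) 0 (2 * c) := ⟨c, by ring⟩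
  have e2 : im h p (x4 f) (x4_mem h) = im h p (f 0 0 (2 * c)) (h.f_mem_S gc) := e
  have e3 : im h p (f 0 0 (-(2 * c))) (h.f_mem_S (by have := gc.neg; rwa [neg_zero] at this)) *
      im h p (x4 f) (x4_mem h) = 1 := by
    rw [e2, im_mul, im_congr h _ (t := 1) (by
      rw [h.f_mul _ _ _ _ _ _ (by have := gc.neg; rwa [neg_zero] at this) gc, add_zero, neg_add_cancel, h.f_zero])]
    exact map_one p
  rw [im_mul] at e3
  have gn : Good (0 : R m) 0 (-(2 * c)) := by have := gc.neg; rwa [neg_zero] at this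
  have gx := gn.add (goodx4 (m := m))
  have e4 : f 0 0 (-(2 * c)) * x4 f = f (0 + 0) (0 + N m) (-(2 * c) + N m) := by
    rw [x4, h.f_mul _ _ _ _ _ _ gn goodx4]
  have e5 : f 0 0 (-(2 * c)) * x4 f = 1 := by
    refine eq_one_of_two (quo hcz) (m := m + 3) (h.S_le_centralizer (mul_mem (h.f_mem_S gn) (x4_mem h))) e3 ?_
    rw [e4, h.f_pow gx]
    have h0 : ((2 ^ (m + 3) : ℕ) : R m) = 0 := ZMod.natCast_self _
    rw [h0, zero_mul, zero_mul, zero_mul, h.f_zero]
  rw [e4, h.f_eq_one_iff gx] at e5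
  have h6 := e5.2.1
  rw [zero_add] at h6
  exact N_ne_zero h6

/-- `C(z1) ∩ C(x4)` normalises `K₁`. -/
theorem norm_one (hF : Fix (p (self (z1 f))) K₁ (dn p (Qone f u))) {g : G}
    (hg : g ∈ centralizer ({z1 f} : Set G)) (hgx : g * x4 f = x4 f * g) :
    ∀ x ∈ K₁, p ⟨g, hg⟩ * x * (p ⟨g, hg⟩)⁻¹ ∈ K₁ := by
  rcases hcz.norm (p ⟨g, hg⟩) with h1' | h1'
  · exact h1'.1
  · exfalso
    have h4 := x4_one h hcz hF
    refine x4_not h hcz h4 fun a ha => ?_
    have h5 := h4 _ (h1'.2 a ha)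
    have h6 : im h p (x4 f) (x4_mem h) * p ⟨g, hg⟩ = p ⟨g, hg⟩ * im h p (x4 f) (x4_mem h) := by
      change p _ * p _ = p _ * p _
      rw [← map_mul, ← map_mul]
      exact congrArg p (Subtype.ext hgx.symm)
    have h7 : (p ⟨g, hg⟩)⁻¹ * im h p (x4 f) (x4_mem h) = im h p (x4 f) (x4_mem h) * (p ⟨g, hg⟩)⁻¹ :=
      (Commute.inv_right (show Commute _ _ from h6)).eq.symm
    have h8 : p ⟨g, hg⟩ * (im h p (x4 f) (x4_mem h) * a) * (p ⟨g, hg⟩)⁻¹ =
        p ⟨g, hg⟩ * (a * im h p (x4 f) (x4_mem h)) * (p ⟨g, hg⟩)⁻¹ := by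
      calc _ = (p ⟨g, hg⟩ * im h p (x4 f) (x4_mem h)) * a * (p ⟨g, hg⟩)⁻¹ := by group
        _ = im h p (x4 f) (x4_mem h) * (p ⟨g, hg⟩ * a * (p ⟨g, hg⟩)⁻¹) := by rw [← h6]; group
        _ = p ⟨g, hg⟩ * a * ((p ⟨g, hg⟩)⁻¹ * im h p (x4 f) (x4_mem h)) := by rw [h5]; group
        _ = _ := by rw [h7]; group
    exact mul_left_cancel (mul_right_cancel h8)

/-- `C(z1) ∩ C(x4)` covers `K₁`. -/
theorem exists_lift_one (hF : Fix (p (self (z1 f))) K₁ (dn p (Qone f u))) {y : X} (hy : y ∈ K₁) :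
    ∃ (g : G) (hg : g ∈ centralizer ({z1 f} : Set G)), g * x4 f = x4 f * g ∧ p ⟨g, hg⟩ = y :=
  exists_lift (quo hcz) (h.S_le_centralizer (x4_mem h)) (x4_sq h) (x4_one h hcz hF y hy).symm

theorem card_dn_one : Nat.card (dn p (Qone f u)) = 2 ^ (m + 4) := by
  rw [← card_Qone h]
  have hle : Qone f u ≤ centralizer ({z1 f} : Set G) := (Qone_le h).trans h.S_le_centralizer
  rw [← Nat.card_congr (subgroupOfEquivOfLe hle).toEquiv]
  refine (Nat.card_congr (Equiv.ofBijective (fun x : (Qone f u).subgroupOf (centralizer ({z1 f} : Set G)) =>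
    (⟨p x, mem_map_of_mem p x.2⟩ : dn p (Qone f u))) ⟨?_, ?_⟩)).symm
  · intro x y e
    have e1 : p x = p y := congrArg Subtype.val e
    have e2 : p ((x : ↥(centralizer ({z1 f} : Set G)))⁻¹ * y) = 1 := by rw [map_mul, map_inv, e1, inv_mul_cancel]
    have e3 : (((x : ↥(centralizer ({z1 f} : Set G)))⁻¹ * y : ↥(centralizer ({z1 f} : Set G))) : G) ∈
        (P : Subgroup G) := mul_mem (inv_mem (Qone_le h x.2)) (Qone_le h y.2)
    have hfact : Fact (Nat.Prime 2) := ⟨Nat.prime_two⟩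
    obtain ⟨k, hk⟩ := P.isPGroup' ⟨_, e3⟩
    have e4 := eq_one_of_two (quo hcz) (m := k)
      ((x : ↥(centralizer ({z1 f} : Set G)))⁻¹ * y : ↥(centralizer ({z1 f} : Set G))).2 e2 (congrArg Subtype.val hk)
    have e5 : (x : ↥(centralizer ({z1 f} : Set G)))⁻¹ * y = 1 := Subtype.ext e4
    exact Subtype.ext (inv_mul_eq_one.1 e5)
  · rintro ⟨_, x, hx, rfl⟩
    exact ⟨⟨x, hx⟩, rfl⟩

/-- The 2-part of `|K₁|`. -/
theorem factorization_one [Finite X] : (Nat.card K₁).factorization 2 = m + 4 := by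
  obtain ⟨⟨-, h1'⟩, -⟩ := odd_relIndex P h.S_le_centralizer hcz (Qone_le h) (Qtwo_le h)
  have h2' : dn p (Qone f u) ≤ K₁ := by
    intro x hx
    obtain ⟨g, hg, hgQ, rfl⟩ := mem_dn.1 hx
    exact (mem_up.1 (hcz.q₁ hgQ)).2
  rw [← Lib.SylowNormalInf.card_mul_relIndex _ _ h2', card_dn_one h hcz,
    Nat.factorization_mul (by positivity) (by
      intro h0
      rw [h0] at h1'
      exact absurd h1' (by decide)), Finsupp.add_apply, Nat.Prime.factorization_pow Nat.prime_two,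
    Finsupp.single_eq_same, Nat.factorization_eq_zero_of_not_dvd (by
      rw [← even_iff_two_dvd, Nat.not_even_iff_odd]; exact h1')]

end main

/-! ### The two cases -/

section cases

variable {G : Type v} [Group G] [Finite G] {m : ℕ} {f : R m → R m → R m → G} {u w : G} {P : Sylow 2 G}
  {X : Type*} [Group X] {p : ↥(centralizer ({z1 f} : Set G)) →* X} {K₁ K₂ : Subgroup X}

theorem fix_sl {F : Type*} [Field F] [Finite F] (h2 : (2 : F) ≠ 0) (h : BOne (P : Subgroup G) m f u w)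
    (hcz : CZPL (z1 f) F p K₁ K₂ P (Qone f u) (Qtwo f u w)) :
    Fix (p (self (z1 f))) K₁ (dn p (Qone f u)) ∧ Fix (p (self (z1 f))) K₂ (dn p (Qtwo f u w)) := by
  obtain ⟨⟨a1, a2⟩, ⟨b1, b2⟩⟩ := odd_relIndex P h.S_le_centralizer hcz.toCZP (Qone_le h) (Qtwo_le h)
  obtain ⟨e1⟩ := hcz.e₁
  obtain ⟨e2⟩ := hcz.e₂
  refine ⟨fun c hc hn hq => ?_, fun c hc hn hq => ?_⟩
  · refine FixQuat.centralizes h2 e1 a1 a2 hn (fun a ha => ?_) hq
    rw [hc]
    exact (hcz.comm a ha _ hcz.z₂).symm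
  · refine FixQuat.centralizes h2 e2 b1 b2 hn (fun a ha => ?_) hq
    rw [hc]
    exact hcz.comm _ hcz.z₁ a ha

end cases

end Cfsg.Agent.LFourB.CentXCz
end

-- part: LFourB/CentXId
section
/-!
# Identification of the simple section of `C(x4)`: the simple groups with wreathed Sylow 2-subgroups of large order

`exists_model` gives `PSL₃` or `PSU₃` from the theorem on wreathed Sylow 2-subgroups, `plus` and `minus` are the
numerical conditions on the field.
-/

set_option autoImplicit false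

namespace Cfsg.Agent.LFourB.CentXId

universe u

/-- The two linear types. -/
def Mdl (K : Type u) [Group K] : Prop :=
  (∃ (F : Type) (_ : Field F) (_ : Fintype F), Odd (Fintype.card F) ∧
      Nonempty (K ≃* Matrix.ProjectiveSpecialLinearGroup (Fin 3) F)) ∨
    (∃ (F : Type) (_ : Field F) (_ : Fintype F) (q : ℕ), Fintype.card F = q ^ 2 ∧ Odd q ∧
      Nonempty (K ≃* Cfsg.PSU 3 F q))

/-- A simple group with wreathed Sylow 2-subgroup of order divisible by `2 ^ 7` is `PSL₃` or `PSU₃`. -/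
theorem exists_model
    (h523 : ∀ (K : Type u) [Group K] [Finite K] [IsSimpleGroup K] (S : Sylow 2 K),
      Cfsg.IsWreathed (S : Subgroup K) →
      (∃ (F : Type) (_ : Field F) (_ : Fintype F), Odd (Fintype.card F) ∧
          Nonempty (K ≃* Matrix.ProjectiveSpecialLinearGroup (Fin 3) F)) ∨
        (∃ (F : Type) (_ : Field F) (_ : Fintype F) (q : ℕ), Fintype.card F = q ^ 2 ∧ Odd q ∧
          Nonempty (K ≃* Cfsg.PSU 3 F q)) ∨
        Cfsg.IsM11 K)
    {K : Type u} [Group K] [Finite K] [IsSimpleGroup K] (T : Sylow 2 K) (hT : Cfsg.IsWreathed (T : Subgroup K))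
    (h7 : 2 ^ 7 ∣ Nat.card K) : Mdl K := by
  rcases h523 K T hT with h | h | h
  · exact Or.inl h
  · exact Or.inr h
  · exfalso
    have h2 : Nat.card K = 7920 := h.2
    rw [h2] at h7
    norm_num at h7

theorem fact_mul {a b : ℕ} (ha : a ≠ 0) (hb : b ≠ 0) :
    (a * b).factorization 2 = a.factorization 2 + b.factorization 2 := by
  rw [Nat.factorization_mul ha hb]; rfl

theorem fact_odd {a : ℕ} (ha : a % 2 = 1) : a.factorization 2 = 0 :=
  Nat.factorization_eq_zero_of_not_dvd (by omega)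

theorem dvd_of_fact {a k : ℕ} (ha : a ≠ 0) (h : a.factorization 2 = k) : 2 ^ k ∣ a ∧ ¬ 2 ^ (k + 1) ∣ a := by
  constructor
  · rw [← h]; exact Nat.ordProj_dvd a 2
  · intro h1
    have h2 := (Nat.Prime.pow_dvd_iff_le_factorization Nat.prime_two ha).mp h1
    omega

theorem gcd_three_odd (a : ℕ) : Nat.gcd 3 a % 2 = 1 := by
  have h1 : Nat.gcd 3 a ∣ 3 := Nat.gcd_dvd_left 3 a
  rcases (Nat.dvd_prime Nat.prime_three).mp h1 with h2 | h2 <;> rw [h2]

theorem num_plus {g a b N o p : ℕ} (hg : g % 2 = 1) (ha : a ≠ 0) (hb : b ≠ 0) (hN : N ≠ 0) (ho : o % 2 = 1)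
    (hp : p % 2 = 1) (h : g * (a * N) = a * o * (p * (a * b)) * (p ^ 2 * a)) :
    N.factorization 2 = a.factorization 2 + (a.factorization 2 + b.factorization 2) := by
  have hg0 : g ≠ 0 := by rintro rfl; omega
  have ho0 : o ≠ 0 := by rintro rfl; omega
  have hp0 : p ≠ 0 := by rintro rfl; omega
  have hp2 : p ^ 2 % 2 = 1 := by rw [Nat.pow_mod, hp]
  have h3 := congrArg (fun n : ℕ => n.factorization 2) h
  rw [fact_mul hg0 (mul_ne_zero ha hN), fact_mul ha hN, fact_odd hg,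
    fact_mul (by (clear * - ha hb ho0 hp0; positivity)) (by positivity), fact_mul (by positivity) (by positivity),
    fact_mul ha ho0, fact_mul hp0 (mul_ne_zero ha hb), fact_mul ha hb, fact_mul (by positivity) ha,
    fact_odd ho, fact_odd hp, fact_odd hp2] at h3
  omega

theorem num_minus {g a b N o p : ℕ} (hg : g % 2 = 1) (ha : a ≠ 0) (hb : b ≠ 0) (hN : N ≠ 0) (ho : o % 2 = 1)
    (hp : p % 2 = 1) (h : g * (b * N) = p * (b * (a * b) * (b * o))) :
    N.factorization 2 = b.factorization 2 + (a.factorization 2 + b.factorization 2) := by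
  have hg0 : g ≠ 0 := by rintro rfl; omega
  have ho0 : o ≠ 0 := by rintro rfl; omega
  have hp0 : p ≠ 0 := by rintro rfl; omega
  have h3 := congrArg (fun n : ℕ => n.factorization 2) h
  rw [fact_mul hg0 (mul_ne_zero hb hN), fact_mul hb hN, fact_odd hg,
    fact_mul hp0 (by positivity), fact_mul (by positivity) (by positivity),
    fact_mul hb (mul_ne_zero ha hb), fact_mul ha hb, fact_mul hb ho0,
    fact_odd ho, fact_odd hp] at h3
  omega

/-- The linear case. -/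
theorem plus {F : Type*} [Field F] [Fintype F] (hodd : Odd (Fintype.card F)) {K : Type*} [Group K]
    (e : K ≃* Matrix.ProjectiveSpecialLinearGroup (Fin 3) F) {m : ℕ}
    (h1 : (Nat.card K).factorization 2 = 2 * m + 7)
    (h2 : (Fintype.card F * (Fintype.card F ^ 2 - 1)).factorization 2 = m + 4) :
    2 ^ (m + 3) ∣ Fintype.card F - 1 ∧ ¬ 2 ^ (m + 4) ∣ Fintype.card F - 1 ∧ Fintype.card F % 8 = 1 := by
  classical
  have hc := Cfsg.Agent.S0243.result (F := F) (q := Fintype.card F) rfl 3 (by norm_num)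
  rw [← Nat.card_congr e.toEquiv] at hc
  have hq1 : 1 < Fintype.card F := Fintype.one_lt_card
  generalize Fintype.card F = q at *
  obtain ⟨k, rfl⟩ := hodd
  have hk : 0 < k := by omega
  have hN : Nat.card K ≠ 0 := by
    intro h3
    rw [h3, Nat.factorization_zero] at h1
    simp at h1
  -- the order formula
  have e1 : 2 * k + 1 - 1 = 2 * k := by omega
  have e2 : (2 * k + 1) ^ 2 - 1 = 2 * k * (2 * (k + 1)) := by
    rw [Nat.sub_eq_iff_eq_add (Nat.one_le_pow _ _ (by omega))]; ring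
  have e3 : (2 * k + 1) ^ 3 - 1 = 2 * k * (4 * k * k + 6 * k + 3) := by
    rw [Nat.sub_eq_iff_eq_add (Nat.one_le_pow _ _ (by omega))]; ring
  have e4 : (2 * k + 1) ^ 3 - (2 * k + 1) = (2 * k + 1) * (2 * k * (2 * (k + 1))) := by
    rw [Nat.sub_eq_iff_eq_add (by linarith only [Nat.zero_le (k * k * k), _root_.mul_self_nonneg (↑k : ℤ)])]; ring
  have e5 : (2 * k + 1) ^ 3 - (2 * k + 1) ^ 2 = (2 * k + 1) ^ 2 * (2 * k) := by
    rw [Nat.sub_eq_iff_eq_add (Nat.pow_le_pow_right (by omega) (by norm_num))]; ring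
  rw [e1, Fin.prod_univ_three] at hc
  simp only [Fin.val_zero, Fin.val_one, Fin.val_two, pow_zero, pow_one] at hc
  rw [e3, e4, e5] at hc
  rw [e2, fact_mul (by omega) (by positivity), fact_odd (by omega), zero_add,
    fact_mul (by positivity) (by positivity)] at h2
  have h3 := num_plus (gcd_three_odd (2 * k)) (by omega) (by omega) hN (by
      have h4 : 4 * k * k + 6 * k + 3 = 2 * (2 * k * k + 3 * k + 1) + 1 := by ring
      omega) (show (2 * k + 1) % 2 = 1 by omega) hc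
  have h4 : (2 * k).factorization 2 = m + 3 := by omega
  obtain ⟨h5, h6⟩ := dvd_of_fact (by omega) h4
  rw [e1]
  refine ⟨h5, h6, ?_⟩
  have h7 : 2 ^ 3 ∣ 2 * k := (Nat.pow_dvd_pow 2 (by omega)).trans h5
  omega

/-- The unitary case. -/
theorem minus {F : Type*} [Field F] [Fintype F] {r : ℕ} (hF : Fintype.card F = r ^ 2) (hodd : Odd r) {K : Type*}
    [Group K] (e : K ≃* Cfsg.PSU 3 F r) {m : ℕ}
    (h1 : (Nat.card K).factorization 2 = 2 * m + 7)
    (h2 : (r * (r ^ 2 - 1)).factorization 2 = m + 4) :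
    2 ^ (m + 3) ∣ r + 1 ∧ ¬ 2 ^ (m + 4) ∣ r + 1 ∧ r % 8 = 7 := by
  classical
  have hc := Cfsg.Agent.S0280.result (F := F) (q := r) hF 3 (by norm_num)
  rw [← Nat.card_congr e.toEquiv] at hc
  have hq1 : 1 < r ^ 2 := hF ▸ Fintype.one_lt_card
  obtain ⟨k, rfl⟩ := hodd
  have hk : 0 < k := by
    rcases Nat.eq_zero_or_pos k with h | h
    · rw [h] at hq1; norm_num at hq1
    · exact h
  have hN : Nat.card K ≠ 0 := by
    intro h3
    rw [h3, Nat.factorization_zero] at h1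
    simp at h1
  have e1 : 2 * k + 1 + 1 = 2 * (k + 1) := by omega
  have e2 : (2 * k + 1) ^ 2 - 1 = 2 * k * (2 * (k + 1)) := by
    rw [Nat.sub_eq_iff_eq_add (Nat.one_le_pow _ _ (by omega))]; ring
  have e3 : (2 * k + 1) ^ 3 + 1 = 2 * (k + 1) * (4 * k * k + 2 * k + 1) := by ring
  rw [Finset.prod_range_succ, Finset.prod_range_succ, Finset.prod_range_one] at hc
  simp only [Even.zero, if_true, Nat.not_even_one, if_false, even_two, zero_add, pow_one] at hc
  rw [show 1 + 1 = 2 by norm_num, show 2 + 1 = 3 by norm_num, e1, e2, e3] at hc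
  rw [e2, fact_mul (by omega) (by positivity), fact_odd (by omega), zero_add,
    fact_mul (by positivity) (by positivity)] at h2
  have h3 := num_minus (gcd_three_odd (2 * (k + 1))) (show 2 * k ≠ 0 by omega) (by omega) hN (by
      have h4 : 4 * k * k + 2 * k + 1 = 2 * (2 * k * k + k) + 1 := by ring
      omega) (by
      rw [Nat.pow_mod, show (2 * k + 1) % 2 = 1 by omega, one_pow]; rfl) hc
  have h4 : (2 * (k + 1)).factorization 2 = m + 3 := by omega
  obtain ⟨h5, h6⟩ := dvd_of_fact (by omega) h4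
  rw [e1]
  refine ⟨h5, h6, ?_⟩
  have h7 : 2 ^ 3 ∣ 2 * (k + 1) := (Nat.pow_dvd_pow 2 (by omega)).trans h5
  omega

end Cfsg.Agent.LFourB.CentXId
end

-- part: LFourB/FixSeven
section
/-!
# S0510, B1: an element whose square is the centre of `2A₇` and which centralises a Sylow
2-subgroup centralises `2A₇`.
-/

set_option autoImplicit false

namespace Cfsg.Agent.LFourB.FixSeven

open Cfsg.Agent.SectRankFour.AutAlt Equiv Subgroup
open scoped commutatorElement

/-! ### The check in `S₇` -/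

def pa : Equiv.Perm (Fin 7) := c[(0 : Fin 7), 1, 2, 3] * c[(4 : Fin 7), 5]
def pb : Equiv.Perm (Fin 7) := c[(0 : Fin 7), 2] * c[(4 : Fin 7), 5]
def pg : Equiv.Perm (Fin 7) := c[(0 : Fin 7), 4] * c[(2 : Fin 7), 5]
def ph : Equiv.Perm (Fin 7) := c[(1 : Fin 7), 2] * c[(4 : Fin 7), 5]

theorem moved (σ : Equiv.Perm (Fin 7)) (ha : σ * pa = pa * σ) (hb : σ * pb = pb * σ)
    (h : σ ≠ 1) :
    pg * σ * pg⁻¹ * σ⁻¹ = pb ∨ ph * σ * ph⁻¹ * σ⁻¹ = pa * pb := by
  have ha' : ∀ i, σ (pa i) = pa (σ i) := fun i => congrArg (fun f => f i) ha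
  have hb' : ∀ i, σ (pb i) = pb (σ i) := fun i => congrArg (fun f => f i) hb
  have h6 : σ 6 = 6 := by
    have e : pa (σ 6) = σ 6 := by rw [← ha']; congr 1
    have : ∀ x : Fin 7, pa x = x → x = 6 := by decide
    exact this _ e
  have h1 : σ 1 = 1 ∨ σ 1 = 3 := by
    have e : pb (σ 1) = σ 1 := by rw [← hb']; congr 1
    have : ∀ x : Fin 7, pb x = x → x = 1 ∨ x = 3 ∨ x = 6 := by decide
    rcases this _ e with h | h | h
    · exact .inl h
    · exact .inr h
    · rw [← h6] at h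
      exact absurd (σ.injective h) (by decide)
  have h4 : σ 4 = 4 ∨ σ 4 = 5 := by
    have e : pa (pa (σ 4)) = σ 4 := by rw [← ha', ← ha']; congr 1
    have : ∀ x : Fin 7, pa (pa x) = x → x = 4 ∨ x = 5 ∨ x = 6 := by decide
    rcases this _ e with h | h | h
    · exact .inl h
    · exact .inr h
    · rw [← h6] at h
      exact absurd (σ.injective h) (by decide)
  have h5 : σ 5 = pa (σ 4) := by rw [← ha']; congr 1
  have h2 : σ 2 = pa (σ 1) := by rw [← ha']; congr 1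
  have h3 : σ 3 = pa (pa (σ 1)) := by rw [← ha', ← ha']; congr 1
  have h0 : σ 0 = pa (pa (pa (σ 1))) := by rw [← ha', ← ha', ← ha']; congr 1
  have key : ∀ τ : Equiv.Perm (Fin 7), τ 6 = σ 6 → τ 1 = σ 1 → τ 4 = σ 4 → τ 5 = σ 5 →
      τ 2 = σ 2 → τ 3 = σ 3 → τ 0 = σ 0 → σ = τ := by
    intro τ _ _ _ _ _ _ _
    ext i : 1
    fin_cases i <;> symm <;> assumption
  rcases h1 with h1 | h1 <;> rcases h4 with h4 | h4 <;> rw [h1] at h0 h2 h3 <;> rw [h4] at h5
  · exact absurd (key 1 (by rw [h6]; decide) (by rw [h1]; decide) (by rw [h4]; decide)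
      (by rw [h5]; decide) (by rw [h2]; decide) (by rw [h3]; decide) (by rw [h0]; decide)) h
  · left
    rw [key c[(4 : Fin 7), 5] (by rw [h6]; decide) (by rw [h1]; decide) (by rw [h4]; decide)
      (by rw [h5]; decide) (by rw [h2]; decide) (by rw [h3]; decide) (by rw [h0]; decide)]
    decide
  · right
    rw [key (c[(0 : Fin 7), 2] * c[(1 : Fin 7), 3]) (by rw [h6]; decide) (by rw [h1]; decide) (by rw [h4]; decide)
      (by rw [h5]; decide) (by rw [h2]; decide) (by rw [h3]; decide) (by rw [h0]; decide)]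
    decide
  · right
    rw [key (c[(0 : Fin 7), 2] * c[(1 : Fin 7), 3] * c[(4 : Fin 7), 5]) (by rw [h6]; decide) (by rw [h1]; decide)
      (by rw [h4]; decide)
      (by rw [h5]; decide) (by rw [h2]; decide) (by rw [h3]; decide) (by rw [h0]; decide)]
    decide

def aa : A7 := ⟨pa, by rw [Equiv.Perm.mem_alternatingGroup]; decide⟩
def ab : A7 := ⟨pb, by rw [Equiv.Perm.mem_alternatingGroup]; decide⟩
def ag : A7 := ⟨pg, by rw [Equiv.Perm.mem_alternatingGroup]; decide⟩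
def ah : A7 := ⟨ph, by rw [Equiv.Perm.mem_alternatingGroup]; decide⟩

theorem isPGroup_zpowers {G : Type*} [Group G] (x : G) (hx : x ^ 4 = 1) :
    IsPGroup 2 (zpowers x) := by
  rintro ⟨y, hy⟩
  obtain ⟨n, rfl⟩ := mem_zpowers_iff.1 hy
  refine ⟨2, Subtype.ext ?_⟩
  show (x ^ n) ^ (2 ^ 2) = 1
  rw [← zpow_natCast, ← zpow_mul, mul_comm, zpow_mul]
  norm_num
  rw [hx, one_zpow]

theorem exists_moved (D : Sylow 2 A7) (σ : Equiv.Perm (Fin 7))
    (hσ : ∀ x : A7, x ∈ (D : Subgroup A7) → σ * x = x * σ) (h : σ ≠ 1) :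
    ∃ g d : A7, d ∈ (D : Subgroup A7) ∧ d ≠ 1 ∧
      (g : Equiv.Perm (Fin 7)) * σ * (g : Equiv.Perm (Fin 7))⁻¹ * σ⁻¹ = d := by
  have haa : aa ^ 4 = 1 := Subtype.ext (by decide)
  have hbb : ab ^ 4 = 1 := Subtype.ext (by decide)
  have hab : ab * aa * ab⁻¹ = aa⁻¹ := Subtype.ext (by decide)
  have hn : zpowers ab ≤ normalizer (zpowers aa : Set A7) := by
    rw [zpowers_le, mem_normalizer_iff]
    intro x
    constructor
    · rintro hx
      obtain ⟨n, rfl⟩ := mem_zpowers_iff.1 hx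
      rw [← conj_zpow, hab]
      exact zpow_mem (inv_mem (mem_zpowers aa)) n
    · intro hx
      obtain ⟨n, hn⟩ := mem_zpowers_iff.1 hx
      have e : ab⁻¹ * aa * ab = aa⁻¹ := Subtype.ext (by decide)
      have : x = ab⁻¹ * aa ^ n * ab := by rw [hn]; group
      have e2 : ab⁻¹ * aa ^ n * ab = (ab⁻¹ * aa * ab) ^ n := by
        have := (conj_zpow (a := ab⁻¹) (b := aa) (i := n)).symm
        rw [inv_inv] at this
        exact this
      rw [this, e2, e]
      exact zpow_mem (inv_mem (mem_zpowers aa)) n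
  have hP : IsPGroup 2 (zpowers ab ⊔ zpowers aa : Subgroup A7) :=
    IsPGroup.to_sup_of_normal_right' (isPGroup_zpowers _ hbb) (isPGroup_zpowers _ haa) hn
  obtain ⟨P, hP'⟩ := hP.exists_le_sylow
  obtain ⟨t, ht⟩ := MulAction.exists_smul_eq A7 P D
  have hconj : ∀ x ∈ (P : Subgroup A7), t * x * t⁻¹ ∈ (D : Subgroup A7) := by
    intro x hx
    rw [← ht, Sylow.coe_subgroup_smul]
    exact Subgroup.smul_mem_pointwise_smul x (MulAut.conj t) _ hx
  have hPa : aa ∈ (P : Subgroup A7) := hP' (mem_sup_right (mem_zpowers aa))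
  have hPb : ab ∈ (P : Subgroup A7) := hP' (mem_sup_left (mem_zpowers ab))
  obtain ⟨τ, hτ⟩ : ∃ τ : Equiv.Perm (Fin 7), τ = t.1 := ⟨_, rfl⟩
  have hcomm : ∀ x : A7, x ∈ (P : Subgroup A7) → τ⁻¹ * σ * τ * x = x * (τ⁻¹ * σ * τ) := by
    intro x hx
    have e := hσ _ (hconj x hx)
    have e' : σ * (τ * x * τ⁻¹) = τ * x * τ⁻¹ * σ := by rw [hτ]; exact e
    calc τ⁻¹ * σ * τ * x = τ⁻¹ * (σ * (τ * x * τ⁻¹)) * τ := by group
      _ = τ⁻¹ * (τ * x * τ⁻¹ * σ) * τ := by rw [e']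
      _ = _ := by group
  have hne : τ⁻¹ * σ * τ ≠ 1 := by
    intro e
    apply h
    have : σ = τ * (τ⁻¹ * σ * τ) * τ⁻¹ := by group
    rw [this, e]
    group
  rcases moved _ ((hcomm _ hPa :)) ((hcomm _ hPb :)) hne with e | e
  · refine ⟨t * ag * t⁻¹, t * ab * t⁻¹, hconj _ hPb, ?_, ?_⟩
    · intro e'
      have : ab = 1 := by
        have : ab = t⁻¹ * (t * ab * t⁻¹) * t := by group
        rw [this, e']
        group
      exact absurd (congrArg Subtype.val this) (by decide)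
    · show t.1 * pg * t.1⁻¹ * σ * (t.1 * pg * t.1⁻¹)⁻¹ * σ⁻¹ = t.1 * pb * t.1⁻¹
      rw [← hτ, ← e]
      group
  · refine ⟨t * ah * t⁻¹, t * (aa * ab) * t⁻¹, hconj _ (mul_mem hPa hPb), ?_, ?_⟩
    · intro e'
      have : aa * ab = 1 := by
        have : aa * ab = t⁻¹ * (t * (aa * ab) * t⁻¹) * t := by group
        rw [this, e']
        group
      exact absurd (congrArg Subtype.val this) (by decide)
    · show t.1 * ph * t.1⁻¹ * σ * (t.1 * ph * t.1⁻¹)⁻¹ * σ⁻¹ = t.1 * (pa * pb) * t.1⁻¹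
      rw [← hτ, ← e]
      group

/-! ### The lemma -/

/-- Two epimorphisms with the same kernel differ by an automorphism of the image. -/
theorem exists_aut {K A : Type*} [Group K] [Group A] [Finite A] (φ θ : K →* A)
    (hφ : Function.Surjective φ) (hθ : Function.Surjective θ) (h : ∀ x, φ x = 1 → θ x = 1) :
    ∃ α : MulAut A, ∀ x, α (φ x) = θ x := by
  classical
  have hk : φ.ker ≤ θ.ker := fun x hx => h x hx
  obtain ⟨f, hf⟩ : ∃ f : A →* A, ∀ x, f (φ x) = θ x :=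
    ⟨φ.liftOfSurjective hφ ⟨θ, hk⟩, fun x => φ.liftOfRightInverse_comp_apply _ _ ⟨θ, hk⟩ x⟩
  have hs : Function.Surjective f := by
    intro a
    obtain ⟨x, rfl⟩ := hθ a
    exact ⟨φ x, hf x⟩
  exact ⟨MulEquiv.ofBijective f ⟨Finite.injective_iff_surjective.2 hs, hs⟩, hf⟩

theorem fix_seven {X : Type*} [Group X] [Finite X] {K Q : Subgroup X} {z c : X}
    (φ : K →* alternatingGroup (Fin 7)) (hφ : Function.Surjective φ)
    (hker : ∀ x : K, φ x = 1 ↔ (x : X) = 1 ∨ (x : X) = z) (hz : z ≠ 1) (hK : ⁅K, K⁆ = K)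
    (hcz : c * c = z) (hQK : Q ≤ K) (hQ2 : IsPGroup 2 Q) (hQi : Odd (Q.relIndex K))
    (hQz : ∀ x ∈ Q, x * x = 1 → x = 1 ∨ x = z) (hc : c ∈ normalizer (K : Set X))
    (hcQ : ∀ x ∈ Q, c * x = x * c) : ∀ x ∈ K, c * x = x * c := by
  classical
  have : Fact (Nat.Prime 2) := ⟨Nat.prime_two⟩
  -- the Sylow subgroup of `K`
  have hQ' : IsPGroup 2 (Q.subgroupOf K) :=
    hQ2.of_equiv (Subgroup.subgroupOfEquivOfLe hQK).symm
  have hodd : ¬ 2 ∣ (Q.subgroupOf K).index := by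
    have : (Q.subgroupOf K).index = Q.relIndex K := rfl
    rw [this]
    exact fun h => (Nat.not_even_iff_odd.2 hQi) (even_iff_two_dvd.2 h)
  obtain ⟨S, hS⟩ : ∃ S : Sylow 2 K, (S : Subgroup K) = Q.subgroupOf K :=
    ⟨hQ'.toSylow hodd, rfl⟩
  have hSmem : ∀ x : K, x ∈ (S : Subgroup K) ↔ (x : X) ∈ Q := fun x => by
    rw [hS, mem_subgroupOf]
  -- the image
  obtain ⟨D, hD⟩ : ∃ D : Sylow 2 A7, (D : Subgroup A7) = (S : Subgroup K).map φ :=
    ⟨S.mapSurjective hφ, rfl⟩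
  -- `z ∈ Q`
  have hzQ : z ∈ Q := by
    have h1 : Nat.card A7 ∣ Nat.card K := Subgroup.card_dvd_of_surjective φ hφ
    have h2 : Nat.card Q * Q.relIndex K = Nat.card K := by
      rw [← Subgroup.card_mul_index (Q.subgroupOf K),
        Nat.card_congr (Subgroup.subgroupOfEquivOfLe hQK).toEquiv]
      rfl
    have h3 : 2 ∣ Nat.card Q := by
      have h4 : 2 ∣ Nat.card Q * Q.relIndex K := by
        rw [h2]
        exact dvd_trans (by rw [card_A7]; norm_num) h1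
      rcases (Nat.Prime.dvd_mul Nat.prime_two).1 h4 with h5 | h5
      · exact h5
      · exact absurd (even_iff_two_dvd.2 h5) (Nat.not_even_iff_odd.2 hQi)
    obtain ⟨x, hx⟩ := exists_prime_orderOf_dvd_card' 2 h3
    have h4 : (x : X) * x = 1 := by
      have := pow_orderOf_eq_one x
      rw [hx, pow_two] at this
      exact congrArg Subtype.val this
    rcases hQz x x.2 h4 with h5 | h5
    · have : x = 1 := Subtype.ext h5
      rw [this, orderOf_one] at hx
      omega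
    · rw [← h5]
      exact x.2
  have hzK : z ∈ K := hQK hzQ
  have hφz : φ ⟨z, hzK⟩ = 1 := (hker _).2 (.inr rfl)
  have hzz : z * z = 1 := by
    have h1 : φ ⟨z * z, mul_mem hzK hzK⟩ = 1 := by
      have : (⟨z * z, mul_mem hzK hzK⟩ : K) = ⟨z, hzK⟩ * ⟨z, hzK⟩ := rfl
      rw [this, map_mul, hφz, one_mul]
    rcases (hker _).1 h1 with h2 | h2
    · exact h2
    · exact absurd (mul_eq_left.1 h2) hz
  -- `z` is central
  have hzc : ∀ x ∈ K, x * z = z * x := by
    intro x hx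
    have h1 : φ (⟨x, hx⟩ * ⟨z, hzK⟩ * ⟨x, hx⟩⁻¹) = 1 := by
      rw [map_mul, map_mul, hφz, mul_one, map_inv, mul_inv_cancel]
    rcases (hker _).1 h1 with h2 | h2
    · have h3 : x * z * x⁻¹ = 1 := h2
      rw [mul_inv_eq_one] at h3
      exact absurd (mul_eq_left.1 h3) hz
    · have h3 : x * z * x⁻¹ = z := h2
      exact mul_inv_eq_iff_eq_mul.1 h3
  -- the twisted map
  have hcK : ∀ x, x ∈ K → c * x * c⁻¹ ∈ K := fun x hx => (mem_normalizer_iff.1 hc x).1 hx
  have hcK' : ∀ x, x ∈ K → c⁻¹ * x * c ∈ K := fun x hx =>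
    (mem_normalizer_iff.1 hc _).2 (by
      have : c * (c⁻¹ * x * c) * c⁻¹ = x := by group
      rw [this]; exact hx)
  have hczc : c * z * c⁻¹ = z := by rw [← hcz]; group
  let γ : K →* K :=
    { toFun := fun x => ⟨c * x * c⁻¹, hcK _ x.2⟩
      map_one' := Subtype.ext (by simp)
      map_mul' := fun x y => Subtype.ext (by
        show c * (x * y : K) * c⁻¹ = c * x * c⁻¹ * (c * y * c⁻¹)
        rw [Subgroup.coe_mul]; group) }
  have hγ : ∀ x : K, ((γ x : K) : X) = c * x * c⁻¹ := fun x => rfl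
  have hγs : Function.Surjective γ := by
    intro x
    exact ⟨⟨c⁻¹ * x * c, hcK' _ x.2⟩, Subtype.ext (by rw [hγ]; group)⟩
  obtain ⟨α, hα⟩ := exists_aut φ (φ.comp γ) hφ (hφ.comp hγs) (by
    intro x hx
    show φ (γ x) = 1
    rw [hker] at hx ⊢
    rcases hx with hx | hx
    · left; rw [hγ, hx]; group
    · right; rw [hγ, hx]; exact hczc)
  obtain ⟨σ, hσ⟩ := exists_perm α
  have hσ' : ∀ x : K, ((φ (γ x) : A7) : Equiv.Perm (Fin 7)) = σ * (φ x : A7) * σ⁻¹ := by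
    intro x
    rw [← hσ, hα]
    rfl
  have hσD : ∀ x : A7, x ∈ (D : Subgroup A7) → σ * x = x * σ := by
    intro x hx
    rw [hD] at hx
    obtain ⟨y, hy, rfl⟩ := hx
    have hyQ : (y : X) ∈ Q := (hSmem y).1 hy
    have h1 : γ y = y := Subtype.ext (by rw [hγ, hcQ _ hyQ]; group)
    have h2 := hσ' y
    rw [h1] at h2
    exact (mul_inv_eq_iff_eq_mul.1 h2.symm)
  -- `σ = 1`
  have hσ1 : σ = 1 := by
    by_contra hne
    obtain ⟨g, d, hdD, hd1, hgd⟩ := exists_moved D σ hσD hne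
    obtain ⟨t, rfl⟩ := hφ g
    -- `k = t c t⁻¹ c⁻¹`
    obtain ⟨k, hk⟩ : ∃ k : K, k = t * γ t⁻¹ := ⟨_, rfl⟩
    have hkX : (k : X) = t * (c * (t : X)⁻¹ * c⁻¹) := by rw [hk]; rfl
    have hφk : φ k = d := by
      apply Subtype.ext
      rw [← hgd, hk, map_mul]
      show ((φ t : A7) : Equiv.Perm (Fin 7)) * ((φ (γ t⁻¹) : A7) : Equiv.Perm (Fin 7)) = _
      rw [hσ', map_inv]
      show _ * (σ * ((φ t : A7) : Equiv.Perm (Fin 7))⁻¹ * σ⁻¹) = _
      group
    have hkQ : (k : X) ∈ Q := by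
      rw [hD] at hdD
      obtain ⟨y, hy, hyd⟩ := hdD
      have hyQ : (y : X) ∈ Q := (hSmem y).1 hy
      have h1 : φ (k * y⁻¹) = 1 := by rw [map_mul, map_inv, hφk, hyd, mul_inv_cancel]
      have h2 : (k : X) = ((k * y⁻¹ : K) : X) * y := by
        rw [Subgroup.coe_mul, Subgroup.coe_inv]; group
      rw [h2]
      rcases (hker _).1 h1 with h3 | h3 <;> rw [h3]
      · rw [one_mul]; exact hyQ
      · exact mul_mem hzQ hyQ
    have hkc : c * k = k * c := hcQ _ hkQ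
    have h1 : ((k : X) * c) * (k * c) = z := by
      have h2 : (k : X) * c = t * c * (t : X)⁻¹ := by rw [hkX]; group
      rw [h2]
      calc (t : X) * c * (t : X)⁻¹ * (t * c * (t : X)⁻¹) = t * (c * c) * (t : X)⁻¹ := by group
        _ = t * z * (t : X)⁻¹ := by rw [hcz]
        _ = z * t * (t : X)⁻¹ := by rw [hzc _ t.2]
        _ = z := by group
    have h2 : (k : X) * k = 1 := by
      have h3 : ((k : X) * c) * (k * c) = k * k * z := by
        calc ((k : X) * c) * (k * c) = k * (c * k) * c := by group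
          _ = k * (k * c) * c := by rw [hkc]
          _ = k * k * (c * c) := by group
          _ = _ := by rw [hcz]
      rw [h1] at h3
      exact (mul_eq_right.1 h3.symm)
    have h3 : φ k = 1 := (hker k).2 (hQz _ hkQ h2)
    exact hd1 (by rw [← hφk, h3])
  -- hence `c` acts trivially modulo `z`
  have hmod : ∀ x ∈ K, c * x * c⁻¹ = x ∨ c * x * c⁻¹ = z * x := by
    intro x hx
    have h1 : φ (γ ⟨x, hx⟩ * ⟨x, hx⟩⁻¹) = 1 := by
      have h2 := hσ' ⟨x, hx⟩
      rw [hσ1, one_mul, inv_one, mul_one] at h2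
      rw [map_mul, Subtype.ext h2, map_inv, mul_inv_cancel]
    rcases (hker _).1 h1 with h2 | h2
    · left
      have h3 : c * x * c⁻¹ * x⁻¹ = 1 := h2
      exact mul_inv_eq_one.1 h3
    · right
      have h3 : c * x * c⁻¹ * x⁻¹ = z := h2
      exact mul_inv_eq_iff_eq_mul.1 h3
  have hcomm : ∀ x ∈ K, ∀ y ∈ K, ⁅x, y⁆ * c = c * ⁅x, y⁆ := by
    intro x hx y hy
    have h1 : c * ⁅x, y⁆ * c⁻¹ = ⁅c * x * c⁻¹, c * y * c⁻¹⁆ := by
      simp only [commutatorElement_def]; group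
    have hz1 : ∀ a ∈ K, ∀ b ∈ K, ⁅z * a, b⁆ = ⁅a, b⁆ := by
      intro a ha b hb
      have h2 := hzc _ (mul_mem (mul_mem ha hb) (inv_mem ha))
      calc ⁅z * a, b⁆ = z * (a * b * a⁻¹) * z⁻¹ * b⁻¹ := by
            rw [commutatorElement_def]; group
        _ = (a * b * a⁻¹ * z) * z⁻¹ * b⁻¹ := by rw [h2]
        _ = ⁅a, b⁆ := by rw [commutatorElement_def]; group
    have hz2 : ∀ a ∈ K, ∀ b ∈ K, ⁅a, z * b⁆ = ⁅a, b⁆ := by
      intro a ha b hb
      have h2 := hz1 b hb a ha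
      rw [← commutatorElement_inv, h2, commutatorElement_inv]
    have h2 : ⁅c * x * c⁻¹, c * y * c⁻¹⁆ = ⁅x, y⁆ := by
      rcases hmod x hx with e1 | e1 <;> rcases hmod y hy with e2 | e2 <;> rw [e1, e2]
      · exact hz2 x hx y hy
      · exact hz1 x hx y hy
      · rw [hz1 x hx _ (mul_mem hzK hy)]
        exact hz2 x hx y hy
    rw [h2] at h1
    exact (mul_inv_eq_iff_eq_mul.1 h1).symm
  have hle : K ≤ centralizer ({c} : Set X) := by
    conv_lhs => rw [← hK]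
    rw [commutator_le]
    intro x hx y hy
    rw [mem_centralizer_singleton_iff]
    exact hcomm x hx y hy
  intro x hx
  exact (mem_centralizer_singleton_iff.1 (hle hx)).symm

end Cfsg.Agent.LFourB.FixSeven
end

-- part: LFourB/CentXCmp
section
/-!
# The isomorphism type of the simple section of `C(x4)` (S0510, case B1)

Comparing the factor `K₁` of `C(z1)` with the standard `SL(2,q)` of the simple section `L` of `C(x4)`: `L` is `PSL(3,F)` with
`|F| = 1 mod 8` or `PSU(3,r)` with `r = 7 mod 8`, and `K₁ = SL(2,|F|)` or `SL(2,r)`; `K₁` is not a covering of `A₇`.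
-/

set_option autoImplicit false

namespace Cfsg.Agent.LFourB.CentXCmp

open Subgroup Cfsg.Agent.LFourB Cfsg.Agent.LFourB.ProdCent Cfsg.Agent.LFourA.CzCt Cfsg.Agent.LFourA.KlQuot
open Cfsg.Agent.LFourB.CentXCz Cfsg.Agent.LFourB.CentXModel Cfsg.Agent.LFourB.CentXCmpAbs Cfsg.Agent.LFourB.CentXSide

universe u

/-! ### The Sylow 2-subgroup of the simple section -/

section syl

variable {C : Type u} [Group C] [Finite C] {Q : Sylow 2 C} {W D : Subgroup C}
  {L : Subgroup (C ⧸ Cfsg.pPrimeCore 2 C)}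

theorem eq_one_of_mem (Q : Sylow 2 C) {x : C} (hx : x ∈ (Q : Subgroup C))
    (hx' : QuotientGroup.mk' (Cfsg.pPrimeCore 2 C) x = 1) : x = 1 := by
  have hcop : (Nat.card (Cfsg.pPrimeCore 2 C)).Coprime 2 := Lib.Cores.pPrimeCore_coprime 2
  have h1 : x ∈ Cfsg.pPrimeCore 2 C := (QuotientGroup.eq_one_iff x).1 hx'
  obtain ⟨k, hk⟩ := Q.isPGroup' ⟨x, hx⟩
  have h2 : orderOf x ∣ 2 ^ k := orderOf_dvd_of_pow_eq_one (congrArg Subtype.val hk)
  have h3 : orderOf x ∣ Nat.card (Cfsg.pPrimeCore 2 C) := by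
    have := _root_.orderOf_dvd_natCard (⟨x, h1⟩ : Cfsg.pPrimeCore 2 C)
    rwa [Subgroup.orderOf_mk] at this
  exact orderOf_eq_one_iff.1 (Nat.Coprime.eq_one_of_dvd
    (Nat.Coprime.coprime_dvd_left h3 (Nat.Coprime.pow_right k hcop)) h2)

theorem exists_sylow (h : CentXTail.Out Q W D L) (hW : Cfsg.IsWreathed W) (hWQ : W ≤ (Q : Subgroup C)) {n : ℕ}
    (hc : Nat.card W = 2 ^ n) :
    ∃ T : Sylow 2 L, Cfsg.IsWreathed (T : Subgroup L) ∧ (Nat.card L).factorization 2 = n := by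
  have hfact : Fact (Nat.Prime 2) := ⟨Nat.prime_two⟩
  have hn := h.normal
  let Q' : Sylow 2 (C ⧸ Cfsg.pPrimeCore 2 C) := Q.mapSurjective (QuotientGroup.mk'_surjective _)
  let T : Sylow 2 L := (Lib.SylowNormalInf.isPGroup_subgroupOf Q' L).toSylow
    (Lib.SylowNormalInf.not_dvd_relIndex Q' L)
  have hT : (T : Subgroup L) = (W.map (QuotientGroup.mk' (Cfsg.pPrimeCore 2 C))).subgroupOf L := by
    change (Q' : Subgroup (C ⧸ Cfsg.pPrimeCore 2 C)).subgroupOf L = _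
    have h1 := h.inf
    have h2 : (Q' : Subgroup (C ⧸ Cfsg.pPrimeCore 2 C)) =
      (Q : Subgroup C).map (QuotientGroup.mk' (Cfsg.pPrimeCore 2 C)) := Sylow.coe_mapSurjective _ _
    rw [h2, ← h1, inf_subgroupOf_left]
  have e1 : W ≃* W.map (QuotientGroup.mk' (Cfsg.pPrimeCore 2 C)) :=
    MulEquiv.ofBijective ((QuotientGroup.mk' (Cfsg.pPrimeCore 2 C)).subgroupMap W) ⟨by
      intro x y e
      have e' : QuotientGroup.mk' (Cfsg.pPrimeCore 2 C) ((x : C)⁻¹ * y) = 1 := by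
        have e2 : QuotientGroup.mk' (Cfsg.pPrimeCore 2 C) (x : C) = QuotientGroup.mk' (Cfsg.pPrimeCore 2 C) (y : C) :=
          congrArg Subtype.val e
        rw [map_mul, map_inv, e2, inv_mul_cancel]
      have h3 := eq_one_of_mem Q (mul_mem (inv_mem (hWQ x.2)) (hWQ y.2)) e'
      exact Subtype.ext (inv_mul_eq_one.1 h3), MonoidHom.subgroupMap_surjective _ _⟩
  have e2 : W ≃* (T : Subgroup L) := by
    rw [hT]
    exact e1.trans (subgroupOfEquivOfLe h.W_le).symm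
  refine ⟨T, TwoFusion.SylowTypeTransfer.isWreathed_of_mulEquiv e2 hW, ?_⟩
  have h4 := T.card_eq_multiplicity
  rw [← Nat.card_congr e2.toEquiv, hc] at h4
  exact (Nat.pow_right_injective le_rfl h4).symm

end syl

/-! ### The small fields -/

theorem psl_three {F : Type*} [Field F] [Fintype F] (h3 : Fintype.card F = 3) {K : Type*} [Group K]
    (e : K ≃* Matrix.ProjectiveSpecialLinearGroup (Fin 3) F) (h7 : 2 ^ 7 ∣ Nat.card K) : False := by
  have h1 := Cfsg.Agent.S0243.result h3 3 (by norm_num)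
  rw [← Nat.card_congr e.toEquiv, Fin.prod_univ_three] at h1
  norm_num only [_root_.one_mul, _root_.Fin.coe_ofNat_eq_mod, _root_.pow_zero, _root_.Nat.add_one_sub_one, _root_.pow_one] at h1
  obtain ⟨c, hc⟩ := h7
  rw [hc] at h1
  omega

theorem psu_three {F : Type*} [Field F] [Fintype F] (h3 : Fintype.card F = 3 ^ 2) {K : Type*} [Group K]
    (e : K ≃* Cfsg.PSU 3 F 3) (h7 : 2 ^ 7 ∣ Nat.card K) : False := by
  have h1 := Cfsg.Agent.S0280.result h3 3 (by norm_num)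
  rw [← Nat.card_congr e.toEquiv, Finset.prod_range_succ, Finset.prod_range_succ, Finset.prod_range_one] at h1
  simp only [Even.zero, if_true, Nat.not_even_one, if_false, even_two] at h1
  norm_num at h1
  obtain ⟨c, hc⟩ := h7
  rw [hc] at h1
  omega

theorem two_ne {F : Type*} [Field F] [Fintype F] (h : Odd (Fintype.card F)) : (2 : F) ≠ 0 :=
  two_ne_zero_of_odd (Nat.odd_iff.1 h)

/-- `PSL(3,F)`, `PSU(3,r)`: the standard `SL(2,q)`. -/
theorem exists_hasStd {K : Type u} [Group K] (h : CentXId.Mdl K) (h7 : 2 ^ 7 ∣ Nat.card K) :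
    ∃ (F : Type) (_ : Field F) (_ : Finite F), (2 : F) ≠ 0 ∧ 3 < Nat.card F ∧ HasStd K F ∧
      ((∃ (F1 : Type) (_ : Field F1) (_ : Fintype F1), Odd (Fintype.card F1) ∧ Fintype.card F1 = Nat.card F ∧
          Nonempty (K ≃* Matrix.ProjectiveSpecialLinearGroup (Fin 3) F1)) ∨
        (∃ (F1 : Type) (_ : Field F1) (_ : Fintype F1) (q : ℕ), Fintype.card F1 = q ^ 2 ∧ Odd q ∧ q = Nat.card F ∧
          Nonempty (K ≃* Cfsg.PSU 3 F1 q))) := by
  rcases h with ⟨F, _, _, hF, ⟨e⟩⟩ | ⟨F, _, _, q, hF, hq, ⟨e⟩⟩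
  · refine ⟨F, inferInstance, inferInstance, two_ne hF, ?_, (hasStd_psl (two_ne hF)).congr e,
      Or.inl ⟨F, inferInstance, inferInstance, hF, Nat.card_eq_fintype_card.symm, ⟨e⟩⟩⟩
    have h1 : 1 < Nat.card F := Finite.one_lt_card
    rw [Nat.card_eq_fintype_card] at h1 ⊢
    by_contra hcon
    obtain ⟨k, hk⟩ := hF
    exact psl_three (by omega) e h7
  · have hF' : Odd (Fintype.card F) := by rw [hF]; exact hq.pow
    have hc : Nat.card (Phan.fixedField hF) = q := Phan.card_fixedField hF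
    have h2 : (2 : Phan.fixedField hF) ≠ 0 := by
      intro h0
      apply two_ne hF'
      have := congrArg (Subfield.subtype (Phan.fixedField hF)) h0
      rwa [map_ofNat, map_zero] at this
    refine ⟨Phan.fixedField hF, inferInstance, inferInstance, h2, ?_, (hasStd_psu hF (two_ne hF')).congr e,
      Or.inr ⟨F, inferInstance, inferInstance, q, hF, hq, hc.symm, ⟨e⟩⟩⟩
    have h1 : 1 < Nat.card (Phan.fixedField hF) := Finite.one_lt_card
    rw [hc] at h1 ⊢
    by_contra hcon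
    obtain ⟨k, hk⟩ := hq
    obtain rfl : q = 3 := by omega
    exact psu_three hF e h7

/-! ### The comparison -/

section main

variable {G : Type u} [Group G] [Finite G]

omit [Finite G] in
theorem quo_mk (t : G) : Quo t (QuotientGroup.mk' (Cfsg.pPrimeCore 2 ↥(centralizer ({t} : Set G)))) where
  surj := QuotientGroup.mk'_surjective _
  ker x := by
    rw [QuotientGroup.mk'_apply, QuotientGroup.eq_one_iff]
    constructor
    · intro hx
      exact ⟨x, hx, rfl⟩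
    · rintro ⟨y, hy, e⟩
      rwa [← Subtype.ext e]

variable {m : ℕ} {f : R m → R m → R m → G} {u w : G} {P : Sylow 2 G}
  {X : Type*} [Group X] {p : ↥(centralizer ({z1 f} : Set G)) →* X} {K₁ K₂ : Subgroup X}

/-- Coverings of `A₇`: the element `f 0 0 M` centralises the factors. -/
theorem fix_seven_one [Finite X] (h : BOne (P : Subgroup G) m f u w)
    (hcz : CZPA (z1 f) p K₁ K₂ P (Qone f u) (Qtwo f u w)) :
    _root_.Cfsg.Agent.LFourB.CentXCz.Fix (p (self (z1 f))) K₁ (dn p (Qone f u)) := by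
  obtain ⟨⟨a1, a2⟩, -⟩ := odd_relIndex P h.S_le_centralizer hcz.toCZP (Qone_le h) (Qtwo_le h)
  obtain ⟨φ, hφ, hker⟩ := hcz.a₁
  intro c hc hn hq
  have hQK : dn p (Qone f u) ≤ K₁ := by
    intro x hx
    obtain ⟨g, hg, hgQ, rfl⟩ := mem_dn.1 hx
    exact (mem_up.1 (hcz.q₁ hgQ)).2
  refine FixSeven.fix_seven φ hφ hker (pz_ne h hcz.toCZP) hcz.perf₁ hc hQK a1 a2 ?_ hn hq
  intro x hx hxx
  obtain ⟨g, hg, hgQ, rfl⟩ := mem_dn.1 hx
  have hgS : g ∈ (P : Subgroup G) := Qone_le h hgQ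
  have h1 : g * g = 1 := by
    obtain ⟨k, hk⟩ := P.isPGroup' ⟨g * g, mul_mem hgS hgS⟩
    refine eq_one_of_two (quo hcz.toCZP) (m := k) (mul_mem hg hg) ?_ (congrArg Subtype.val hk)
    have h2 : p (⟨g, hg⟩ * ⟨g, hg⟩) = 1 := by rw [map_mul]; exact hxx
    exact h2
  obtain ⟨y, rfl⟩ := h.mem_Qone.1 hgQ
  rw [← h.qone_mul] at h1
  have h3 : y * y = 1 := by
    have h4 := h.tqq.f_inj (y * y) 1 1 1 (by rw [h.qq_one_right, h.qq_one_right, h1, h.qone_one])
    rcases h4 with h4 | h4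
    · exact h4.1
    · exfalso
      have h5 := h4.2
      rw [mul_one] at h5
      exact SylowSp4.Coord.z_ne_one h5.symm
  rcases SylowSp4.Coord.eq_of_sq_one h3 with h4 | h4
  · left
    subst h4
    have h5 : (⟨qone f u 1, hg⟩ : ↥(centralizer ({z1 f} : Set G))) = 1 := Subtype.ext h.qone_one
    rw [h5, map_one]
  · right
    subst h4
    exact congrArg p (Subtype.ext h.qone_z)

variable {Q : Sylow 2 ↥(centralizer ({x4 f} : Set G))} {ρ : ↥(centralizer ({x4 f} : Set G))}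

/-- The isomorphism type of `L` with its standard subgroup of order `|K₁|`. -/
theorem exists_card (hFT : ∀ (K : Type u) [Group K] [Finite K], Odd (Nat.card K) → Group.IsSolvable K)
    (h523 : ∀ (K : Type u) [Group K] [Finite K] [IsSimpleGroup K] (S : Sylow 2 K),
      Cfsg.IsWreathed (S : Subgroup K) →
      (∃ (F : Type) (_ : Field F) (_ : Fintype F), Odd (Fintype.card F) ∧
          Nonempty (K ≃* Matrix.ProjectiveSpecialLinearGroup (Fin 3) F)) ∨
        (∃ (F : Type) (_ : Field F) (_ : Fintype F) (q : ℕ), Fintype.card F = q ^ 2 ∧ Odd q ∧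
          Nonempty (K ≃* Cfsg.PSU 3 F q)) ∨
        Cfsg.IsM11 K)
    (h : BOne (P : Subgroup G) m f u w)
    (hcz : CZP (z1 f) p K₁ K₂ P (Qone f u) (Qtwo f u w)) (hKo : Cfsg.Agent.LFourA.KlOAbs.NoOdd K₁)
    (hF : _root_.Cfsg.Agent.LFourB.CentXCz.Fix (p (self (z1 f))) K₁ (dn p (Qone f u)))
    (hx : XDat Q m (lft (centralizer ({x4 f} : Set G)) f) ⟨u, h.cx_u_mem_cent⟩ ρ)
    {L : Subgroup ((centralizer ({x4 f} : Set G) : Subgroup G) ⧸
      Cfsg.pPrimeCore 2 (centralizer ({x4 f} : Set G) : Subgroup G))}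
    (hL : CentXTail.Out Q hx.Wr (Dd (lft (centralizer ({x4 f} : Set G)) f) ρ) L) :
    (Nat.card L).factorization 2 = 2 * m + 7 ∧
    ∃ (F : Type) (_ : Field F) (_ : Finite F), (2 : F) ≠ 0 ∧ 3 < Nat.card F ∧
      Nat.card K₁ = Nat.card F * (Nat.card F ^ 2 - 1) ∧
      ((∃ (F1 : Type) (_ : Field F1) (_ : Fintype F1), Odd (Fintype.card F1) ∧ Fintype.card F1 = Nat.card F ∧
          Nonempty (L ≃* Matrix.ProjectiveSpecialLinearGroup (Fin 3) F1)) ∨
        (∃ (F1 : Type) (_ : Field F1) (_ : Fintype F1) (q : ℕ), Fintype.card F1 = q ^ 2 ∧ Odd q ∧ q = Nat.card F ∧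
          Nonempty (L ≃* Cfsg.PSU 3 F1 q))) := by
  have hfact : Fact (Nat.Prime 2) := ⟨Nat.prime_two⟩
  have hs := hL.simple
  obtain ⟨T, hTw, hTc⟩ := exists_sylow hL hx.isWreathed hx.Wr_le hx.card_Wr
  have hTc' : (Nat.card L).factorization 2 = 2 * m + 7 := by rw [hTc]; ring
  refine ⟨hTc', ?_⟩
  have h7 : 2 ^ 7 ∣ Nat.card L := by
    have h8 : 2 ^ (Nat.card L).factorization 2 ∣ Nat.card L := Nat.ordProj_dvd _ _
    exact (pow_dvd_pow 2 (by omega)).trans h8
  obtain ⟨F, _, _, h2, h3, hstd, hmod⟩ := exists_hasStd (CentXId.exists_model h523 T hTw h7) h7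
  refine ⟨F, inferInstance, inferInstance, h2, h3, ?_, hmod⟩
  have hT := h.cx_T_le_cent
  have hz1 : z1 (lft (centralizer ({x4 f} : Set G)) f) ∈ hx.Wr :=
    hx.mem_Wr_of_phi (hx.Tor_le (hx.f_mem_Tor BOne.good1)) hx.phi_z1
  have hz3 : z3 (lft (centralizer ({x4 f} : Set G)) f) ∈ hx.Wr := by
    apply hx.Tone_le_Wr
    rw [← hx.ρ_z1]
    apply hx.ρ_mem_Tone
    refine ⟨hx.f_mem_Tor BOne.good1, ?_⟩
    have h1 := hx.phi_z1
    have h2 : z1 (lft (centralizer ({x4 f} : Set G)) f) ∈ Tor (lft (centralizer ({x4 f} : Set G)) f) :=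
      hx.f_mem_Tor BOne.good1
    rwa [hx.phi_T h2] at h1
  have e1 : ((z1 (lft (centralizer ({x4 f} : Set G)) f) : ↥(centralizer ({x4 f} : Set G))) : G) = z1 f :=
    h.cx_lft_coe hT BOne.good1
  have e3 : ((z3 (lft (centralizer ({x4 f} : Set G)) f) : ↥(centralizer ({x4 f} : Set G))) : G) = z3 f :=
    h.cx_lft_coe hT BOne.good3
  have hz1c : z1 f ∈ centralizer ({x4 f} : Set G) := by rw [← e1]; exact Subtype.prop _
  have hz3c : z3 f ∈ centralizer ({x4 f} : Set G) := by rw [← e3]; exact Subtype.prop _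
  have hne : K₁ ≠ ⊥ := by
    intro h0
    have h4 := hcz.z₁
    rw [h0, mem_bot] at h4
    exact pz_ne h hcz h4
  refine card_eq_std (z := z1 f) (t := x4 f) (s := z3 f) hFT (quo hcz) hcz.perf₁ hne hKo
    (fun y hy => exists_lift_one h hcz hF hy) (fun g hg hgx => norm_one h hcz hF hg hgx)
    (quo_mk (x4 f)) hL.normal hL.le_residual hL.odd hstd h2 h3 hz1c h.z1_mul_z1 (z1_ne h) ?_ hz3c ?_ ?_ ?_ ?_ ?_
  · refine hL.W_le ⟨z1 (lft (centralizer ({x4 f} : Set G)) f), hz1, ?_⟩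
    exact congrArg _ (Subtype.ext e1)
  · rw [z3, h.f_mul _ _ _ _ _ _ BOne.good3 BOne.good3, N_add_N, h.f_zero]
  · rw [z3, Ne, h.f_eq_one_iff BOne.good3]
    exact fun e => N_ne_zero e.1
  · refine hL.W_le ⟨z3 (lft (centralizer ({x4 f} : Set G)) f), hz3, ?_⟩
    exact congrArg _ (Subtype.ext e3)
  · exact h.f_comm BOne.good1 BOne.good3
  · rw [z1, z3, Ne, h.f_eq_iff BOne.good1 BOne.good3]
    exact fun e => N_ne_zero e.1.symm

/-- The isomorphism type of the simple section `L` of `C(x4)` and its relation to the field of `K₁`. -/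
def Cmp (m : ℕ) (L : Type u) [Group L] (q : ℕ) : Prop :=
  (∃ (F1 : Type) (_ : Field F1) (_ : Fintype F1), Fintype.card F1 = q ∧ q % 8 = 1 ∧ 2 ^ (m + 3) ∣ q - 1 ∧
      ¬ 2 ^ (m + 4) ∣ q - 1 ∧ Nonempty (L ≃* Matrix.ProjectiveSpecialLinearGroup (Fin 3) F1)) ∨
    (∃ (F1 : Type) (_ : Field F1) (_ : Fintype F1), Fintype.card F1 = q ^ 2 ∧ q % 8 = 7 ∧ 2 ^ (m + 3) ∣ q + 1 ∧
      ¬ 2 ^ (m + 4) ∣ q + 1 ∧ Nonempty (L ≃* Cfsg.PSU 3 F1 q))

theorem Cmp.typ {L : Type u} [Group L] {q : ℕ} (h : Cmp m L q) : Typ L := by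
  rcases h with ⟨F1, i1, i2, hc, h8, -, -, e⟩ | ⟨F1, i1, i2, hc, h8, -, -, e⟩
  · exact Or.inl ⟨F1, i1, i2, by rw [hc]; exact h8, e⟩
  · exact Or.inr ⟨F1, i1, i2, q, hc, h8, e⟩

/-- **The factors of `C(z1)` are `SL(2,q)`, and the simple section of `C(x4)` is `PSL(3,q)` with `q = 1 mod 8` or
`PSU(3,q)` with `q = 7 mod 8`.** -/
theorem main (hFT : ∀ (K : Type u) [Group K] [Finite K], Odd (Nat.card K) → Group.IsSolvable K)
    (h523 : ∀ (K : Type u) [Group K] [Finite K] [IsSimpleGroup K] (S : Sylow 2 K),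
      Cfsg.IsWreathed (S : Subgroup K) →
      (∃ (F : Type) (_ : Field F) (_ : Fintype F), Odd (Fintype.card F) ∧
          Nonempty (K ≃* Matrix.ProjectiveSpecialLinearGroup (Fin 3) F)) ∨
        (∃ (F : Type) (_ : Field F) (_ : Fintype F) (q : ℕ), Fintype.card F = q ^ 2 ∧ Odd q ∧
          Nonempty (K ≃* Cfsg.PSU 3 F q)) ∨
        Cfsg.IsM11 K)
    (h : BOne (P : Subgroup G) m f u w)
    (hx : XDat Q m (lft (centralizer ({x4 f} : Set G)) f) ⟨u, h.cx_u_mem_cent⟩ ρ)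
    {L : Subgroup ((centralizer ({x4 f} : Set G) : Subgroup G) ⧸
      Cfsg.pPrimeCore 2 (centralizer ({x4 f} : Set G) : Subgroup G))}
    (hL : CentXTail.Out Q hx.Wr (Dd (lft (centralizer ({x4 f} : Set G)) f) ρ) L)
    (hK : (∃ (F : Type) (_ : Field F) (_ : Fintype F), Odd (Fintype.card F) ∧
        CZPL (z1 f) F p K₁ K₂ (P : Subgroup G) (Qone f u) (Qtwo f u w)) ∨
      (m = 0 ∧ CZPA (z1 f) p K₁ K₂ (P : Subgroup G) (Qone f u) (Qtwo f u w))) :
    ∃ (F : Type) (_ : Field F) (_ : Fintype F), Odd (Fintype.card F) ∧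
      CZPL (z1 f) F p K₁ K₂ (P : Subgroup G) (Qone f u) (Qtwo f u w) ∧ Cmp m L (Fintype.card F) := by
  rcases hK with ⟨F, _, _, hodd, hcz⟩ | ⟨-, hcz⟩
  · have : Finite X := Finite.of_surjective p hcz.surj
    refine ⟨F, inferInstance, inferInstance, hodd, hcz, ?_⟩
    obtain ⟨e⟩ := hcz.e₁
    have hcK : Nat.card K₁ = Nat.card F * (Nat.card F ^ 2 - 1) := card_of_sl e
    have hfac := factorization_one h hcz.toCZP
    have h2 : (2 : F) ≠ 0 := two_ne hodd
    have h1 : 1 < Nat.card F := Finite.one_lt_card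
    have h3 : 3 < Nat.card F := by
      rw [← Nat.card_eq_fintype_card] at hodd
      by_contra hcon
      obtain ⟨k, hk⟩ := hodd
      have h4 : Nat.card F = 3 := by omega
      rw [hcK, h4] at hfac
      have h5 : (3 * (3 ^ 2 - 1)).factorization 2 = 3 := by
        rw [show 3 * (3 ^ 2 - 1) = 2 ^ 3 * 3 by norm_num, Nat.factorization_mul (by norm_num) (by norm_num),
          Finsupp.add_apply, Nat.Prime.factorization_pow Nat.prime_two, Finsupp.single_eq_same,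
          Nat.factorization_eq_zero_of_not_dvd (by norm_num)]
      omega
    obtain ⟨hLf, F', _, _, h2', h3', hc, hmod⟩ := exists_card hFT h523 h hcz.toCZP (sl_noOdd h2 h3 e)
      (fix_sl h2 h hcz).1 hx hL
    have hFF : Nat.card F = Nat.card F' := by
      apply Cfsg.Agent.LFourA.KlOAbs.eq_of_cubic _ h1 (by omega)
      rw [← hcK, hc]
    rw [hc] at hfac
    rw [← Nat.card_eq_fintype_card, hFF]
    rcases hmod with ⟨F1, i1, i2, ho, hc1, ⟨e1⟩⟩ | ⟨F1, i1, i2, r, hc1, ho, hr, ⟨e1⟩⟩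
    · left
      rw [← hc1] at hfac
      have h5 := CentXId.plus ho e1 hLf hfac
      exact ⟨F1, i1, i2, hc1, hc1 ▸ h5.2.2, hc1 ▸ h5.1, hc1 ▸ h5.2.1, ⟨e1⟩⟩
    · right
      subst hr
      have h5 := CentXId.minus hc1 ho e1 hLf hfac
      exact ⟨F1, i1, i2, hc1, h5.2.2, h5.1, h5.2.1, ⟨e1⟩⟩
  · exfalso
    have : Finite X := Finite.of_surjective p hcz.surj
    obtain ⟨φ, hφ, hker⟩ := hcz.a₁
    obtain ⟨-, F', _, _, h2', h3', hc, -⟩ := exists_card hFT h523 h hcz.toCZP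
      (seven_noOdd φ hφ hker (pz_sq h hcz.toCZP)) (fix_seven_one h hcz) hx hL
    rw [seven_card φ hφ hker (pz_ne h hcz.toCZP) hcz.z₁] at hc
    exact seven_ne hc

end main

end Cfsg.Agent.LFourB.CentXCmp
end

-- part: LFourB/BOneFacts
section
/-!
# Type B1: the facts on `C(z1)` and `C(x4)` in one theorem
-/

set_option autoImplicit false

namespace Cfsg.Agent.LFourB.BOneFacts

open Subgroup Cfsg.Agent.LFourB Cfsg.Agent.LFourB.FusA Cfsg.Agent.LFourB.ProdCent Cfsg.Agent.SylowSp4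
open Cfsg.Agent.LFourB.EssFive (DData)
open Cfsg.Agent.LFourB.EssTwo (Full)

universe v

/-! ### The dihedral group induced by `S` -/

theorem exists_d8 : ∀ σ : Equiv.Perm (Fin 4), (σ 0).val / 2 = (σ 1).val / 2 → ∃ i j k, σ = d8 i j k := by
  decide +kernel

section sf

variable {G : Type*} [Group G] {S T TT J S0 : Subgroup G} {z z' : G} {X : Fin 4 → G}

/-- The permutations of the `X i` induced by `S`. -/
def permS (S : Subgroup G) (X : Fin 4 → G) : Subgroup (Equiv.Perm (Fin 4)) where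
  carrier := {σ | ∃ n ∈ S, ∀ i, n * X i * n⁻¹ = X (σ i)}
  mul_mem' := by
    rintro σ τ ⟨a, ha, ha'⟩ ⟨b, hb, hb'⟩
    refine ⟨a * b, mul_mem ha hb, fun i => ?_⟩
    rw [Equiv.Perm.mul_apply, ← ha', ← hb']; group
  one_mem' := ⟨1, one_mem _, fun i => by simp⟩
  inv_mem' := by
    rintro σ ⟨a, ha, ha'⟩
    refine ⟨a⁻¹, inv_mem ha, fun i => ?_⟩
    have h1 := ha' (σ⁻¹ i)
    have h2 : σ (σ⁻¹ i) = i := σ.apply_symm_apply i
    rw [h2] at h1
    rw [← h1]; group

theorem permS_tau (h : SF S T TT J S0 z z' X) : Equiv.swap 0 1 ∈ permS S X := by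
  obtain ⟨s, hs, h0, h1, h2, h3⟩ := h.tau
  refine ⟨s, hs, fun i => ?_⟩
  fin_cases i
  · exact h0
  · exact h1
  · exact h2
  · exact h3

theorem permS_sg (h : SF S T TT J S0 z z' X) : Equiv.swap 0 2 * Equiv.swap 1 3 ∈ permS S X := by
  obtain ⟨s, hs, h0, h1, h2, h3⟩ := h.sg'
  refine ⟨s, hs, fun i => ?_⟩
  fin_cases i
  · exact h0
  · exact h1
  · exact h2
  · exact h3

theorem permS_tau' (h : SF S T TT J S0 z z' X) : Equiv.swap (2 : Fin 4) 3 ∈ permS S X := by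
  have e : (Equiv.swap (2 : Fin 4) 3 : Equiv.Perm (Fin 4)) = (Equiv.swap (0 : Fin 4) 2 * Equiv.swap (1 : Fin 4) 3) * Equiv.swap (0 : Fin 4) 1 *
      (Equiv.swap (0 : Fin 4) 2 * Equiv.swap (1 : Fin 4) 3)⁻¹ := by decide
  rw [e]
  exact mul_mem (mul_mem (permS_sg h) (permS_tau h)) (inv_mem (permS_sg h))

theorem permS_d8 (h : SF S T TT J S0 z z' X) (i j k : Bool) : d8 i j k ∈ permS S X := by
  unfold d8
  refine mul_mem (mul_mem ?_ ?_) ?_
  · cases i
    · exact one_mem _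
    · exact permS_tau h
  · cases j
    · exact one_mem _
    · exact permS_tau' h
  · cases k
    · exact one_mem _
    · exact permS_sg h

theorem pair_eq (h : SF S T TT J S0 z z' X) {i j : Fin 4} (hij : X i * X j = z) : i.val / 2 = j.val / 2 := by
  have key : ∀ {a b : Fin 4}, X a * X b = z → ∀ c, X a * X c = z → c = b := by
    intro a b hab c hac
    exact h.X_inj (mul_left_cancel (hac.trans hab.symm))
  have h01 := h.X01
  have h23 := h.X23
  have h10 : X 1 * X 0 = z := by rw [h.T_comm _ (h.X_mem 1) _ (h.X_mem 0), h01]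
  have h32 : X 3 * X 2 = z := by rw [h.T_comm _ (h.X_mem 3) _ (h.X_mem 2), h23]
  fin_cases i
  · rw [key h01 j hij]; rfl
  · rw [key h10 j hij]; rfl
  · rw [key h23 j hij]; rfl
  · rw [key h32 j hij]; rfl

/-- In `C(z)` the normaliser of `T` acts on `T` as `S`. -/
theorem exists_mem_S [Finite G] {P : Sylow 2 G} (h : SF (P : Subgroup G) T TT J S0 z z' X) {g : G}
    (hg : g ∈ centralizer ({z} : Set G)) (hn : g ∈ normalizer (T : Set G)) :
    ∃ s ∈ (P : Subgroup G), ∀ a ∈ T, g * a * g⁻¹ = s * a * s⁻¹ := by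
  obtain ⟨σ, hσ⟩ := exists_perm h hn
  have h1 : X (σ 0) * X (σ 1) = z := by
    rw [← hσ, ← hσ]
    have h2 : g * z = z * g := mem_centralizer_singleton_iff.1 hg
    calc g * X 0 * g⁻¹ * (g * X 1 * g⁻¹) = g * (X 0 * X 1) * g⁻¹ := by group
      _ = z := by rw [h.X01, h2, mul_inv_cancel_right]
  obtain ⟨i, j, k, hd⟩ := exists_d8 σ (pair_eq h h1)
  obtain ⟨s, hs, hs'⟩ := permS_d8 h i j k
  rw [← hd] at hs'
  refine ⟨s, hs, fun a ha => ?_⟩
  have h3 : s⁻¹ * g ∈ normalizer (T : Set G) := mul_mem (inv_mem (S_le_norm h hs)) hn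
  have h4 := cent_of_X h h3 (fun i => by
    have e1 : g * X i = s * X i * s⁻¹ * g := by
      rw [hs' i, ← hσ i]; group
    rw [mul_assoc, e1]; group) a ha
  calc g * a * g⁻¹ = s * ((s⁻¹ * g) * a) * g⁻¹ := by group
    _ = s * (a * (s⁻¹ * g)) * g⁻¹ := by rw [h4]
    _ = s * a * s⁻¹ := by group

end sf

/-! ### The residual of `C(z1)` -/

section

variable {G : Type v} [Group G] [Finite G] {P : Sylow 2 G} {m : ℕ} {f : R m → R m → R m → G} {u w : G}

theorem residual_inf (h : BOne (P : Subgroup G) m f u w) {d : G} (hd : DData f u d) {H0 : Subgroup G}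
    (hidx : H0.relIndex (centralizer ({z1 f} : Set G)) = 2) (hSH0 : (P : Subgroup G) ⊓ H0 = TVp f u w) :
    (Cfsg.pResidual 2 (centralizer ({z1 f} : Set G))).map (centralizer ({z1 f} : Set G)).subtype ⊓
      (P : Subgroup G) = Qone f u ⊔ Qtwo f u w := by
  have hfact : Fact (Nat.Prime 2) := ⟨Nat.prime_two⟩
  have hsf := h.e_sf
  refine h.pResidual_inf P (centralizer ({z1 f} : Set G)) H0 h.S_le_centralizer hidx hSH0 ?_ ?_
  · refine h.control P (centralizer ({z1 f} : Set G)) h.S_le_centralizer (fun g hg hga => wcl hsf hga) ?_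
    intro g hg hga
    exact exists_mem_S hsf hg (mem_normalizer_fintype hga)
  · -- `u x1 = d h1 d⁻¹`, `h1 = [d, u x1]`
    have hdz : d ∈ centralizer ({z1 f} : Set G) := by
      rw [mem_centralizer_singleton_iff]
      exact hd.comm _ (h.mem_Bu.2 ⟨0, N m, BOne.good1, rfl⟩)
    have hxS : u * x1 f ∈ (P : Subgroup G) := mul_mem h.u_mem (h.f_mem_S BOne.goodx1)
    have hx : u * x1 f ∈ centralizer ({z1 f} : Set G) := h.S_le_centralizer hxS
    have hh : h1 f ∈ centralizer ({z1 f} : Set G) := h.S_le_centralizer (h.f_mem_S BOne.goodh1)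
    have hn : (Cfsg.pResidual 2 (centralizer ({z1 f} : Set G))).Normal := Transfer.Residual.pResidual_normal 2
    have hdO : (⟨d, hdz⟩ : centralizer ({z1 f} : Set G)) ∈ Cfsg.pResidual 2 (centralizer ({z1 f} : Set G)) := by
      apply Transfer.Residual.mem_pResidual_of_coprime
      rw [Subgroup.orderOf_mk]
      exact (Nat.Prime.coprime_iff_not_dvd Nat.prime_two).2 hd.odd |>.symm
    have h1O : (⟨h1 f, hh⟩ : centralizer ({z1 f} : Set G)) ∈ Cfsg.pResidual 2 (centralizer ({z1 f} : Set G)) := by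
      have h3 := mul_mem hdO (hn.conj_mem _ (inv_mem hdO) ⟨u * x1 f, hx⟩)
      have h4 : (⟨d, hdz⟩ : centralizer ({z1 f} : Set G)) * (⟨u * x1 f, hx⟩ * (⟨d, hdz⟩ : centralizer ({z1 f} : Set G))⁻¹ *
          (⟨u * x1 f, hx⟩ : centralizer ({z1 f} : Set G))⁻¹) = ⟨h1 f, hh⟩ := by
        apply Subtype.ext
        change d * (u * x1 f * d⁻¹ * (u * x1 f)⁻¹) = h1 f
        have h5 := hd.two
        calc d * (u * x1 f * d⁻¹ * (u * x1 f)⁻¹) = (d * (u * x1 f) * d⁻¹) * (u * x1 f)⁻¹ := by group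
          _ = h1 f := by rw [h5, mul_inv_cancel_right]
      rwa [h4] at h3
    refine ⟨⟨u * x1 f, hx⟩, ?_, rfl⟩
    have h3 := hn.conj_mem _ h1O ⟨d, hdz⟩
    have h4 : (⟨d, hdz⟩ : centralizer ({z1 f} : Set G)) * ⟨h1 f, hh⟩ * (⟨d, hdz⟩ : centralizer ({z1 f} : Set G))⁻¹ =
        ⟨u * x1 f, hx⟩ := Subtype.ext hd.one
    rwa [h4] at h3

end

/-! ### The facts -/

/-- The facts on `C(z1)` and `C(x4)` in type B1. -/
structure Facts {G : Type v} [Group G] [Finite G] (P : Sylow 2 G) (m : ℕ) (f : R m → R m → R m → G) (u w : G)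
    (F : Type) [Field F] [Fintype F]
    (K₁ K₂ : Subgroup (centralizer ({z1 f} : Set G) ⧸ Cfsg.oddCore (centralizer ({z1 f} : Set G))))
    (Q : Sylow 2 ↥(centralizer ({x4 f} : Set G))) (ρ : ↥(centralizer ({x4 f} : Set G)))
    (L : Subgroup ((centralizer ({x4 f} : Set G) : Subgroup G) ⧸
      Cfsg.pPrimeCore 2 (centralizer ({x4 f} : Set G) : Subgroup G))) : Prop where
  one : BOne (P : Subgroup G) m f u w
  full : Full (Sx f u) (Ru f u) f
  d : ∃ d, d * x4 f = x4 f * d ∧ DData f u d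
  dd : ∃ d, DD f u d 0
  z12 : ∃ g : G, g * z1 f * g⁻¹ = z2 f
  perm : ∀ σ : Equiv.Perm (Fin 4), ∃ n ∈ normalizer (Tor f : Set G), ∀ i, n * X f i * n⁻¹ = X f (σ i)
  fix : ∀ n ∈ normalizer (Tor f : Set G), (∀ i, n * X f i = X f i * n) → ∀ t ∈ Tor f, n * t = t * n
  index : ∃ H0 : Subgroup G, H0 ≤ centralizer ({z1 f} : Set G) ∧ H0.relIndex (centralizer ({z1 f} : Set G)) = 2 ∧
    centralizer ({z1 f} : Set G) ≤ normalizer (H0 : Set G) ∧ (P : Subgroup G) ⊓ H0 = TVp f u w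
  Q_eq : (Q : Subgroup (centralizer ({x4 f} : Set G))) = (Sx f u).subgroupOf (centralizer ({x4 f} : Set G))
  x : XDat Q m (lft (centralizer ({x4 f} : Set G)) f) ⟨u, one.cx_u_mem_cent⟩ ρ
  out : CentXTail.Out Q x.Wr (Dd (lft (centralizer ({x4 f} : Set G)) f) ρ) L
  odd : Odd (Fintype.card F)
  cz : CZPL (z1 f) F (Cfsg.Agent.LFourA.Quot.pr (centralizer ({z1 f} : Set G))) K₁ K₂ (P : Subgroup G) (Qone f u)
    (Qtwo f u w)
  cmp : CentXCmp.Cmp m L (Fintype.card F)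

/-- **The facts in type B1.** -/
theorem exists_facts {G : Type v} [Group G] [Finite G] [IsSimpleGroup G]
    (hFT : ∀ (K : Type v) [Group K] [Finite K], Odd (Nat.card K) → Group.IsSolvable K)
    (h523 : ∀ (K : Type v) [Group K] [Finite K] [IsSimpleGroup K] (S : Sylow 2 K),
      Cfsg.IsWreathed (S : Subgroup K) →
      (∃ (F : Type) (_ : Field F) (_ : Fintype F), Odd (Fintype.card F) ∧
          Nonempty (K ≃* Matrix.ProjectiveSpecialLinearGroup (Fin 3) F)) ∨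
        (∃ (F : Type) (_ : Field F) (_ : Fintype F) (q : ℕ), Fintype.card F = q ^ 2 ∧ Odd q ∧
          Nonempty (K ≃* Cfsg.PSU 3 F q)) ∨
        Cfsg.IsM11 K)
    (hPT : Hyps.ProductThm.{v}) (hGW : Hyps.GW.{v})
    (P : Sylow 2 G) {m : ℕ} {f : R m → R m → R m → G} {u w : G} (h : BOne (P : Subgroup G) m f u w) :
    ∃ (u' : G) (F : Type) (_ : Field F) (_ : Fintype F)
      (K₁ K₂ : Subgroup (centralizer ({z1 f} : Set G) ⧸ Cfsg.oddCore (centralizer ({z1 f} : Set G))))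
      (Q : Sylow 2 ↥(centralizer ({x4 f} : Set G))) (ρ : ↥(centralizer ({x4 f} : Set G)))
      (L : Subgroup ((centralizer ({x4 f} : Set G) : Subgroup G) ⧸
        Cfsg.pPrimeCore 2 (centralizer ({x4 f} : Set G) : Subgroup G))), Facts P m f u' w F K₁ K₂ Q ρ L := by
  obtain ⟨u', -, h', hF, ⟨d, hdx, hd⟩, hdd, hz, hperm, hfix, ⟨H0, hH1, hH2, hH3, hH4⟩⟩ := EssEight.start h
  obtain ⟨Q, hQ, ρ, hx⟩ := CentXFinal.exists_xdat h' (fun φ => EssEight.hom_eq_one h' φ u') hd hdx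
  obtain ⟨L, hL⟩ := hx.exists_out
  obtain ⟨K₁, K₂, hK⟩ := h'.exists_factors P (residual_inf h' hd hH2 hH4) hPT hGW
  obtain ⟨F, i1, i2, hodd, hcz, hcmp⟩ := CentXCmp.main hFT h523 h' hx hL hK
  exact ⟨u', F, i1, i2, K₁, K₂, Q, ρ, L, ⟨h', hF, ⟨d, hdx, hd⟩, hdd, hz, hperm, hfix, ⟨H0, hH1, hH2, hH3, hH4⟩, hQ, hx,
    hL, hodd, hcz, hcmp⟩⟩

end Cfsg.Agent.LFourB.BOneFacts
end

-- part: LFourB/KEndB
section
/-!
# S0510, type B1: the completion `W` is trivial, so the swaps invert `O(C(z1))`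
-/

set_option autoImplicit false
set_option linter.unusedSectionVars false

namespace Cfsg.Agent.LFourB.KEndB

open Subgroup Cfsg Cfsg.Agent.LFourB Cfsg.Agent.LFourB.KTrans Cfsg.Agent.LFourB.ProdCent
open Cfsg.Agent.LFourA.CzCt Cfsg.Agent.LFourA.KlQuot Cfsg.Agent.LFourB.KLoc Cfsg.Agent.LFourB.KForm
open Cfsg.Agent.Lib.SymFrame
open Cfsg.Agent.StandardComponent (CentCore.core_le CentCore.core_odd CentCore.core_conj_mem)

variable {G X : Type*} [Group G] [Group X] [Finite G]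
  {P : Sylow 2 G} {m : ℕ} {f : R m → R m → R m → G} {u w : G}
  {p : ↥(centralizer ({z1 f} : Set G)) →* X} {K₁ K₂ : Subgroup X} {F : Type*} [Field F] [Fintype F] {n x y : G}

theorem up_conj {g : G} (hg : g ∈ centralizer ({z1 f} : Set G)) {K K' : Subgroup X}
    (h : ∀ a ∈ K, p ⟨g, hg⟩ * a * (p ⟨g, hg⟩)⁻¹ ∈ K') : ∀ a ∈ up p K, g * a * g⁻¹ ∈ up p K' := by
  intro a ha
  obtain ⟨h1, h2⟩ := mem_up.1 ha
  refine mem_up.2 ⟨mul_mem (mul_mem hg h1) (inv_mem hg), ?_⟩
  have h3 := h _ h2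
  rw [← map_inv, ← map_mul, ← map_mul] at h3
  exact h3

/-- **`C(z1), N(T) ≤ M`.** -/
theorem cent_norm_le (h : BOne (P : Subgroup G) m f u w)
    (hl : CZPL (z1 f) F p K₁ K₂ (P : Subgroup G) (Qone f u) (Qtwo f u w))
    (hc : Conf (P : Subgroup G) m f u w n x y) {M : Subgroup G} (hn : n ∈ M) (hE : EE f x y ≤ M)
    (hK : K₁ ≤ dn p M ∧ K₂ ≤ dn p M)
    (hodd : ∀ K : Subgroup G, ¬ 2 ∣ Nat.card K → (∀ b ∈ EE f x y, ∀ a ∈ K, b * a * b⁻¹ ∈ K) → K ≤ M) :
    centralizer ({z1 f} : Set G) ≤ M ∧ normalizer (Tor f : Set G) ≤ M := by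
  have hPC : (P : Subgroup G) ≤ centralizer ({z1 f} : Set G) := h.S_le_centralizer
  have hEP : EE f x y ≤ (P : Subgroup G) := hc.fa.e16.le
  have hEC : EE f x y ≤ centralizer ({z1 f} : Set G) := hEP.trans hPC
  have hO : centralizerPPrimeCore 2 (z1 f) ≤ M := by
    refine hodd _ ?_ ?_
    · have h1 := CentCore.core_odd (G := G) (z1 f)
      exact fun h3 => (Nat.not_even_iff_odd.mpr h1) (even_iff_two_dvd.mpr h3)
    · intro b hb a ha
      exact CentCore.core_conj_mem (mem_centralizer_singleton_iff.mp (hEC hb)) ha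
  have hq : Quo (z1 f) p := ⟨hl.surj, hl.ker⟩
  have hU1 : up p K₁ ≤ M := up_le_of_dn hq hO hK.1
  have hU2 : up p K₂ ≤ M := up_le_of_dn hq hO hK.2
  have hy : y ∈ M := hE (_root_.Subgroup.subset_closure (Or.inr (Or.inr (Or.inr rfl))))
  have e1 : ∀ a : R m, f (2 * a) 0 (-a) ∈ M := fun a =>
    hU1 (hl.q₁ (_root_.Subgroup.subset_closure (Or.inl ⟨a, rfl⟩)))
  have e2 : ∀ a : R m, f 0 (2 * a) a ∈ M := fun a =>
    hU2 (hl.q₂ (_root_.Subgroup.subset_closure (Or.inl ⟨a, rfl⟩)))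
  have h0 : ∀ a b : R m, f (2 * a) (2 * b) (b - a) ∈ M := by
    intro a b
    have h1 := mul_mem (e1 a) (e2 b)
    rw [h.f_mul _ _ _ _ _ _ (BOne.goodq1 a) (BOne.goodq2 b)] at h1
    have h2 : 2 * a + 0 = 2 * a := by ring
    have h3 : 0 + 2 * b = 2 * b := by ring
    have h4 : -a + b = b - a := by ring
    rwa [h2, h3, h4] at h1
  have hu : u * x1 f ∈ M := hU1 (hl.q₁ (_root_.Subgroup.subset_closure (Or.inr rfl)))
  have hPM := hc.P_le h hn hy h0 hu
  have hC : centralizer ({z1 f} : Set G) ≤ M := by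
    refine cent_le h (U1 := up p K₁) (U2 := up p K₂) (E := EE f x y) ?_ ?_ (up_le p K₁) (up_le p K₂) hl.q₁ hl.q₂
      hl.s₁ hl.s₂ hU1 hU2 hPM hEP hodd
    · intro g hg
      rcases hl.norm (p ⟨g, hg⟩) with ⟨h1, h2⟩ | ⟨h1, h2⟩
      · exact Or.inl ⟨up_conj hg h1, up_conj hg h2⟩
      · exact Or.inr ⟨up_conj hg h1, up_conj hg h2⟩
    · intro g hg ho
      have h3 : Odd (orderOf (p ⟨g, hg⟩)) := by
        refine Odd.of_dvd_nat ?_ (orderOf_map_dvd p _)
        rwa [Subgroup.orderOf_mk]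
      obtain ⟨h1, h2⟩ := hl.odd _ h3
      exact ⟨up_conj hg h1, up_conj hg h2⟩
  refine ⟨hC, hc.norm_tor_le h hn hPM ((centralizer_le ?_).trans hC)⟩
  rw [Set.singleton_subset_iff]
  exact h.f_mem_Tor BOne.good1

theorem eq_bot_of_odd [IsSimpleGroup G] {W : Subgroup G} (hW : ¬ 2 ∣ Nat.card W) (h2 : 2 ∣ Nat.card G)
    (hN : normalizer (W : Set G) = ⊤) : W = ⊥ := by
  have hn : W.Normal := normalizer_eq_top_iff.1 hN
  rcases hn.eq_bot_or_eq_top with h1 | h1
  · exact h1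
  · exfalso
    apply hW
    rw [h1, card_top]
    exact h2

theorem two_dvd (h : BOne (P : Subgroup G) m f u w) (hc : Conf (P : Subgroup G) m f u w n x y) :
    2 ∣ Nat.card G := by
  have h1 : Nat.card (EE f x y) ∣ Nat.card G := card_subgroup_dvd_card _
  rw [hc.fa.e16.card] at h1
  exact dvd_trans (by norm_num) h1

/-- **The swaps invert `O(C(z1))`.** -/
theorem inv_core [IsSimpleGroup G] (h : BOne (P : Subgroup G) m f u w)
    (hl : CZPL (z1 f) F p K₁ K₂ (P : Subgroup G) (Qone f u) (Qtwo f u w))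
    (hc : Conf (P : Subgroup G) m f u w n x y) (h2 : (2 : F) ≠ 0)
    (h8 : (Fintype.card F % 8 = 1 ∨ Fintype.card F % 8 = 7))
    (hcl : ∀ M : Subgroup G, centralizer ({z1 f} : Set G) ≤ M → normalizer (Tor f : Set G) ≤ M → M = ⊤)
    {b : G} (hb : b ∈ EE f x y) (hbH : b ∉ HH f x) {a : G} (ha : a ∈ centralizerPPrimeCore 2 (z1 f)) :
    b * a * b⁻¹ = a⁻¹ := by
  have l := KInstB.locB h hl hc
  have o := KInstB.orbB h h2 hl hc
  have hF1 : 1 < Fintype.card F := Fintype.one_lt_card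
  by_cases h11 : 11 ≤ Fintype.card F
  · obtain ⟨W, hW⟩ := l.exists_completion o h2
    have hWE : normalizer (EE f x y : Set G) ≤ normalizer (W : Set G) :=
      hW.norm _ le_rfl (by rw [hW.card]; norm_num)
    obtain ⟨h3, h4⟩ := cent_norm_le h hl hc (hWE hc.n_E) (le_normalizer.trans hWE) (l.le_dn o h2 (by omega) (by
      intro b hb hbH
      refine l.diag_mem_two o h2 h11 hb hbH ?_
      intro v hv hv1 hvz x' hxz hxv hxb
      refine KClose.mem_of_comm (hW.norm (_root_.Subgroup.closure {z1 f, v, b}) ?_ (KClose.card_zvb o hv hv1 hvz hbH)) ?_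
      · rw [closure_le]
        rintro c (rfl | rfl | hc')
        · exact o.z_memE
        · exact o.le hv
        · rw [Set.mem_singleton_iff.mp hc']; exact hb
      · rintro c (rfl | rfl | hc')
        · exact hxz
        · exact hxv
        · rw [Set.mem_singleton_iff.mp hc']; exact hxb)) hW.le_normalizer
    have h5 := eq_bot_of_odd hW.odd (two_dvd h hc) (hcl _ h3 h4)
    subst h5
    exact l.inv_core o h2 hW hb hbH ha
  · have hF : ∃ a : ℕ, (Nat.card F % 4 = 1 ∧ Nat.card F - 1 = 2 ^ a) ∨ (Nat.card F % 4 = 3 ∧ Nat.card F + 1 = 2 ^ a) := by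
      refine ⟨3, ?_⟩
      rw [Nat.card_eq_fintype_card]
      rcases h8 with h8 | h8
      · left; omega
      · right; omega
    obtain ⟨W, hW⟩ := l.exists_completion_one o h2 hF
    have hE16 : Nat.card (EE f x y) = 16 := hc.fa.e16.card
    have hWE : normalizer (EE f x y : Set G) ≤ normalizer (W : Set G) :=
      hW.norm _ le_rfl (by rw [hE16]; norm_num)
    obtain ⟨h3, h4⟩ := cent_norm_le h hl hc (hWE hc.n_E) (le_normalizer.trans hWE) (l.le_dn o h2 (by omega) (by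
      intro b hb hbH
      refine l.diag_mem_one o hb hbH ?_
      intro x' hxz hxb
      refine KClose.mem_of_comm (hW.norm (_root_.Subgroup.closure {z1 f, b}) (KClose.card_zb_le o hb) (KClose.card_zv o ?_ ?_)) ?_
      · rintro rfl
        exact hbH (one_mem _)
      · rintro rfl
        exact hbH o.z_mem
      · rintro c (rfl | hc')
        · exact hxz
        · rw [Set.mem_singleton_iff.mp hc']; exact hxb)) hW.le_normalizer
    have h5 := eq_bot_of_odd hW.odd (two_dvd h hc) (hcl _ h3 h4)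
    have h6 := hW.core_le o.z_memE o.z_ne ha
    rw [h5, mem_bot] at h6
    rw [h6]
    group

end Cfsg.Agent.LFourB.KEndB
end

private theorem dce_176b67b5d683 : _root_.True := by
  try have : _root_.True := by simp only [_root_.Cfsg.Agent.LFourB.CentXCz.cz.eq_1]
  try have : _root_.True := by simp only [_root_.Cfsg.Agent.LFourB.CentXCz.im.congr_simp]
  try have : _root_.True := by simp only [_root_.Cfsg.Agent.LFourB.KPair.iq.eq_1]
  try have : _root_.True := by simp only [_root_.Cfsg.Agent.LFourB.h2.eq_1]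
  exact _root_.True.intro
end

-- part: LFourB/BOneEnd
section
set_option linter.all false
open scoped Cfsg.Agent.FastGrp

/-!
# Type B1: from the data in `C(z1)` and `C(x4)` to `PSL₄(q)`, `PSU₄(q)`
-/

set_option autoImplicit false
set_option linter.unusedSectionVars false

namespace Cfsg.Agent.LFourB.BOneEnd

open Subgroup Cfsg Cfsg.Agent.LFourB Cfsg.Agent.LFourB.BOne Cfsg.Agent.LFourB.RDefs Cfsg.Agent.LFourB.CzB
open Cfsg.Agent.LFourB.RDefs.RIn Cfsg.Agent.LFourA.CzCt Cfsg.Agent.LFourB.RCon Cfsg.Agent.J2Sylow.Functor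

variable {G E : Type*} [Group G] [Group E] [Finite G]
  {P : Sylow 2 G} {m : ℕ} {f : R m → R m → R m → G} {u w : G}
  {p : ↥(centralizer ({z1 f} : Set G)) →* E} {K₁ K₂ : Subgroup E} {F : Type*} [Field F] [Fintype F] {y : G}

/-- The homomorphism `L1 → SL₂(F)`. -/
theorem exists_pi (I : RCon.In P m f u w F p K₁ K₂ y) :
    ∃ π : perf (up p K₁) →* Matrix.SpecialLinearGroup (Fin 2) F, Function.Surjective π ∧
      π.ker ≤ center (perf (up p K₁)) ∧ Odd (Nat.card π.ker) := by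
  obtain ⟨e⟩ := I.hz.e₁
  have hle : perf (up p K₁) ≤ centralizer ({z1 f} : Set G) := (perf_le _).trans (up_le p _)
  have hK : ∀ x : perf (up p K₁), p (inclusion hle x) ∈ K₁ := by
    intro x
    obtain ⟨mx, hx⟩ := mem_up.1 (perf_le _ x.2)
    exact hx
  let π0 : perf (up p K₁) →* K₁ := (p.comp (inclusion hle)).codRestrict K₁ hK
  have hker : ∀ x, (e.toMonoidHom.comp π0) x = 1 ↔ (x : G) ∈ centralizerPPrimeCore 2 (z1 f) := by
    intro x
    have h1 : (e.toMonoidHom.comp π0) x = e (π0 x) := rfl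
    rw [h1, map_eq_one_iff e e.injective]
    have h2 : π0 x = 1 ↔ p (inclusion hle x) = 1 :=
      ⟨fun h => congrArg Subtype.val h, fun h => Subtype.ext h⟩
    rw [h2, I.hz.ker]
    rfl
  refine ⟨e.toMonoidHom.comp π0, ?_, ?_, ?_⟩
  · intro k
    obtain ⟨k', rfl⟩ := e.surjective k
    obtain ⟨x, hx, mx, hxk⟩ := exists_lift I.hz.surj I.perf₁ k'.2
    refine ⟨⟨x, hx⟩, ?_⟩
    change e (π0 ⟨x, hx⟩) = e k'
    congr 1
    exact Subtype.ext hxk
  · intro x hx
    rw [mem_center_iff]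
    intro g
    have h1 := (hker x).1 hx
    exact Subtype.ext (I.o₁ _ h1 _ g.2).symm
  · have h1 : ((e.toMonoidHom.comp π0).ker).map (perf (up p K₁)).subtype ≤ centralizerPPrimeCore 2 (z1 f) := by
      rintro _ ⟨x, hx, rfl⟩
      exact (hker x).1 hx
    have h2 := card_dvd_of_le h1
    rw [card_map_of_injective (subtype_injective _)] at h2
    exact Odd.of_dvd_nat (K_odd (z1 f)) h2

/-- a group of type B1 is not abelian, so a simple one has trivial centre -/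
theorem center_eq_bot [IsSimpleGroup G] (h : BOne (P : Subgroup G) m f u w) : Subgroup.center G = ⊥ := by
  rcases (inferInstance : (Subgroup.center G).Normal).eq_bot_or_eq_top with h1 | h1
  · exact h1
  · exfalso
    apply h.u_not_mem_Tor
    refine h.mem_Tor_of_comm h.u_mem fun i => ?_
    have h2 : u ∈ Subgroup.center G := by rw [h1]; exact Subgroup.mem_top u
    exact (Subgroup.mem_center_iff.1 h2 _).symm

/-- `G₀ = G` -/
theorem GZ_eq_top [IsSimpleGroup G] {L1 L2 : Subgroup G} (hR : RIn P f u w L1 L2)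
    (hN : normalizer (GZ f L1 : Set G) = ⊤) : GZ f L1 = ⊤ := by
  have hn : (GZ f L1).Normal := Subgroup.normalizer_eq_top_iff.1 hN
  rcases hn.eq_bot_or_eq_top with h1 | h1
  · exfalso
    have h2 : z1 f ∈ GZ f L1 := L1_le_GZ hR.z1_mem
    rw [h1, mem_bot] at h2
    exact RFive.z1_ne hR h2
  · exact h1

/-- **Type B1**: the end. -/
theorem conclLU [IsSimpleGroup G] (I : RCon.In P m f u w F p K₁ K₂ y) (hF : Odd (Fintype.card F))
    (hperm : ∀ ρ : Equiv.Perm (Fin 4), ∃ n ∈ normalizer (Tor f : Set G), ∀ i, n * X f i * n⁻¹ = X f (ρ i))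
    (hcent : ∀ n ∈ normalizer (Tor f : Set G), (∀ i, n * X f i = X f i * n) → ∀ t ∈ Tor f, n * t = t * n)
    (hd : ∃ d, DD f u d 0)
    {Q : Sylow 2 (centralizer ({x4 f} : Set G))}
    (hQ : (Q : Subgroup (centralizer ({x4 f} : Set G))) = (Sx f u).subgroupOf (centralizer ({x4 f} : Set G)))
    {ρ : centralizer ({x4 f} : Set G)}
    (hx : XDat Q m (lft (centralizer ({x4 f} : Set G)) f) ⟨u, I.model.cx_u_mem_cent⟩ ρ)
    {L : Subgroup ((centralizer ({x4 f} : Set G) : Subgroup G) ⧸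
      Cfsg.pPrimeCore 2 (centralizer ({x4 f} : Set G) : Subgroup G))}
    (hL : CentXTail.Out Q hx.Wr (Dd (lft (centralizer ({x4 f} : Set G)) f) ρ) L) (hT : Typ L) : LFour.ConclLU G := by
  have h2 : (2 : F) ≠ 0 := RIn.two_ne_zero_of_odd_card hF
  have h3 : 3 < Nat.card F := by rw [Nat.card_eq_fintype_card]; exact I.three_lt h2
  have hR := I.rin h2 (fun ρ => by
    obtain ⟨n, hn, hn'⟩ := hperm ρ
    exact ⟨n, hn, hn'⟩) (fun n hn => by
    obtain ⟨σ, hσ⟩ := FusA.exists_perm I.model.e_sf hn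
    exact ⟨σ, hn, hσ⟩)
  have hcl : ClDat (P : Subgroup G) f u w (normalizer (GZ f (perf (up p K₁)) : Set G)) :=
    { toBOne := I.model
      hz := hR.cent_z1_le
      hT := RIn.normalizer_Tor_le
      hperm := hperm
      hcent := hcent
      hd := by
        obtain ⟨d, hd⟩ := hd
        exact ⟨d, 0, hd⟩ }
  have hne : ¬ IsConj (z1 f) (x4 f) := by
    rintro hc
    obtain ⟨g, hg⟩ := isConj_iff.1 hc
    exact I.model.fus_z1_X g 3 hg
  have hN := hcl.eq_top_of_typ hQ hx hL hT hne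
  have hG := GZ_eq_top hR hN
  have hc : Subgroup.center G = ⊥ := center_eq_bot I.model
  obtain ⟨π, hπ, hπk, hπo⟩ := exists_pi I
  refine hR.conclLU hG hc h2 h3 hπ hπk hπo (L := L) hL.normal hL.odd ?_
  rcases hT with ⟨F1, _, _, hF1, he⟩ | ⟨F1, _, _, r, hF1, hr, he⟩
  · exact Or.inl ⟨F1, _, _, Nat.odd_iff.2 (by omega), he⟩
  · exact Or.inr ⟨F1, _, _, r, hF1, Nat.odd_iff.2 (by omega), he⟩

end Cfsg.Agent.LFourB.BOneEnd
end

-- part: LFour/BranchBOne
section
set_option linter.all false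
open scoped Cfsg.Agent.FastGrp

/-!
# Statement S0510: branch B1
-/

set_option autoImplicit false
set_option linter.unusedSectionVars false

namespace Cfsg.Agent.LFour.BranchBOne

open Subgroup Cfsg Cfsg.Agent.LFourB Cfsg.Agent.LFourB.KTrans Cfsg.Agent.LFourB.ProdCent
open Cfsg.Agent.LFourA.CzCt Cfsg.Agent.LFourA.KlQuot Cfsg.Agent.LFourB.KLoc Cfsg.Agent.LFourB.KForm
open Cfsg.Agent.LFourB.BOneFacts Cfsg.Agent.SylowSp4

universe u

section

variable {G : Type u} [Group G] [Finite G] {P : Sylow 2 G} {m : ℕ} {f : R m → R m → R m → G} {u w : G}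
  {F : Type} [Field F] [Fintype F]
  {K₁ K₂ : Subgroup (centralizer ({z1 f} : Set G) ⧸ Cfsg.oddCore (centralizer ({z1 f} : Set G)))}
  {Q : Sylow 2 ↥(centralizer ({x4 f} : Set G))} {ρ : ↥(centralizer ({x4 f} : Set G))}
  {L : Subgroup ((centralizer ({x4 f} : Set G) : Subgroup G) ⧸
      Cfsg.pPrimeCore 2 (centralizer ({x4 f} : Set G) : Subgroup G))}

theorem mod_eight (h : Facts P m f u w F K₁ K₂ Q ρ L) : Fintype.card F % 8 = 1 ∨ Fintype.card F % 8 = 7 := by
  rcases h.cmp with ⟨_, _, _, -, h1, -⟩ | ⟨_, _, _, -, h1, -⟩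
  · exact Or.inl h1
  · exact Or.inr h1

/-- **Closing.** -/
theorem closing (h : Facts P m f u w F K₁ K₂ Q ρ L) {M : Subgroup G} (h1 : centralizer ({z1 f} : Set G) ≤ M)
    (h2 : normalizer (Tor f : Set G) ≤ M) : M = ⊤ := by
  have hcl : ClDat (P : Subgroup G) f u w M :=
    { toBOne := h.one
      hz := h1
      hT := h2
      hperm := h.perm
      hcent := h.fix
      hd := by
        obtain ⟨d, hd⟩ := h.dd
        exact ⟨d, 0, hd⟩ }
  have hne : ¬ IsConj (z1 f) (x4 f) := by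
    rintro hc
    obtain ⟨g, hg⟩ := isConj_iff.1 hc
    exact h.one.fus_z1_X g 3 hg
  exact hcl.eq_top_of_typ h.Q_eq h.x h.out h.cmp.typ hne

/-- **Everything about `C(z1)`.** -/
theorem exists_in [IsSimpleGroup G] (h : Facts P m f u w F K₁ K₂ Q ρ L) :
    ∃ y, RCon.In P m f u w F (Cfsg.Agent.LFourA.Quot.pr (centralizer ({z1 f} : Set G))) K₁ K₂ y := by
  obtain ⟨n, x, y, hc⟩ := exists_conf h.one h.z12
  have h2 : (2 : F) ≠ 0 := RDefs.RIn.two_ne_zero_of_odd_card h.odd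
  have l := KInstB.locB h.one h.cz hc
  have o := KInstB.orbB h.one h2 h.cz hc
  have hinv : ∀ b ∈ EE f x y, b ∉ HH f x → ∀ a ∈ centralizerPPrimeCore 2 (z1 f), b * a * b⁻¹ = a⁻¹ :=
    fun b hb hbH a ha => KEndB.inv_core h.one h.cz hc h2 (mod_eight h) (fun M h1 h2 => closing h h1 h2) hb hbH ha
  have hyE : y ∈ EE f x y := subset_closure (Or.inr (Or.inr (Or.inr rfl)))
  have hz2E : z2 f ∈ EE f x y := subset_closure (Or.inr (Or.inl rfl))
  have hz2H : z2 f ∈ HH f x := subset_closure (Or.inr (Or.inl rfl))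
  have hyH : y ∉ HH f x := by
    intro hy
    have h3 : EE f x y ≤ HH f x := by
      rw [EE, closure_le]
      rintro g (rfl | rfl | rfl | hg)
      · exact subset_closure (Or.inl rfl)
      · exact subset_closure (Or.inr (Or.inl rfl))
      · exact subset_closure (Or.inr (Or.inr rfl))
      · rw [Set.mem_singleton_iff.1 hg]; exact hy
    have h4 := card_le_of_le h3
    rw [o.card, o.cardH] at h4
    omega
  have hyz : y * z1 f = z1 f * y := o.comm hyE o.z_memE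
  have hyy : y * y = 1 := hc.y_y
  have hinvy := hinv y hyE hyH
  refine ⟨y, ?_⟩
  exact
    { model := h.one
      hz :=
        { surj := h.cz.surj
          ker := h.cz.ker
          comm := h.cz.comm
          z₁ := h.cz.z₁
          z₂ := h.cz.z₂
          inf := h.cz.inf
          norm := h.cz.norm
          cent := l.cent
          e₁ := h.cz.e₁
          e₂ := h.cz.e₂ }
      perf₁ := h.cz.perf₁
      perf₂ := h.cz.perf₂
      q₁ := h.cz.q₁
      q₂ := h.cz.q₂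
      s₁ := h.cz.s₁
      s₂ := h.cz.s₂
      yz := hyz
      yy := hyy
      inv := hinvy
      sw₁ := (l.swap y hyE hyH _).1
      sw₂ := (l.swap y hyE hyH _).2
      cz2 := by
        intro a ha
        have hzy : z2 f * y ∉ HH f x := fun h0 => hyH (by
          have := mul_mem (inv_mem hz2H) h0
          rwa [inv_mul_cancel_left] at this)
        have h3 := hinv (z2 f * y) (mul_mem hz2E hyE) hzy a ha
        have h4 := hinvy a⁻¹ (inv_mem ha)
        have h5 : z2 f * (y * a * y⁻¹) * (z2 f)⁻¹ = a⁻¹ := by rw [← h3]; group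
        rw [hinvy a ha] at h5
        have h6 : z2 f * a * (z2 f)⁻¹ = a := by
          have h7 := congrArg (·⁻¹) h5
          simp only [mul_inv_rev, inv_inv] at h7
          rw [← mul_assoc] at h7
          exact h7
        exact (mul_inv_eq_iff_eq_mul.1 h6).symm }

/-- **Branch B1** from the facts. -/
theorem concl_of_facts [IsSimpleGroup G] (h : Facts P m f u w F K₁ K₂ Q ρ L) : ConclLU G := by
  obtain ⟨y, I⟩ := exists_in h
  exact BOneEnd.conclLU I h.odd h.perm h.fix h.dd h.Q_eq h.x h.out h.cmp.typ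

end

/-- **Branch B1.** -/
theorem branchB1LU
    (hFT : ∀ (K : Type u) [Group K] [Finite K], Odd (Nat.card K) → Group.IsSolvable K)
    (h523 : ∀ (K : Type u) [Group K] [Finite K] [IsSimpleGroup K] (S : Sylow 2 K),
      Cfsg.IsWreathed (S : Subgroup K) →
      (∃ (F : Type) (_ : Field F) (_ : Fintype F), Odd (Fintype.card F) ∧
          Nonempty (K ≃* Matrix.ProjectiveSpecialLinearGroup (Fin 3) F)) ∨
        (∃ (F : Type) (_ : Field F) (_ : Fintype F) (q : ℕ), Fintype.card F = q ^ 2 ∧ Odd q ∧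
          Nonempty (K ≃* Cfsg.PSU 3 F q)) ∨
        Cfsg.IsM11 K)
    (hPT : Hyps.ProductThm.{u}) (hGW : Hyps.GW.{u}) : BranchB1LU.{u} := by
  intro G _ _ _ P m f u w h
  obtain ⟨u', F, _, _, K₁, K₂, Q, ρ, L, hF⟩ := exists_facts hFT h523 hPT hGW P h
  exact concl_of_facts hF

end Cfsg.Agent.LFour.BranchBOne
end

-- part: LFour/PatTwo
section
set_option linter.all false
open scoped Cfsg.Agent.FastGrp

/-!
# Statement S0510, `q = 5 mod 8`: the pattern (a2) of `PSL_4(q)`, `PSU_4(q)`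

`|F| = 3` : `QThreeLU.concl`; `|F| = 5` : `InpFive.concl`; `|F| > 5` : `Final.concl`.
-/

set_option autoImplicit false

namespace Cfsg.Agent.LFour.PatTwo

open Subgroup Cfsg
open Cfsg.Agent.LFourB M7 MSevenFd MSevenFf
open Cfsg.Agent.LFourR

universe u

/-- **Pattern (a2).** -/
theorem main
    (hC1 : ∀ (G : Type u) [Group G] [Finite G] (P : Sylow 2 G) (A B : Subgroup G), A ⊓ B = ⊥ →
      Cfsg.IsStronglyClosed A (P : Subgroup G) → Cfsg.IsStronglyClosed B (P : Subgroup G) →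
      ⁅Subgroup.normalClosure (A : Set G), Subgroup.normalClosure (B : Set G)⁆ ≤ Cfsg.oddCore G)
    (hGW : ∀ (X : Type u) [Group X] [Finite X] [Group.IsPerfect X]
      (S : Sylow 2 X) (n : ℕ), 2 ≤ n → Nonempty ((S : Subgroup X) ≃* DihedralGroup n) →
      (∃ (F : Type) (_ : Field F) (_ : Fintype F), Odd (Fintype.card F) ∧ 3 < Fintype.card F ∧
        Nonempty (X ⧸ Cfsg.oddCore X ≃* Matrix.ProjectiveSpecialLinearGroup (Fin 2) F)) ∨
      Nonempty (X ⧸ Cfsg.oddCore X ≃* alternatingGroup (Fin 7)))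
    (hben : ∀ (L : Type u) [Group L] [Finite L] [IsSimpleGroup L], (∃ a b : L, a * b ≠ b * a) → StepEight.Bender L)
    (h484 : ∀ (F : Type) [Field F] [Fintype F], St484.{u, 0} F)
    (h485 : ∀ (K : Type) [Field K] [Fintype K] (q : ℕ), St485.{u, 0} K q)
    (R : ∀ (G : Type u) [Group G] [Finite G] [IsSimpleGroup G], QThreeEnd.RecAA G) : BFive.PatTwo.{u} := by
  intro G _ _ _ S φ Fu hτ hQ
  have hE := Fu.emb
  have hG : ∀ H : Subgroup G, H.index ≠ 2 := EightInst.index_ne_two hE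
  have hnc := BFive.exists_noncomm hE
  have hB := hben G hnc
  obtain ⟨X, i1, i2, p, K₁, K₂, F, i3, i4, hodd, hC, hS⟩ := StepSixInst.patternTwo Fu hC1 hGW hτ hQ
  obtain ⟨ρ, hρ⟩ := MSevenFf.Fus.exists_rho Fu hτ hQ
  have hmod := NumFive.card_mod hE hC hS hodd
  have hcl := ClBFive.closed Fu hQ hρ hB
  by_cases h3 : Fintype.card F = 3
  · have hO := KFive.core_eq_bot Fu hG hτ hQ hρ hB hC hS hodd (by omega)
    have hz1 : φ z ≠ 1 := by
      intro h1
      rw [← map_one φ] at h1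
      exact absurd (hE.inj h1) (by decide)
    have hz2 : orderOf (φ z) = 2 := by
      refine orderOf_eq_prime ?_ hz1
      rw [← map_pow]
      have : z ^ 2 = 1 := by decide
      rw [this, map_one]
    have h7 : 2 ^ 7 ∣ Nat.card (Subgroup.centralizer ({φ z} : Set G)) := by
      have h1 := Subgroup.card_dvd_of_le (MSevenFa.S_le_H hE)
      rw [hE.card] at h1
      exact h1
    refine QThreeLU.concl (R G) ?_ hz2 h3 hC hO h7
    intro hc
    obtain ⟨a, b, hab⟩ := hnc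
    exact hab (hc.1.1 a b)
  · by_cases h5 : Fintype.card F = 5
    · obtain ⟨ρ', hI⟩ := InpFiveInst.exists_inp Fu hG hτ hQ hB hC hS h5
      exact hI.concl
    · have h3' : 3 < Fintype.card F := by
        have h4 : 1 < Fintype.card F := Fintype.one_lt_card
        rw [Nat.odd_iff] at hodd
        omega
      have hL := LBFive.exists_lb hE hC hS hodd h3' (by omega)
        (KFive.core_inv_x2 Fu hG hτ hQ hρ hB hC hS hodd)
      obtain ⟨ε, N, hP⟩ := PreFive.pre hE hL hρ hodd h3' hmod h5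
      exact Final.concl (hP.toInp hcl) (hP.sup_eq_top hcl) h484 h485

end Cfsg.Agent.LFour.PatTwo
end

-- part: LFour/ExtAll
section
set_option linter.all false

/-!
# S0510: the four branches and the refined theorem
-/

set_option autoImplicit false

namespace Cfsg.Agent.LFour.ExtAll

open Subgroup Cfsg

universe u v

/-- S0523 -/
theorem h523 (K : Type u) [Group K] [Finite K] [IsSimpleGroup K] (S : Sylow 2 K)
    (hS : Cfsg.IsWreathed (S : Subgroup K)) :
    (∃ (F : Type) (_ : Field F) (_ : Fintype F), Odd (Fintype.card F) ∧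
        Nonempty (K ≃* Matrix.ProjectiveSpecialLinearGroup (Fin 3) F)) ∨
      (∃ (F : Type) (_ : Field F) (_ : Fintype F) (q : ℕ), Fintype.card F = q ^ 2 ∧ Odd q ∧
        Nonempty (K ≃* Cfsg.PSU 3 F q)) ∨
      Cfsg.IsM11 K :=
  Cfsg.Agent.S0523.result S hS

/-- Pattern (a2). -/
theorem patTwo : BFive.PatTwo.{u} :=
  PatTwo.main ExtMain.commThm ExtMain.gw BFiveExt.ben (fun F => ExtMain.h484 F) (fun K _ _ q => ExtMain.h485 K q)
    (fun G => RecAA.recAA G)

/-- **Branch B5.** -/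
theorem branchB5 : BranchB5R.{u} := ExtMain.branchB5_of patTwo

/-- **Branch B1.** -/
theorem branchB1 : BranchB1LU.{u} :=
  BranchBOne.branchB1LU (fun _ _ _ h => Cfsg.Agent.S0205.result h) (fun K _ _ _ S hS => h523 K S hS)
    Cfsg.Agent.S0509.productThm Cfsg.Agent.S0509.gw

/-- **The refined form of S0510.** -/
theorem conclR {G : Type u} [Group G] [Finite G] [IsSimpleGroup G]
    {F : Type v} [Field F] [Fintype F] (hF : Odd (Fintype.card F)) (S : Sylow 2 G)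
    (P : Sylow 2 (Matrix.ProjectiveSpecialLinearGroup (Fin 4) F))
    (hS : Nonempty ((S : Subgroup G) ≃* (P : Subgroup (Matrix.ProjectiveSpecialLinearGroup (Fin 4) F)))) : ConclR G :=
  mainR ExtMain.branchA1 ExtMain.branchA2 branchB1 branchB5 hF S P hS

end Cfsg.Agent.LFour.ExtAll
end
end
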